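import Groth.Agent.CurveFF.Sections
import Groth.Agent.S9777
import Groth.Agent.S9370
import Groth.Agent.S9386
import Groth.Agent.DegDevLib.BC
import Groth.Agent.ShBCLib.Finrank
import Groth.Agent.KRRAmple.Basic
import Groth.Agent.InfLiftLib.Smooth
import Groth.Agent.VBLib.Point
import Groth.Agent.CurveLib.MaxSections

/-!
# The sheaf of differentials of a smooth proper curve over an arbitrary field
-/

set_option autoImplicit false
set_option backward.isDefEq.respectTransparency false
set_option maxHeartbeats 800000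
set_option linter.style.haveILetI false

universe u

open CategoryTheory CategoryTheory.Limits AlgebraicGeometry TopologicalSpace Opposite
open Groth.Agent.PullbackMod

noncomputable section

namespace Groth.Agent.CurveFF

attribute [local instance] Curv2.stalkAlgebra
attribute [local instance high] FunFld.Place.algRes

theorem connectedSpace_of_isField {Y : Scheme.{u}} (h : IsField Γ(Y, ⊤)) : ConnectedSpace Y := by
  haveI : Nonempty Y := by
    by_contra hY
    rw [not_nonempty_iff] at hY
    haveI : Subsingleton Γ(Y, ⊤) := by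
      rw [show (⊤ : Y.Opens) = ⊥ from Opens.ext (Set.eq_empty_of_isEmpty _ |>.trans (Set.eq_empty_of_isEmpty _).symm)]
      exact CommRingCat.subsingleton_of_isTerminal (Y.sheaf.isTerminalOfEqEmpty rfl)
    exact h.exists_pair_ne.elim fun a ⟨b, hab⟩ => hab (Subsingleton.elim a b)
  refine @ConnectedSpace.mk _ _ (preconnectedSpace_iff_clopen.2 fun s hs => ?_) inferInstance
  by_contra hne
  push Not at hne
  let W : Bool → Y.Opens := fun b => if b then ⟨s, hs.isOpen⟩ else ⟨sᶜ, hs.compl.isOpen⟩
  let sf : ∀ b, Γ(Y, W b) := fun b => if b then 1 else 0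
  obtain ⟨e, he⟩ : ∃ e : Γ(Y, ⊤), ∀ b, Y.presheaf.map (homOfLE (le_top : W b ≤ ⊤)).op e = sf b := by
   obtain ⟨e, he, -⟩ := Y.sheaf.existsUnique_gluing' W ⊤ (fun b => homOfLE le_top)
     (fun x _ => by
       by_cases hx : x ∈ s
       · exact Opens.mem_iSup.2 ⟨true, hx⟩
       · exact Opens.mem_iSup.2 ⟨false, hx⟩)
     sf (fun i j => by
       rcases i with _ | _ <;> rcases j with _ | _ <;> first
         | rfl
         | (haveI : Subsingleton Γ(Y, W false ⊓ W true) := CommRingCat.subsingleton_of_isTerminal (Y.sheaf.isTerminalOfEqEmpty (Opens.ext (by ext x; simp [W])))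
            exact @Subsingleton.elim _ ‹_› _ _)
         | (haveI : Subsingleton Γ(Y, W true ⊓ W false) := CommRingCat.subsingleton_of_isTerminal (Y.sheaf.isTerminalOfEqEmpty (Opens.ext (by ext x; simp [W])))
            exact @Subsingleton.elim _ ‹_› _ _))
   exact ⟨e, he⟩
  obtain ⟨x, hx⟩ := hne.1
  obtain ⟨y, hy⟩ := (Set.ne_univ_iff_exists_notMem _).1 hne.2
  rcases eq_or_ne e 0 with rfl | he0
  · have h1 := he true
    have : (0 : Γ(Y, W true)) = 1 := (map_zero (Y.presheaf.map (homOfLE le_top).op).hom).symm.trans h1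
    have h2 := congrArg (Y.presheaf.germ (W true) x hx) this
    rw [map_zero, map_one] at h2
    exact zero_ne_one h2
  · obtain ⟨a, ha⟩ := h.mul_inv_cancel he0
    have h1 := he false
    let r : Γ(Y, ⊤) →+* Γ(Y, W false) := (Y.presheaf.map (homOfLE (le_top : W false ≤ ⊤)).op).hom
    have e0 : r e = 0 := h1
    have : (0 : Γ(Y, W false)) = 1 := by
      rw [← map_one r, ← zero_mul (r a), ← e0, ← map_mul r]
      exact congrArg r ha
    have h2 := congrArg (Y.presheaf.germ (W false) y hy) this
    rw [map_zero, map_one] at h2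
    exact zero_ne_one h2


variable {k : Type u} [Field k] {X : Scheme.{u}} [X.Over (Spec (CommRingCat.of k))]
  [IsProper (X ↘ Spec (CommRingCat.of k))]

theorem topologicalKrullDim_fiber_eq {Y : Scheme.{u}} {K : Type u} [Field K] (f : Y ⟶ Spec (CommRingCat.of K))
    (y : ↥(Spec (CommRingCat.of K))) : topologicalKrullDim ↑(f.fiber y) = topologicalKrullDim Y := by
  haveI : Subsingleton ↥(Spec (CommRingCat.of K)) := inferInstanceAs (Subsingleton (PrimeSpectrum K))
  have h : f ⁻¹' {y} = Set.univ := Set.eq_univ_of_forall fun _ => Subsingleton.elim _ _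
  exact ((f.fiberHomeo y).trans ((Homeomorph.setCongr h).trans (Homeomorph.Set.univ Y))).isHomeomorph.topologicalKrullDim_eq

variable (k X) in
theorem dim_bc (K : Type u) [Field K] [Algebra k K] :
    topologicalKrullDim (Curv2.bc k X K) = topologicalKrullDim X := by
  obtain ⟨y⟩ : Nonempty ↥(Spec (CommRingCat.of K)) := inferInstanceAs (Nonempty (PrimeSpectrum K))
  have h := Groth.Agent.S9777.result (X ↘ Spec (CommRingCat.of k)) (Spec.map (CommRingCat.ofHom (algebraMap k K)))
    (Curv2.bc k X K ↘ Spec (CommRingCat.of K)) (Curv2.bcFst k X K) (IsPullback.of_hasPullback _ _) y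
  rwa [topologicalKrullDim_fiber_eq, topologicalKrullDim_fiber_eq] at h

variable (k) in
theorem finrank_H0_bc_structure (K : Type u) [Field K] [Algebra k K] :
    Module.finrank K (Coh.HH (Curv2.bc k X K) (Coh.structureModule (Curv2.bc k X K)) 0) =
      Module.finrank k (Coh.HH X (Coh.structureModule X) 0) := by
  haveI : Coh.IsQCoh (Coh.structureModule X) := CohBase.isQCoh_structureModule
  rw [← ShBCLib.finrank_HH_bc k K (Coh.structureModule X) 0]
  exact ShBCLib.finrank_HH_iso (DCohLib.pullStructureIso (Curv2.bcFst k X K)).symm 0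

variable (k X) in
theorem genus_bc (K : Type u) [Field K] [Algebra k K] : Curv2.genus K (Curv2.bc k X K) = Curv2.genus k X := by
  haveI : Coh.IsQCoh (Coh.structureModule X) := CohBase.isQCoh_structureModule
  show Module.finrank K _ = Module.finrank k _
  rw [← ShBCLib.finrank_HH_bc k K (Coh.structureModule X) 1]
  exact ShBCLib.finrank_HH_iso (DCohLib.pullStructureIso (Curv2.bcFst k X K)).symm 1

variable [Smooth (X ↘ Spec (CommRingCat.of k))] (hdim : topologicalKrullDim X = 1)
  (h0 : Module.finrank k (Coh.HH X (Coh.structureModule X) 0) = 1)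
include hdim h0

variable (k) in
include k in
/-- A smooth proper curve with constants `k` is geometrically a smooth proper integral curve. -/
theorem setup_bc (K : Type u) [Field K] [Algebra k K] :
    Smooth (Curv2.bc k X K ↘ Spec (CommRingCat.of K)) ∧ IsIntegral (Curv2.bc k X K) ∧
      VBLib.IsRegCurve (Curv2.bc k X K) ∧ topologicalKrullDim (Curv2.bc k X K) = 1 := by
  haveI : Smooth (Curv2.bc k X K ↘ Spec (CommRingCat.of K)) :=
    inferInstanceAs (Smooth (pullback.snd (X ↘ Spec (CommRingCat.of k)) (Spec.map (CommRingCat.ofHom (algebraMap k K)))))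
  have hd := (dim_bc k X K).trans hdim
  haveI := EulerIneqLib.isNoetherian_proper (X := Curv2.bc k X K) K
  have h1 := (finrank_H0_bc_structure k (X := X) K).trans h0
  let Y := Curv2.bc k X K
  let φ : K →+* Γ(Y, ⊤) := Coh.toGlobal (Y ↘ Spec (CommRingCat.of K))
  letI := φ.toAlgebra
  let e : Coh.HH Y (Coh.structureModule Y) 0 ≃ₗ[K] Γ(Y, ⊤) :=
    { (CurveLib.secOf (Coh.structureModule Y)) with
      map_smul' := fun r c => CurveLib.secOf_smul (k := K) _ r c }
  rw [e.finrank_eq] at h1
  have hF : IsField Γ(Y, ⊤) := by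
    have hb : Function.Bijective (algebraMap K Γ(Y, ⊤)) := by
      haveI : Module.Finite K Γ(Y, ⊤) := Module.finite_of_finrank_eq_succ h1
      haveI : Nontrivial Γ(Y, ⊤) := Module.nontrivial_of_finrank_eq_succ h1
      exact ⟨RingHom.injective _, LinearMap.range_eq_top.1 (Submodule.eq_top_of_finrank_eq (by
        rw [LinearMap.finrank_range_of_inj (f := Algebra.linearMap K Γ(Y, ⊤)) (RingHom.injective _),
          Module.finrank_self, h1]))⟩
    exact (RingEquiv.ofBijective _ hb).symm.toMulEquiv.isField (Field.toIsField K)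
  haveI : ConnectedSpace (Curv2.bc k X K) := connectedSpace_of_isField hF
  exact ⟨inferInstance, CurveLib.isIntegral_of_smooth K, VBLib.isRegCurve_of_smooth K hd.le, hd⟩

omit hdim h0 [IsProper (X ↘ Spec (CommRingCat.of k))] [Smooth (X ↘ Spec (CommRingCat.of k))] in
/-- Differentials commute with extension of the ground field. -/
theorem nonempty_omega_bc [QuasiSeparated (X ↘ Spec (CommRingCat.of k))] (K : Type u) [Field K] [Algebra k K]
    [QuasiSeparated (Curv2.bc k X K ↘ Spec (CommRingCat.of K))] :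
    Nonempty (ShBCLib.bcPull k K (om k X) ≅ om K (Curv2.bc k X K)) := by
  obtain ⟨c, hc, -⟩ := Groth.Agent.S9370.result (X ↘ Spec (CommRingCat.of k)) (Curv2.bc k X K ↘ Spec (CommRingCat.of K))
    (Curv2.bcFst k X K) (Spec.map (CommRingCat.ofHom (algebraMap k K)))
    (IsPullback.of_hasPullback (X ↘ Spec (CommRingCat.of k)) (Spec.map (CommRingCat.ofHom (algebraMap k K)))).w.symm
    _ _ (OmegaUnivLib.isUniversal_dOmega _) _ _ (OmegaUnivLib.isUniversal_dOmega _)
  haveI := Groth.Agent.S9386.result _ _ _ _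
    (IsPullback.of_hasPullback (X ↘ Spec (CommRingCat.of k)) (Spec.map (CommRingCat.ofHom (algebraMap k K))))
    _ _ (OmegaUnivLib.isUniversal_dOmega _) _ _ (OmegaUnivLib.isUniversal_dOmega _) c hc
  exact ⟨asIso c⟩

variable (k) in
include k in
/-- `deg Ω = 2g - 2` and `h⁰(Ω) = g`. -/
theorem omega_deg_h0 : Curv2.deg k X (om k X) 1 = 2 * (Curv2.genus k X : ℤ) - 2 ∧
    Module.finrank k (Coh.HH X (om k X) 0) = Curv2.genus k X := by
  let K := AlgebraicClosure k
  obtain ⟨_, _, _, hd⟩ := setup_bc k hdim h0 K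
  haveI := EulerIneqLib.isNoetherian_proper (X := X) k
  haveI := OmegaAffLib.isQCoh_omega (X ↘ Spec (CommRingCat.of k))
  obtain ⟨φ⟩ := nonempty_omega_bc (k := k) (X := X) K
  constructor
  · rw [← genus_bc k X K, ← omega_deg K hd, ← CurveLib.deg_iso φ]
    exact (DegDevLib.deg_bc k X K (om k X) 1).symm
  · rw [← genus_bc k X K, ← omega_h0 K hd, ← ShBCLib.finrank_HH_bc k K (om k X) 0]
    exact ShBCLib.finrank_HH_iso φ 0

variable (k) in
include k in
theorem omega_invertible_of_smooth [IsIntegral X] : PicF.IsInvertible (om k X) := by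
  let K := AlgebraicClosure k
  obtain ⟨_, _, _, hd⟩ := setup_bc k hdim h0 K
  obtain ⟨φ⟩ := nonempty_omega_bc (k := k) (X := X) K
  obtain ⟨n, hn⟩ := KRRAmple.exists_isFinLocFreeOfRank (InfLiftLib.isFinLocFree_omega (X ↘ Spec (CommRingCat.of k)))
  haveI := (isQCoh_and_isFP_of_isFinLocFree _ (InfLiftLib.isFinLocFree_omega (X ↘ Spec (CommRingCat.of k)))).1
  have hfp := (isQCoh_and_isFP_of_isFinLocFree _ (InfLiftLib.isFinLocFree_omega (X ↘ Spec (CommRingCat.of k)))).2
  obtain ⟨y⟩ : Nonempty ↥(Curv2.bc k X K) := inferInstance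
  have h1 : FreeAt n (ShBCLib.bcPull k K (om k X)) y :=
    freeAt_pullback (M := om k X) (Curv2.bcFst k X K) y ((isFinLocFreeOfRank_iff_freeAt _ hfp n).1 hn _)
  have hK := CurveLib.isFinLocFreeOfRank_one (omega_invertible K hd)
  haveI := OmegaAffLib.isQCoh_omega (Curv2.bc k X K ↘ Spec (CommRingCat.of K))
  have h2 : FreeAt 1 (om K (Curv2.bc k X K)) y := (isFinLocFreeOfRank_iff_freeAt _
    (isQCoh_and_isFP_of_isFinLocFree _ (InfLiftLib.isFinLocFree_omega _)).2 1).1 hK y
  have h3 : FreeAt n (om K (Curv2.bc k X K)) y := by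
    obtain ⟨E⟩ := h1
    exact ⟨(LinearEquiv.ofBijective (stalkLin φ.hom y) ((isIso_iff_stalk φ.hom).1 inferInstance y)).symm.trans E⟩
  obtain rfl : n = 1 := by rw [← fibreRank_eq_of_freeAt _ h3, fibreRank_eq_of_freeAt _ h2]
  exact VBLib.isInvertible_of_rank hn

end Groth.Agent.CurveFF
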