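import Groth.Agent.NormalSch.CurveVal
import Groth.Agent.FF.RR
import Groth.Agent.VBLib.Regular
import Groth.Agent.ASp.Basic

/-!
# Closed points of a regular proper curve as places of its function field
-/

set_option autoImplicit false
set_option backward.isDefEq.respectTransparency false
set_option maxHeartbeats 800000
set_option linter.style.haveILetI false

universe u

open CategoryTheory AlgebraicGeometry TopologicalSpace Opposite IsLocalRing
open scoped WithZero

noncomputable section

namespace Groth.Agent.CurveFF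

attribute [local instance] Curv2.stalkAlgebra
attribute [local instance high] FunFld.Place.algRes

variable {k : Type u} [Field k] {X : Scheme.{u}} [X.Over (Spec (CommRingCat.of k))]
  [IsProper (X ↘ Spec (CommRingCat.of k))] [IsIntegral X] [VBLib.IsRegCurve X]

omit [IsProper (X ↘ Spec (CommRingCat.of k))] [IsIntegral X] [VBLib.IsRegCurve X] in
/-- The structure maps of the local rings are compatible with generization. -/
theorem stalkSpecializes_stalkMap {x y : X} (h : y ⤳ x) (c : k) :
    X.presheaf.stalkSpecializes h (Curv2.stalkMap k X x c) = Curv2.stalkMap k X y c :=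
  TopCat.Presheaf.germ_stalkSpecializes_apply X.presheaf (U := ⊤) trivial h _

omit [IsProper (X ↘ Spec (CommRingCat.of k))] [VBLib.IsRegCurve X] in
theorem algebraMap_stalkMap (x : X) (c : k) :
    algebraMap (X.presheaf.stalk x) X.functionField (algebraMap k (X.presheaf.stalk x) c) =
      algebraMap k X.functionField c :=
  stalkSpecializes_stalkMap ((genericPoint_spec X).specializes trivial) c

instance isScalarTower_stalk (x : X) : IsScalarTower k (X.presheaf.stalk x) X.functionField :=
  IsScalarTower.of_algebraMap_eq fun c => (algebraMap_stalkMap x c).symm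

omit [IsProper (X ↘ Spec (CommRingCat.of k))] in
theorem isNormalScheme : Pi1.IsNormalScheme X := fun x => by
  haveI := VBLib.IsRegCurve.pir (X := X) x
  exact ⟨inferInstance, inferInstance⟩

variable (hdim : topologicalKrullDim X = 1)
include hdim

omit [VBLib.IsRegCurve X] in
theorem dim_stalk {x : X} (hx : IsClosed ({x} : Set X)) : ringKrullDim (X.presheaf.stalk x) = 1 := by
  rw [ringKrullDim_stalk_eq_coheight]
  have hne : x ≠ genericPoint X := fun h => by
    have h1 : (Set.univ : Set X) ⊆ {x} := by
      rw [← (genericPoint_spec X).def, ← h]; exact hx.closure_eq.le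
    haveI : Subsingleton X := ⟨fun a b => (h1 (Set.mem_univ a)).trans (h1 (Set.mem_univ b)).symm⟩
    have := topologicalKrullDim_zero_of_discreteTopology X
    rw [hdim] at this
    exact absurd this (by norm_num)
  have hlt : x < genericPoint X := lt_of_le_not_ge ((genericPoint_spec X).specializes trivial)
    fun h => hne (((genericPoint_spec X).specializes trivial : genericPoint X ⤳ x).antisymm h).symm.eq
  refine le_antisymm ?_ ?_
  · have h2 := hdim.le
    rw [ASp.topologicalKrullDim_eq_krullDim] at h2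
    exact (Order.coheight_le_krullDim x).trans h2
  · have h3 := Order.coheight_add_one_le hlt
    exact_mod_cast le_trans le_add_self h3

variable (k) in
include k in
omit [VBLib.IsRegCurve X] in
theorem eq_generic_of_not_closed {x : X} (hx : ¬ IsClosed ({x} : Set X)) : x = genericPoint X :=
  (Groth.Agent.S4443.result k X fun _ h => dim_stalk hdim h).1 x hx

omit [IsProper (X ↘ Spec (CommRingCat.of k))] [VBLib.IsRegCurve X] in
theorem ne_generic {x : X} (hx : IsClosed ({x} : Set X)) : x ≠ genericPoint X := fun h => by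
  have h1 : (Set.univ : Set X) ⊆ {x} := by
    rw [← (genericPoint_spec X).def, ← h]; exact hx.closure_eq.le
  haveI : Subsingleton X := ⟨fun a b => (h1 (Set.mem_univ a)).trans (h1 (Set.mem_univ b)).symm⟩
  have := topologicalKrullDim_zero_of_discreteTopology X
  rw [hdim] at this
  exact absurd this (by norm_num)

variable (k) in
include k in
theorem isDVR {x : X} (hx : IsClosed ({x} : Set X)) : IsDiscreteValuationRing (X.presheaf.stalk x) :=
  NormalSch.isDVR_of_ne_generic k (fun _ h => dim_stalk hdim h) isNormalScheme (ne_generic hdim hx)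

variable (k) in
/-- The place of a closed point. -/
def placeOf (x : X) (hx : IsClosed ({x} : Set X)) : FunFld.Place k X.functionField :=
  haveI := isDVR k hdim hx
  ⟨(IsDiscreteValuationRing.maximalIdeal (X.presheaf.stalk x)).valuation X.functionField,
    fun c => by
      rw [IsScalarTower.algebraMap_apply k (X.presheaf.stalk x) X.functionField c]
      exact IsDedekindDomain.HeightOneSpectrum.valuation_le_one _ _,
    IsDedekindDomain.HeightOneSpectrum.valuation_surjective _ _⟩

theorem placeOf_le_one_iff {x : X} (hx : IsClosed ({x} : Set X)) (f : X.functionField) :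
    (placeOf k hdim x hx).1 f ≤ 1 ↔ f ∈ Set.range (algebraMap (X.presheaf.stalk x) X.functionField) := by
  haveI := isDVR k hdim hx
  refine ⟨fun h => ?_, fun ⟨a, ha⟩ => ha ▸ IsDedekindDomain.HeightOneSpectrum.valuation_le_one _ _⟩
  obtain ⟨y, hy⟩ := IsDiscreteValuationRing.exists_lift_of_le_one (A := X.presheaf.stalk x) h
  exact ⟨y, hy⟩

theorem coe_O_placeOf {x : X} (hx : IsClosed ({x} : Set X)) :
    ((placeOf k hdim x hx).O : Set X.functionField) =
      Set.range (algebraMap (X.presheaf.stalk x) X.functionField) :=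
  Set.ext fun f => placeOf_le_one_iff hdim hx f

omit [IsProper (X ↘ Spec (CommRingCat.of k))] [IsIntegral X] [VBLib.IsRegCurve X] hdim in
/-- Two places with the same valuation ring are equal. -/
theorem place_ext {K : Type u} [Field K] [Algebra k K] {P Q : FunFld.Place k K}
    (h : ∀ f : K, P.1 f ≤ 1 ↔ Q.1 f ≤ 1) : P = Q := by
  refine Subtype.ext (Valuation.ext fun f => ?_)
  rcases eq_or_ne f 0 with rfl | hf
  · simp
  have hlt : ∀ g : K, g ≠ 0 → (P.1 g < 1 ↔ Q.1 g < 1) := fun g hg => by
    have h1 := h g⁻¹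
    rw [map_inv₀, map_inv₀, inv_le_one₀ (zero_lt_iff.2 ((map_ne_zero _).2 hg)),
      inv_le_one₀ (zero_lt_iff.2 ((map_ne_zero _).2 hg))] at h1
    rw [← not_le, ← not_le, h1]
  obtain ⟨π, hπ⟩ := P.2.2 (WithZero.exp (-1))
  have hπ0 : π ≠ 0 := fun h0 => by rw [h0, map_zero] at hπ; exact WithZero.exp_ne_zero hπ.symm
  obtain ⟨ρ, hρ⟩ := Q.2.2 (WithZero.exp (-1))
  have hρ0 : ρ ≠ 0 := fun h0 => by rw [h0, map_zero] at hρ; exact WithZero.exp_ne_zero hρ.symm
  -- `ord` at `P` is a multiple of `ord` at `Q`, hence they are equal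
  obtain ⟨a, ha⟩ : ∃ a : ℤ, Q.1 π = WithZero.exp a := ⟨-Q.ord π, FF.v_eq_exp Q hπ0⟩
  obtain ⟨b, hb⟩ : ∃ b : ℤ, P.1 ρ = WithZero.exp b := ⟨-P.ord ρ, FF.v_eq_exp P hρ0⟩
  have ha' : a < 0 := by
    have := (hlt π hπ0).1 (by rw [hπ, ← WithZero.exp_zero, WithZero.exp_lt_exp]; omega)
    rw [ha, ← WithZero.exp_zero, WithZero.exp_lt_exp] at this; exact this
  have key : ∀ g : K, g ≠ 0 → ∀ n : ℤ, P.1 g = WithZero.exp n → Q.1 g = WithZero.exp (-n * a) := by
    intro g hg n hn
    have h1 : P.1 (g * π ^ n) = 1 := by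
      rw [map_mul, map_zpow₀, hπ, hn, ← WithZero.exp_zsmul, ← WithZero.exp_add, smul_eq_mul,
        show n + n * (-1) = 0 by ring, WithZero.exp_zero]
    have hne : g * π ^ n ≠ 0 := mul_ne_zero hg (zpow_ne_zero _ hπ0)
    have h2 : Q.1 (g * π ^ n) = 1 := le_antisymm ((h _).1 h1.le)
      (not_lt.1 fun hh => (not_lt.2 h1.ge) ((hlt _ hne).2 hh))
    rw [map_mul, map_zpow₀, ha, ← WithZero.exp_zsmul, smul_eq_mul] at h2
    obtain ⟨m, hm⟩ : ∃ m : ℤ, Q.1 g = WithZero.exp m := ⟨-Q.ord g, FF.v_eq_exp Q hg⟩
    rw [hm, ← WithZero.exp_add, ← WithZero.exp_zero, WithZero.exp_inj] at h2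
    rw [hm, WithZero.exp_inj]
    linarith
  have h3 := key ρ hρ0 b hb
  rw [hρ, WithZero.exp_inj] at h3
  have ha1 : a = -1 := by
    rcases Int.eq_one_or_neg_one_of_mul_eq_neg_one (show a * (-b) = -1 by linarith) with h4 | h4 <;> omega
  obtain ⟨n, hn⟩ : ∃ n : ℤ, P.1 f = WithZero.exp n := ⟨-P.ord f, FF.v_eq_exp P hf⟩
  rw [key f hf n hn, hn, ha1]
  congr 1
  ring

theorem placeOf_injective {x y : X} (hx : IsClosed ({x} : Set X)) (hy : IsClosed ({y} : Set X))
    (h : placeOf k hdim x hx = placeOf k hdim y hy) : x = y := by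
  have hR : (placeOf k hdim x hx).O ≠ ⊤ := fun ht => by
    obtain ⟨f, hf⟩ := (placeOf k hdim x hx).2.2 (WithZero.exp 1)
    have : (placeOf k hdim x hx).1 f ≤ 1 := (ht ▸ trivial : f ∈ (placeOf k hdim x hx).O)
    rw [hf, ← WithZero.exp_zero, WithZero.exp_le_exp] at this
    omega
  obtain ⟨z, -, hz⟩ := NormalSch.existsUnique_centre k (fun _ h => dim_stalk hdim h) isNormalScheme
    (placeOf k hdim x hx).O hR (fun c => (placeOf k hdim x hx).2.1 c)
  exact (hz x (coe_O_placeOf hdim hx)).trans (hz y (by rw [h]; exact coe_O_placeOf hdim hy)).symm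

theorem placeOf_surjective (P : FunFld.Place k X.functionField) :
    ∃ (x : X) (hx : IsClosed ({x} : Set X)), placeOf k hdim x hx = P := by
  have hR : P.O ≠ ⊤ := fun ht => by
    obtain ⟨f, hf⟩ := P.2.2 (WithZero.exp 1)
    have : P.1 f ≤ 1 := (ht ▸ trivial : f ∈ P.O)
    rw [hf, ← WithZero.exp_zero, WithZero.exp_le_exp] at this
    omega
  obtain ⟨x, hx, -⟩ := NormalSch.existsUnique_centre k (fun _ h => dim_stalk hdim h) isNormalScheme
    P.O hR (fun c => P.2.1 c)
  have hne : x ≠ genericPoint X := by
    rintro rfl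
    refine hR (eq_top_iff.mpr fun a _ => ?_)
    change a ∈ (P.O : Set X.functionField)
    rw [hx]
    exact ⟨a, congr($(TopCat.Presheaf.stalkSpecializes_refl X.presheaf (genericPoint X)) a)⟩
  have hxc : IsClosed ({x} : Set X) := by_contra fun h => hne (eq_generic_of_not_closed k hdim h)
  refine ⟨x, hxc, place_ext fun f => ?_⟩
  rw [placeOf_le_one_iff hdim hxc, ← hx]
  rfl

variable (k) in
/-- Closed points are the places. -/
def placeEquiv : {x : X // IsClosed ({x} : Set X)} ≃ FunFld.Place k X.functionField :=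
  Equiv.ofBijective (fun x => placeOf k hdim x.1 x.2)
    ⟨fun x y h => Subtype.ext (placeOf_injective hdim x.2 y.2 h),
      fun P => let ⟨x, hx, h⟩ := placeOf_surjective hdim P; ⟨⟨x, hx⟩, h⟩⟩

attribute [local instance] Curv2.resAlgebra

/-- The degree of the place of a closed point is its residue degree. -/
theorem deg_placeOf {x : X} (hx : IsClosed ({x} : Set X)) :
    (placeOf k hdim x hx).deg = Module.finrank k (X.residueField x) := by
  set P := placeOf k hdim x hx
  let g : X.presheaf.stalk x →+* P.O := (algebraMap (X.presheaf.stalk x) X.functionField).codRestrict P.O.toSubring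
    fun a => (placeOf_le_one_iff hdim hx _).2 ⟨a, rfl⟩
  have hg : Function.Bijective g :=
    ⟨fun a b h => IsFractionRing.injective (X.presheaf.stalk x) X.functionField (congrArg Subtype.val h),
      fun ⟨f, hf⟩ => let ⟨a, ha⟩ := (placeOf_le_one_iff hdim hx f).1 hf; ⟨a, Subtype.ext ha⟩⟩
  let e := IsLocalRing.ResidueField.mapEquiv (RingEquiv.ofBijective g hg)
  let eA : X.residueField x ≃ₐ[k] IsLocalRing.ResidueField P.O :=
    AlgEquiv.ofRingEquiv (f := e) fun c => by
      show IsLocalRing.residue P.O (g (Curv2.stalkMap k X x c)) = IsLocalRing.residue P.O _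
      exact congrArg _ (Subtype.ext (algebraMap_stalkMap x c))
  exact eA.toLinearEquiv.finrank_eq.symm

end Groth.Agent.CurveFF
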