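import Groth.Agent.GeomIrred.CurvPoint
import Groth.Agent.CurveFF.Point

/-!
# The closed point of a section
-/

set_option autoImplicit false
set_option backward.isDefEq.respectTransparency false
set_option linter.style.haveILetI false

universe u

open CategoryTheory AlgebraicGeometry

noncomputable section

namespace Groth.Agent.CurveFF

variable {k : Type u} [Field k] {X : Scheme.{u}} [X.Over (Spec (CommRingCat.of k))]

/-- The image of a section is closed. -/
theorem isClosed_point_of_section [IsSeparated (X ↘ Spec (CommRingCat.of k))] (s : Spec (CommRingCat.of k) ⟶ X)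
    (hs : s ≫ (X ↘ Spec (CommRingCat.of k)) = 𝟙 _) :
    IsClosed ({s (IsLocalRing.closedPoint k)} : Set X) := by
  haveI : IsClosedImmersion (s ≫ (X ↘ Spec (CommRingCat.of k))) := by rw [hs]; infer_instance
  haveI : IsClosedImmersion s := IsClosedImmersion.of_comp s (X ↘ Spec (CommRingCat.of k))
  haveI : Subsingleton ↥(Spec (CommRingCat.of k)) := inferInstanceAs (Subsingleton (PrimeSpectrum k))
  have h : Set.range s = {s (IsLocalRing.closedPoint k)} :=
    Set.eq_singleton_iff_unique_mem.2 ⟨⟨_, rfl⟩, fun y ⟨p, hp⟩ => hp ▸ congrArg s (Subsingleton.elim p _)⟩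
  rw [← h]
  exact s.isClosedEmbedding.isClosed_range

/-- The residue field at the image of a section is the ground field. -/
theorem resMap_bijective_of_section (s : Spec (CommRingCat.of k) ⟶ X)
    (hs : s ≫ (X ↘ Spec (CommRingCat.of k)) = 𝟙 _) :
    Function.Bijective (Curv2.resMap k X (s (IsLocalRing.closedPoint k))) := by
  let x := s (IsLocalRing.closedPoint k)
  let φ := Scheme.descResidueField (X := X) (x := x) (Scheme.stalkClosedPointTo s)
  have h1 : Spec.map φ ≫ X.fromSpecResidueField x = s := Scheme.descResidueField_stalkClosedPointTo_fromSpecResidueField k X s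
  have h2 : CommRingCat.ofHom (Curv2.resMap k X x) ≫ φ = 𝟙 _ := Spec.map_injective (by
    rw [Spec.map_comp, GeomIrred.spec_resMap, ← Category.assoc, h1, hs, Spec.map_id])
  refine ⟨(Curv2.resMap k X x).injective, fun z => ⟨φ z, ?_⟩⟩
  refine φ.hom.injective ?_
  exact congr($h2 (φ z))

end Groth.Agent.CurveFF
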