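import Groth.Agent.CurveFF.Genus
import Groth.Agent.WeilCohLib.PtCount
import Groth.Agent.GeomIrred.CurvPoint
import Groth.Agent.AVLib.GeomInt
import Groth.Agent.S1536
import Groth.Agent.FF.RH
import Groth.Agent.S11040
import Groth.Prelude.Def_Curve

/-!
# Point counts of smooth projective curves over finite fields
-/

set_option autoImplicit false
set_option backward.isDefEq.respectTransparency false
set_option maxHeartbeats 800000
set_option linter.style.haveILetI false

universe u

open CategoryTheory CategoryTheory.Limits AlgebraicGeometry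

noncomputable section

namespace Groth.Agent.CurveFF

attribute [local instance] Curv2.stalkAlgebra
attribute [local instance high] FunFld.Place.algRes

variable {k : Type u} [Field k] {X : Scheme.{u}} [X.Over (Spec (CommRingCat.of k))]

theorem geometricallyConnected_of_irreducible {Y Z : Scheme.{u}} (f : Y ⟶ Z) [GeometricallyIrreducible f] :
    GeometricallyConnected f := by
  refine ⟨fun K _ y T fst snd h => ?_⟩
  haveI : IrreducibleSpace T := GeometricallyIrreducible.geometrically_irreducibleSpace y fst snd h
  show ConnectedSpace T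
  infer_instance

theorem residueDegree_eq [Finite k] (x : X) :
    EGA4loc.residueDegree (X ↘ Spec (CommRingCat.of k)) x =
      (letI := Curv2.resAlgebra k X x; Module.finrank k (X.residueField x)) := by
  rw [WeilCohLib.residueDegree_eq_finrank]
  have h : WeilCohLib.resBase k (X ↘ Spec (CommRingCat.of k)) x = CommRingCat.ofHom (Curv2.resMap k X x) :=
    Spec.map_injective (by rw [WeilCohLib.map_resBase, GeomIrred.spec_resMap])
  rw [h]

variable (hX : Curve.IsSmoothProperCurve k X (X ↘ Spec (CommRingCat.of k)))
include hX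

theorem setup_of_smooth [GeometricallyIrreducible (X ↘ Spec (CommRingCat.of k))] :
    IsProper (X ↘ Spec (CommRingCat.of k)) ∧ IsIntegral X ∧ VBLib.IsRegCurve X ∧ topologicalKrullDim X = 1 ∧
      Module.finrank k (Coh.HH X (Coh.structureModule X) 0) = 1 := by
  obtain ⟨h1, h2, h3, h4⟩ := hX
  haveI := h1
  haveI := h2
  haveI := AVLib.geometricallyReduced_of_smooth (X ↘ Spec (CommRingCat.of k))
  haveI := geometricallyConnected_of_irreducible (X ↘ Spec (CommRingCat.of k))
  exact ⟨h1, h3, VBLib.isRegCurve_of_smooth k h4.le, h4, Groth.Agent.S1536.result k X⟩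

omit hX in
/-- The point count of the curve is that of its function field. -/
theorem nPts_eq [Finite k] [IsProper (X ↘ Spec (CommRingCat.of k))] [IsIntegral X] [VBLib.IsRegCurve X]
    (hdim : topologicalKrullDim X = 1) (h0 : Module.finrank k (Coh.HH X (Coh.structureModule X) 0) = 1)
    {m : ℕ} (hm : 0 < m) :
    Zeta.nPts (X ↘ Spec (CommRingCat.of k)) m = FF.nPts k X.functionField m := by
  classical
  have hK := isFunctionField k hdim h0
  have hfin := FF.finite_places_deg_le hK m
  rw [FF.nPts_eq_sum hK hm (T := hfin.toFinset) (fun P hP => hfin.mem_toFinset.2 (Nat.le_of_dvd hm hP)),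
    Zeta.nPts, ← Finset.sum_fiberwise_of_maps_to (g := FunFld.Place.deg) (t := m.divisors)
      (fun P hP => Nat.mem_divisors.2 ⟨(Finset.mem_filter.1 hP).2, hm.ne'⟩)]
  refine Finset.sum_congr rfl fun e he => ?_
  rw [Finset.sum_congr rfl fun P hP => (Finset.mem_filter.1 hP).2, Finset.sum_const, smul_eq_mul, mul_comm]
  congr 1
  have he' := (Nat.mem_divisors.1 he).1
  rw [Zeta.degCount, ← Nat.card_eq_finsetCard]
  refine Nat.card_congr
    ((Equiv.subtypeSubtypeEquivSubtypeInter (fun x : X => IsClosed ({x} : Set X))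
      (fun x => EGA4loc.residueDegree (X ↘ Spec (CommRingCat.of k)) x = e)).symm.trans
      ((placeEquiv k hdim).subtypeEquiv fun x => ?_))
  show _ ↔ placeOf k hdim x.1 x.2 ∈ _
  rw [Finset.mem_filter, Finset.mem_filter, hfin.mem_toFinset, deg_placeOf hdim x.2, residueDegree_eq]
  constructor
  · rintro rfl
    exact ⟨⟨show _ ≤ m by rw [deg_placeOf hdim x.2]; exact Nat.le_of_dvd hm he', he'⟩, rfl⟩
  · exact fun h => h.2

omit hX in
theorem genus_of_card [Finite k] [IsProper (X ↘ Spec (CommRingCat.of k))] {g : ℕ}
    (hg : Nat.card (Coh.HH X (Coh.structureModule X) 1) = Nat.card k ^ g) : Curv2.genus k X = g := by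
  haveI := EulerIneqLib.isNoetherian_proper (X := X) k
  haveI := EulerIneqLib.finite_HH (k := k) (DevLib.isCoh_structureModule X) 1
  rw [Module.natCard_eq_pow_finrank (K := k)] at hg
  exact Nat.pow_right_injective (Finite.one_lt_card (α := k)) hg

/-- The reciprocal roots of the zeta function of a curve over a finite field. -/
theorem exists_roots [Finite k] [GeometricallyIrreducible (X ↘ Spec (CommRingCat.of k))] {g : ℕ}
    (hg : Nat.card (Coh.HH X (Coh.structureModule X) 1) = Nat.card k ^ g) :
    ∃ α : Fin (2 * g) → ℂ, (∀ i, IsIntegral ℤ (α i)) ∧ (∀ i, ‖α i‖ ^ 2 = Nat.card k) ∧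
      (∀ i, α (Fin.rev i) * α i = Nat.card k) ∧
      ∀ m, 0 < m → (Zeta.nPts (X ↘ Spec (CommRingCat.of k)) m : ℂ) =
        (Nat.card k : ℂ) ^ m + 1 - ∑ i, α i ^ m := by
  obtain ⟨_, _, _, hdim, h0⟩ := setup_of_smooth hX
  have hg1 : FunFld.genus k X.functionField = g := (genus_eq hdim h0).symm.trans (genus_of_card hg)
  subst hg1
  have hK := isFunctionField k hdim h0
  obtain ⟨α, hint, hα, hpair⟩ := Groth.Agent.S11040.result k X.functionField hK
  refine ⟨α, hint, FF.norm_sq_root hK α hα hpair, fun i => by rw [mul_comm]; exact hpair i, fun m hm => ?_⟩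
  rw [nPts_eq hdim h0 hm, FF.nPts_eq_of_roots hK α hα hm]
  ring

end Groth.Agent.CurveFF
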