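import Groth.Agent.CotTLib.Field
import Mathlib.AlgebraicGeometry.Morphisms.Smooth

/-!
# Regular schemes of finite type over an algebraically closed field are smooth
-/

set_option autoImplicit false
set_option linter.style.haveILetI false

universe u

open CategoryTheory AlgebraicGeometry TopologicalSpace

noncomputable section

namespace Groth.Agent.CurveFF

theorem smooth_of_regular {k : Type u} [Field k] [IsAlgClosed k] {X : Scheme.{u}} [X.Over (Spec (CommRingCat.of k))]
    [LocallyOfFiniteType (X ↘ Spec (CommRingCat.of k))] (hreg : ∀ x : X, IsRegularLocalRing (X.presheaf.stalk x)) :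
    Smooth (X ↘ Spec (CommRingCat.of k)) := by
  haveI : IsLocallyNoetherian X := LocallyOfFiniteType.isLocallyNoetherian (X ↘ Spec (CommRingCat.of k))
  refine HasRingHomProperty.of_iSup_eq_top (P := @Smooth) (fun U : X.affineOpens => U) (iSup_affineOpens_eq_top X)
    fun U => ?_
  have hft := HasRingHomProperty.appLE (P := @LocallyOfFiniteType) (X ↘ Spec (CommRingCat.of k)) inferInstance
    ⟨⊤, isAffineOpen_top _⟩ U le_top
  let ψ : k →+* Γ(X, U.1) :=
    ((X ↘ Spec (CommRingCat.of k)).appLE ⊤ U.1 le_top).hom.comp (Scheme.ΓSpecIso (CommRingCat.of k)).inv.hom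
  have hψ : ψ.FiniteType := RingHom.finiteType_respectsIso.2 _
    (Scheme.ΓSpecIso (CommRingCat.of k)).symm.commRingCatIsoToRingEquiv hft
  suffices hs : ψ.Smooth by
    have h := RingHom.Smooth.respectsIso.2 ψ (Scheme.ΓSpecIso (CommRingCat.of k)).commRingCatIsoToRingEquiv hs
    convert h using 1
    ext a
    show _ = ((X ↘ Spec (CommRingCat.of k)).appLE ⊤ U.1 le_top).hom
      ((Scheme.ΓSpecIso (CommRingCat.of k)).inv.hom ((Scheme.ΓSpecIso (CommRingCat.of k)).hom.hom a))
    rw [← CommRingCat.comp_apply (Scheme.ΓSpecIso (CommRingCat.of k)).hom (Scheme.ΓSpecIso (CommRingCat.of k)).inv,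
      Iso.hom_inv_id]
    rfl
  algebraize [ψ]
  haveI : Algebra.FiniteType k Γ(X, U.1) := hψ
  have : Algebra.FormallySmooth k Γ(X, U.1) := CotTLib.formallySmooth_of_regular fun m hm => by
    set y : PrimeSpectrum Γ(X, U.1) := ⟨m, hm.isPrime⟩
    have hy : U.2.fromSpec y ∈ U.1 := by
      rw [← SetLike.mem_coe, ← U.2.range_fromSpec]; exact ⟨y, rfl⟩
    letI := TopCat.Presheaf.algebra_section_stalk X.presheaf ⟨U.2.fromSpec y, hy⟩
    haveI : IsLocalization m.primeCompl (X.presheaf.stalk (U.2.fromSpec y)) := U.2.isLocalization_stalk' y hy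
    haveI := hreg (U.2.fromSpec y)
    exact IsRegularLocalRing.of_ringEquiv (IsLocalization.algEquiv m.primeCompl (X.presheaf.stalk (U.2.fromSpec y))
      (Localization.AtPrime m)).toRingEquiv
  exact ⟨this, Algebra.FinitePresentation.of_finiteType.1 inferInstance⟩

end Groth.Agent.CurveFF
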