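import Groth.Agent.CurveFF.Ideal
import Groth.Agent.CurveLib.CurveVanish

/-!
# Degree, genus and Riemann–Roch
-/

set_option autoImplicit false
set_option backward.isDefEq.respectTransparency false
set_option maxHeartbeats 1600000
set_option linter.style.haveILetI false

universe u

open CategoryTheory CategoryTheory.Limits AlgebraicGeometry TopologicalSpace Opposite IsLocalRing
open Groth.Agent.PullbackMod Groth.Agent.DCohLib
open scoped WithZero TensorProduct

noncomputable section

namespace Groth.Agent.CurveFF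

attribute [local instance] Curv2.stalkAlgebra

variable {k : Type u} [Field k] {X : Scheme.{u}} [X.Over (Spec (CommRingCat.of k))]
  [IsProper (X ↘ Spec (CommRingCat.of k))] [IsIntegral X] [VBLib.IsRegCurve X]
  (hdim : topologicalKrullDim X = 1)
include hdim

variable (k) in
include k in
/-- There is an invertible module of positive degree. -/
theorem exists_pos_deg : ∃ A : X.Modules, PicF.IsInvertible A ∧ 0 < Curv2.deg k X A 1 := by
  haveI := EulerIneqLib.isNoetherian_proper (X := X) k
  obtain ⟨x, -, hx⟩ := (isClosed_univ (X := X)).exists_closed_singleton Set.univ_nonempty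
  obtain ⟨P, i, e, hP, hi, hniso, -, -⟩ := exists_pointModule k hdim hx
  obtain ⟨h1, h2⟩ := CurveLib.deg_le_of_ne_zero (k := k) hdim.le hP ParaFLib.isInvertible_structureModule hi
  rw [CurveLib.deg_structureModule] at h1 h2
  have hneg : Curv2.deg k X P 1 < 0 := lt_of_le_of_ne h1 fun h => hniso (h2 h)
  obtain ⟨N, hN, ⟨φ⟩⟩ := AmpleEmb.exists_isInverseOf hP
  refine ⟨N, hN, ?_⟩
  have h3 := CurveLib.deg_tensor_add (k := k) hdim.le hP hN
  rw [CurveLib.deg_iso φ, CurveLib.deg_structureModule] at h3
  omega

theorem exists_isDiv_tensorPow {A : X.Modules} (hA : PicF.IsInvertible A) {eA : A.presheaf.stalk (genericPoint X)}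
    (heA : IsBase A eA) {DA : FunFld.Divisor k X.functionField} (hDA : IsDiv k hdim A eA DA) :
    ∀ n : ℕ, ∃ e, IsBase (CohB1.tensorPow A n) e ∧ IsDiv k hdim (CohB1.tensorPow A n) e ((n : ℤ) • DA)
  | 0 => ⟨ParaFLib.oneG (genericPoint X), ParaFLib.bijective_oneG _, by
      rw [Nat.cast_zero, zero_smul]; exact isDiv_structure hdim⟩
  | n + 1 => by
    obtain ⟨e, he, hD⟩ := exists_isDiv_tensorPow hA heA hDA n
    refine ⟨tensorBase e eA, isBase_tensor he heA, ?_⟩
    rw [Nat.cast_succ, add_smul, one_smul]
    exact isDiv_tensor hdim (AmpleLib.isInvertible_tensorPow hA n) hA he heA hD hDA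

variable (h0 : Module.finrank k (Coh.HH X (Coh.structureModule X) 0) = 1)
include h0

theorem ell_le_one {E : FunFld.Divisor k X.functionField} (h : E.deg ≤ 0) : FunFld.ell E ≤ 1 := by
  have hK := isFunctionField k hdim h0
  by_contra hlt
  push Not at hlt
  obtain ⟨z, hz, hzL⟩ := FF.exists_ne_zero_of_ell_pos (D := E) (by omega)
  have h1 := FF.le_add_div_of_mem_L hK hz hzL
  have h2 := FF.ell_le_deg_add_one hK h1
  rw [FF.ell_add_div hK E hz, FF.deg_add, FF.deg_div hK] at h2
  omega

/-- The arithmetic genus is the genus of the function field, and the degree of an invertible module is the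
degree of the divisor of any rational section. -/
theorem genus_and_deg {L : X.Modules} (hL : PicF.IsInvertible L) {e : L.presheaf.stalk (genericPoint X)}
    (he : IsBase L e) {D : FunFld.Divisor k X.functionField} (hD : IsDiv k hdim L e D) :
    Curv2.genus k X = FunFld.genus k X.functionField ∧ Curv2.deg k X L 1 = D.deg := by
  have hK := isFunctionField k hdim h0
  haveI := EulerIneqLib.isNoetherian_proper (X := X) k
  obtain ⟨A, hA, hdegA⟩ := exists_pos_deg k hdim
  obtain ⟨eA, heA⟩ := exists_base hA
  obtain ⟨DA, hDA⟩ := exists_isDiv hdim h0 hA heA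
  have hposA : 0 < DA.deg := by
    by_contra hle
    push Not at hle
    obtain ⟨J, hJ⟩ := CurveLib.exists_h0_gt (k := k) hdim.le hA hdegA 1
    obtain ⟨eN, heN, hDN⟩ := exists_isDiv_tensorPow hdim hA heA hDA J
    have h := hJ J le_rfl
    rw [finrank_H0_eq_ell hdim (AmpleLib.isInvertible_tensorPow hA J) heN hDN] at h
    have := ell_le_one hdim h0 (E := (J : ℤ) • DA)
      (by rw [FF.deg_smul]; exact mul_nonpos_of_nonneg_of_nonpos (Int.natCast_nonneg J) hle)
    omega
  have hO : Curv2.euler k X (Coh.structureModule X) = 1 - (Curv2.genus k X : ℤ) := by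
    rw [CurveLib.euler_eq_sub (k := k) hdim.le, h0]
    rfl
  -- the key identity
  have key : ∀ (M : X.Modules) (hM : PicF.IsInvertible M) (eM : M.presheaf.stalk (genericPoint X)) (E : FunFld.Divisor k X.functionField),
      IsBase M eM → IsDiv k hdim M eM E → ∃ n₀ : ℕ, ∀ n : ℕ, n₀ ≤ n →
        Curv2.deg k X M 1 + n * Curv2.deg k X A 1 - (Curv2.genus k X : ℤ) =
          E.deg + n * DA.deg - FunFld.genus k X.functionField := by
    intro M hM eM E heM hEM
    obtain ⟨n₀, hn₀⟩ := CurveLib.exists_vanishing (k := k) hdim.le hA hdegA (CurveLib.isCoh_of_isInvertible hM)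
    refine ⟨max n₀ (2 * FunFld.genus k X.functionField + E.deg.natAbs), fun n hn => ?_⟩
    obtain ⟨eN, heN, hDN⟩ := exists_isDiv_tensorPow hdim hA heA hDA n
    have hinv := AmpleLib.isInvertible_tensorPow hA n
    have hT := isDiv_tensor hdim hM hinv heM heN hEM hDN
    have hH0 := finrank_H0_eq_ell hdim (AmpleLib.isInvertible_tensor hM hinv) (isBase_tensor heM heN) hT
    haveI := hn₀ n (le_trans (le_max_left _ _) hn)
    have hdeg := CurveLib.deg_tensor_add (k := k) hdim.le hM hinv
    rw [CurveLib.deg_tensorPow (k := k) hdim.le hA n] at hdeg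
    have heuler := CurveLib.euler_eq_sub (k := k) (M := CohB1.tensorMod M (CohB1.tensorPow A n)) hdim.le
    rw [show Module.finrank k (Coh.HH X (CohB1.tensorMod M (CohB1.tensorPow A n)) 1) = 0 from
      Module.finrank_zero_of_subsingleton, hH0] at heuler
    unfold Curv2.deg at hdeg
    have hlarge : 2 * (FunFld.genus k X.functionField : ℤ) - 1 ≤ (E + (n : ℤ) • DA).deg := by
      rw [FF.deg_add, FF.deg_smul]
      have h1 : (n : ℤ) ≤ n * DA.deg := le_mul_of_one_le_right (Int.natCast_nonneg n) hposA
      have h2 : (2 * FunFld.genus k X.functionField + E.deg.natAbs : ℕ) ≤ n := le_trans (le_max_right _ _) hn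
      omega
    have hell := FF.ell_of_deg_large hK hlarge
    rw [FF.deg_add, FF.deg_smul] at hell
    unfold Curv2.deg
    rw [hO] at hdeg ⊢
    omega
  obtain ⟨n₁, h₁⟩ := key _ ParaFLib.isInvertible_structureModule _ _ (ParaFLib.bijective_oneG _) (isDiv_structure hdim)
  rw [CurveLib.deg_structureModule, FF.deg_zero] at h₁
  have e1 := h₁ n₁ le_rfl
  have e2 := h₁ (n₁ + 1) (Nat.le_succ _)
  push_cast at e2
  have hAD : Curv2.deg k X A 1 = DA.deg := by linarith
  have hg : (Curv2.genus k X : ℤ) = FunFld.genus k X.functionField := by rw [hAD] at e1; linarith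
  obtain ⟨n₂, h₂⟩ := key L hL e D he hD
  have e3 := h₂ n₂ le_rfl
  rw [hAD] at e3
  exact ⟨by exact_mod_cast hg, by linarith⟩

theorem genus_eq : Curv2.genus k X = FunFld.genus k X.functionField :=
  (genus_and_deg hdim h0 ParaFLib.isInvertible_structureModule (ParaFLib.bijective_oneG _) (isDiv_structure hdim)).1

/-- `h¹(L) = ℓ(C - D)`. -/
theorem finrank_H1_eq {L : X.Modules} (hL : PicF.IsInvertible L) {e : L.presheaf.stalk (genericPoint X)}
    (he : IsBase L e) {D : FunFld.Divisor k X.functionField} (hD : IsDiv k hdim L e D)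
    {C : FunFld.Divisor k X.functionField} (hC : FunFld.IsCanonical k X.functionField C) :
    Module.finrank k (Coh.HH X L 1) = FunFld.ell (C - D) := by
  obtain ⟨hg, hd⟩ := genus_and_deg hdim h0 hL he hD
  have hrr := FF.riemann_roch (isFunctionField k hdim h0) hC D
  have heuler := CurveLib.euler_eq_sub (k := k) (M := L) hdim.le
  have hO := CurveLib.euler_eq_sub (k := k) (M := Coh.structureModule X) hdim.le
  rw [h0] at hO
  have hg1 : Module.finrank k (Coh.HH X (Coh.structureModule X) 1) = Curv2.genus k X := rfl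
  rw [hg1, hg] at hO
  unfold Curv2.deg at hd
  rw [finrank_H0_eq_ell hdim hL he hD] at heuler
  omega

/-- Modules of degree at least `2g - 1` have no first cohomology. -/
theorem subsingleton_H1 {L : X.Modules} (hL : PicF.IsInvertible L)
    (hdeg : 2 * (Curv2.genus k X : ℤ) - 1 ≤ Curv2.deg k X L 1) : Subsingleton (Coh.HH X L 1) := by
  have hK := isFunctionField k hdim h0
  haveI := EulerIneqLib.isNoetherian_proper (X := X) k
  haveI := EulerIneqLib.finite_HH (k := k) (CurveLib.isCoh_of_isInvertible hL) 1
  obtain ⟨e, he⟩ := exists_base hL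
  obtain ⟨D, hD⟩ := exists_isDiv hdim h0 hL he
  obtain ⟨C, hC⟩ := FF.exists_canonical hK
  obtain ⟨hg, hd⟩ := genus_and_deg hdim h0 hL he hD
  refine (Module.finrank_eq_zero_iff_of_free k _).1 ?_
  rw [finrank_H1_eq hdim h0 hL he hD hC]
  have hC' := FF.canonical_deg hK hC
  refine FF.ell_eq_zero_of_deg_neg hK ?_
  rw [FF.deg_sub]
  omega

end Groth.Agent.CurveFF
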