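import Groth.Agent.CurveFF.Pic
import Groth.Agent.OmegaAffLib.Stalk
import Groth.Agent.FittSheafLib.Omega
import Groth.Agent.FF.ASDual
import Groth.Agent.FF.HasseFam
import Groth.Agent.FF.AlgClosed
import Groth.Agent.FF.DiffWeil
import Groth.Agent.RefOne.Principal

/-!
# The sheaf of differentials of a regular proper curve over an algebraically closed field is canonical
-/

set_option autoImplicit false
set_option backward.isDefEq.respectTransparency false
set_option maxHeartbeats 1600000
set_option linter.style.haveILetI false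

universe u

open CategoryTheory CategoryTheory.Limits AlgebraicGeometry TopologicalSpace Opposite IsLocalRing
open scoped WithZero LaurentSeries

noncomputable section

namespace Groth.Agent.CurveFF

attribute [local instance] Curv2.stalkAlgebra
attribute [local instance high] FunFld.Place.algRes

variable {k : Type u} [Field k] {X : Scheme.{u}} [X.Over (Spec (CommRingCat.of k))]

variable (k X) in
/-- The sheaf of differentials over the base field. -/
abbrev om [QuasiSeparated (X ↘ Spec (CommRingCat.of k))] : X.Modules := Omega.sheaf (X ↘ Spec (CommRingCat.of k))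

section stalkDer

variable [QuasiSeparated (X ↘ Spec (CommRingCat.of k))]

theorem dSect_germ_eq {x : X} {U V : X.Opens} (hU : x ∈ U) (hV : x ∈ V) (a : Γ(X, U)) (b : Γ(X, V))
    (h : X.presheaf.germ U x hU a = X.presheaf.germ V x hV b) :
    (om k X).presheaf.germ U x hU (OmegaSh.dSect _ U a) = (om k X).presheaf.germ V x hV (OmegaSh.dSect _ V b) := by
  obtain ⟨W, hW, iU, iV, e⟩ := X.presheaf.germ_eq x hU hV a b h
  have e' : X.presheaf.map (homOfLE iU.le).op a = X.presheaf.map (homOfLE iV.le).op b := e
  have h1 := OmegaSh.dSect_map (X ↘ Spec (CommRingCat.of k)) iU.le a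
  rw [e', OmegaSh.dSect_map (X ↘ Spec (CommRingCat.of k)) iV.le b] at h1
  exact ((TopCat.Presheaf.germ_res_apply (om k X).presheaf (homOfLE iU.le) x hW _).symm.trans
    (congrArg ((om k X).presheaf.germ W x hW) h1.symm)).trans
    (TopCat.Presheaf.germ_res_apply (om k X).presheaf (homOfLE iV.le) x hW _)

/-- The derivation on a stalk. -/
def delta (x : X) (z : X.presheaf.stalk x) : (om k X).presheaf.stalk x :=
  let h := TopCat.Presheaf.exists_germ_eq X.presheaf z
  (om k X).presheaf.germ h.choose x h.choose_spec.choose (OmegaSh.dSect _ h.choose h.choose_spec.choose_spec.choose)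

theorem delta_germ {x : X} {U : X.Opens} (hU : x ∈ U) (a : Γ(X, U)) :
    delta (k := k) x (X.presheaf.germ U x hU a) = (om k X).presheaf.germ U x hU (OmegaSh.dSect _ U a) := by
  let h := TopCat.Presheaf.exists_germ_eq X.presheaf (X.presheaf.germ U x hU a)
  exact dSect_germ_eq (h.choose_spec.choose) hU _ a h.choose_spec.choose_spec.choose_spec

theorem delta_add (x : X) (a b : X.presheaf.stalk x) : delta (k := k) x (a + b) = delta x a + delta x b := by
  obtain ⟨U, hU, a, rfl⟩ := TopCat.Presheaf.exists_germ_eq X.presheaf a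
  obtain ⟨V, hV, b, rfl⟩ := TopCat.Presheaf.exists_germ_eq X.presheaf b
  rw [← TopCat.Presheaf.germ_res_apply X.presheaf (homOfLE (inf_le_left : U ⊓ V ≤ U)) x ⟨hU, hV⟩ a,
    ← TopCat.Presheaf.germ_res_apply X.presheaf (homOfLE (inf_le_right : U ⊓ V ≤ V)) x ⟨hU, hV⟩ b,
    ← map_add, delta_germ, delta_germ, delta_germ, OmegaSh.dSect_add, map_add]

theorem delta_mul (x : X) (a b : X.presheaf.stalk x) :
    delta (k := k) x (a * b) = a • delta x b + b • delta x a := by
  obtain ⟨U, hU, a, rfl⟩ := TopCat.Presheaf.exists_germ_eq X.presheaf a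
  obtain ⟨V, hV, b, rfl⟩ := TopCat.Presheaf.exists_germ_eq X.presheaf b
  rw [← TopCat.Presheaf.germ_res_apply X.presheaf (homOfLE (inf_le_left : U ⊓ V ≤ U)) x ⟨hU, hV⟩ a,
    ← TopCat.Presheaf.germ_res_apply X.presheaf (homOfLE (inf_le_right : U ⊓ V ≤ V)) x ⟨hU, hV⟩ b,
    ← map_mul, delta_germ, delta_germ, delta_germ, OmegaSh.dSect_mul, map_add]
  exact congrArg₂ (· + ·) (ParaFLib.germ_smul' _ _ _ _) (ParaFLib.germ_smul' _ _ _ _)

theorem delta_const (x : X) (c : k) : delta (k := k) x (Curv2.stalkMap k X x c) = 0 := by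
  show delta (k := k) x (X.presheaf.germ ⊤ x trivial (Coh.toGlobal (X ↘ Spec (CommRingCat.of k)) c)) = 0
  rw [delta_germ (k := k) (U := ⊤) trivial]
  have h := OmegaSh.dSect_app (X ↘ Spec (CommRingCat.of k)) ⊤ ((Scheme.ΓSpecIso (CommRingCat.of k)).inv c)
  exact (congrArg _ h).trans (map_zero _)

variable [IsIntegral X]

theorem spec_delta (x : X) (z : X.presheaf.stalk x) :
    spec (om k X) x (delta x z) = delta (genericPoint X) (algebraMap (X.presheaf.stalk x) X.functionField z) := by
  obtain ⟨U, hU, a, rfl⟩ := TopCat.Presheaf.exists_germ_eq X.presheaf z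
  have e : algebraMap (X.presheaf.stalk x) X.functionField (X.presheaf.germ U x hU a) =
      X.presheaf.germ U (genericPoint X) (generic_mem hU) a :=
    TopCat.Presheaf.germ_stalkSpecializes_apply X.presheaf hU ((genericPoint_spec X).specializes trivial) a
  rw [e, delta_germ, delta_germ, spec_germ _ hU (generic_mem hU)]

theorem span_range_delta (x : X) :
    Submodule.span (X.presheaf.stalk x) (Set.range (delta (k := k) x)) = ⊤ := by
  obtain ⟨_, ⟨U : X.Opens, hU, rfl⟩, hxU, -⟩ :=
    X.isBasis_affineOpens.exists_subset_of_mem_open (Set.mem_univ x) isOpen_univ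
  let f := X ↘ Spec (CommRingCat.of k)
  have hUV : U ≤ f ⁻¹ᵁ ⊤ := le_top
  letI := (f.appLE ⊤ U hUV).hom.toAlgebra
  letI := Module.compHom ((om k X).presheaf.stalk x) (X.presheaf.germ U x hxU).hom
  haveI := OmegaAffLib.isLocalizedModule_stalk f (isAffineOpen_top (Spec (CommRingCat.of k))) hU hUV x hxU
  rw [eq_top_iff]
  intro m _
  obtain ⟨⟨ω, s⟩, hs⟩ := IsLocalizedModule.surj (hU.primeIdealOf ⟨x, hxU⟩).asIdeal.primeCompl
    ((FlatLocus.germL (Omega.sheaf f) U x hxU).comp (OmAff.toSect f ⊤ U hUV).hom) m
  have hmem : (FlatLocus.germL (Omega.sheaf f) U x hxU).comp (OmAff.toSect f ⊤ U hUV).hom ω ∈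
      Submodule.span (X.presheaf.stalk x) (Set.range (delta (k := k) x)) := by
    have htop : ω ∈ Submodule.span Γ(X, U) (Set.range (KaehlerDifferential.D Γ(Spec (CommRingCat.of k), ⊤) Γ(X, U))) :=
      (KaehlerDifferential.span_range_derivation Γ(Spec (CommRingCat.of k), ⊤) Γ(X, U)).ge Submodule.mem_top
    clear hs
    induction htop using Submodule.span_induction with
    | mem y hy =>
      obtain ⟨b, rfl⟩ := hy
      refine Submodule.subset_span ⟨X.presheaf.germ U x hxU b, ?_⟩
      rw [delta_germ (k := k) hxU b]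
      exact congrArg ((om k X).presheaf.germ U x hxU) (OmAff.toSect_d f ⊤ U hUV b).symm
    | zero => rw [map_zero]; exact zero_mem _
    | add a b _ _ ha hb => rw [map_add]; exact add_mem ha hb
    | smul r a _ ha => rw [map_smul]; exact Submodule.smul_mem _ _ ha
  have hu : IsUnit (X.presheaf.germ U x hxU (s : Γ(X, U))) := by
    have h := SetLike.ext_iff.mp (hU.fromSpec_preimage_basicOpen (s : Γ(X, U))) (hU.primeIdealOf ⟨x, hxU⟩)
    rw [Scheme.Hom.mem_preimage, hU.fromSpec_primeIdealOf] at h
    exact (X.mem_basicOpen _ x hxU).1 (h.2 s.2)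
  rw [← hs] at hmem
  exact (Submodule.smul_mem_iff_of_isUnit _ hu).1 hmem

theorem exists_lift_kaehler :
    ∃ ψ : Ω[X.functionField⁄k] →+ (om k X).presheaf.stalk (genericPoint X),
      (∀ (c : X.functionField) ω, ψ (c • ω) = (c : X.presheaf.stalk (genericPoint X)) • ψ ω) ∧
        ∀ z, ψ (KaehlerDifferential.D k X.functionField z) = delta (genericPoint X) z := by
  let η := genericPoint X
  letI : Module k ((om k X).presheaf.stalk η) := Module.compHom _ (Curv2.stalkMap k X η)
  letI : Module X.functionField ((om k X).presheaf.stalk η) :=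
    inferInstanceAs (Module (X.presheaf.stalk η) ((om k X).presheaf.stalk η))
  haveI : IsScalarTower k X.functionField ((om k X).presheaf.stalk η) :=
    ⟨fun c r m => by rw [Algebra.smul_def, mul_smul]; rfl⟩
  let D : Derivation k X.functionField ((om k X).presheaf.stalk η) := Derivation.mk'
    { toFun := fun z => delta (k := k) η z
      map_add' := delta_add η
      map_smul' := fun c z => by
        show delta (k := k) η (Curv2.stalkMap k X η c * z) = Curv2.stalkMap k X η c • delta (k := k) η z
        rw [delta_mul, delta_const, smul_zero, add_zero] }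
    fun a b => delta_mul η a b
  exact ⟨D.liftKaehlerDifferential.toAddMonoidHom, fun c ω => D.liftKaehlerDifferential.map_smul c ω,
    fun z => D.liftKaehlerDifferential_comp_D z⟩

end stalkDer

section algClosed

variable [IsAlgClosed k] [IsProper (X ↘ Spec (CommRingCat.of k))] [IsIntegral X] [VBLib.IsRegCurve X]
  (hdim : topologicalKrullDim X = 1)
include hdim

variable (k) in
include k in
theorem h0_eq_one : Module.finrank k (Coh.HH X (Coh.structureModule X) 0) = 1 :=
  CurveLib.finrank_H0_structure

variable (k) in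
include k in
theorem isFF : FunFld.IsFunctionField k X.functionField := isFunctionField k hdim (h0_eq_one k hdim)

omit hdim in
theorem exists_expansions {K : Type u} [Field K] [Algebra k K] (hK : FunFld.IsFunctionField k K) :
    ∃ (φ : ∀ Q : FunFld.Place k K, K →ₐ[k] (IsLocalRing.ResidueField Q.O)⸨X⸩),
      ∀ Q, LocRes.IsExpansionAt Q.1 (φ Q) := by
  have hex : ∀ Q : FunFld.Place k K, ∃ φ : K →ₐ[k] (IsLocalRing.ResidueField Q.O)⸨X⸩, LocRes.IsExpansionAt Q.1 φ :=
    fun Q => by
      haveI : Module.Finite k (IsLocalRing.ResidueField Q.O) := FF.finite_residue hK Q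
      haveI : Algebra.IsAlgebraic k (IsLocalRing.ResidueField Q.O) := Algebra.IsAlgebraic.of_finite _ _
      haveI : Algebra.IsSeparable k (IsLocalRing.ResidueField Q.O) := Algebra.IsAlgebraic.isSeparable_of_perfectField
      obtain ⟨t, ht⟩ := FF.exists_unif Q
      obtain ⟨φ, hφ, -⟩ := FF.exists_expansion Q ht
      exact ⟨φ, hφ⟩
  choose φ hφ using hex
  exact ⟨φ, hφ⟩

variable (k) in
include k in
theorem exists_D_ne_zero : ∃ v : X.functionField, KaehlerDifferential.D k X.functionField v ≠ 0 := by
  obtain ⟨φ, hφ⟩ := exists_expansions (isFF k hdim)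
  haveI := EulerIneqLib.isNoetherian_proper (X := X) k
  obtain ⟨x, -, hx⟩ := (isClosed_univ (X := X)).exists_closed_singleton Set.univ_nonempty
  obtain ⟨t, ht⟩ := FF.exists_unif (placeOf k hdim x hx)
  exact ⟨t, FF.D_ne_zero_unif (hφ _) ht⟩

theorem exists_delta_smul {w : X.functionField} (hw : KaehlerDifferential.D k X.functionField w ≠ 0) (z : X.functionField) :
    ∃ c : X.functionField, c • KaehlerDifferential.D k X.functionField w = KaehlerDifferential.D k X.functionField z ∧
      delta (k := k) (genericPoint X) z = (c : X.presheaf.stalk (genericPoint X)) • delta (k := k) (genericPoint X) w := by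
  obtain ⟨c, hc⟩ := FF.exists_smul_D_eq_of_ne_zero (isFF k hdim) (FF.isGeometric_algClosed (isFF k hdim)) hw
    (KaehlerDifferential.D k X.functionField z)
  obtain ⟨ψ, hs, hd⟩ := exists_lift_kaehler (k := k) (X := X)
  exact ⟨c, hc, by rw [← hd, ← hd, ← hs, hc]⟩

theorem not_subsingleton_stalk_generic : ¬ Subsingleton ((om k X).presheaf.stalk (genericPoint X)) := by
  intro hsub
  have hu := (OmegaAffLib.subsingleton_stalk_iff (X ↘ Spec (CommRingCat.of k)) (genericPoint X)).1 hsub
  obtain ⟨v, hv⟩ := exists_D_ne_zero k hdim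
  haveI : Subsingleton ↥(Spec (CommRingCat.of k)) := inferInstanceAs (Subsingleton (PrimeSpectrum k))
  have hs : Function.Surjective ((Scheme.ΓSpecIso (CommRingCat.of k)).inv ≫
      (Spec (CommRingCat.of k)).presheaf.germ ⊤ ((X ↘ Spec (CommRingCat.of k)) (genericPoint X)) trivial).hom := by
    intro z
    obtain ⟨W, hW, s, rfl⟩ := TopCat.Presheaf.exists_germ_eq (Spec (CommRingCat.of k)).presheaf z
    obtain rfl : W = ⊤ := eq_top_iff.2 fun p _ => Subsingleton.elim ((X ↘ Spec (CommRingCat.of k)) (genericPoint X)) p ▸ hW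
    refine ⟨(Scheme.ΓSpecIso (CommRingCat.of k)).hom s, ?_⟩
    exact congrArg ((Spec (CommRingCat.of k)).presheaf.germ ⊤ _ hW) (Iso.hom_inv_id_apply _ s)
  have h2 : (algebraMap k X.functionField).FormallyUnramified := by
    have e : algebraMap k X.functionField = ((X ↘ Spec (CommRingCat.of k)).stalkMap (genericPoint X)).hom.comp
        ((Scheme.ΓSpecIso (CommRingCat.of k)).inv ≫
          (Spec (CommRingCat.of k)).presheaf.germ ⊤ ((X ↘ Spec (CommRingCat.of k)) (genericPoint X)) trivial).hom := by
      ext c
      exact (Scheme.Hom.germ_stalkMap_apply (X ↘ Spec (CommRingCat.of k)) ⊤ (genericPoint X) trivial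
        ((Scheme.ΓSpecIso (CommRingCat.of k)).inv c)).symm
    rw [e]
    exact RingHom.FormallyUnramified.comp (RingHom.FormallyUnramified.of_surjective (f := (((Scheme.ΓSpecIso (CommRingCat.of k)).inv ≫ (Spec (CommRingCat.of k)).presheaf.germ ⊤ ((X ↘ Spec (CommRingCat.of k)) (genericPoint X)) trivial).hom)) hs) hu
  haveI := (RingHom.formallyUnramified_algebraMap).1 h2
  haveI := Algebra.FormallyUnramified.subsingleton_kaehlerDifferential (R := k) (A := X.functionField)
  exact hv (Subsingleton.elim _ _)

theorem isBase_delta {v : X.functionField} (hv : KaehlerDifferential.D k X.functionField v ≠ 0) :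
    IsBase (om k X) (delta (k := k) (genericPoint X) v) := by
  have hspan : ∀ m, ∃ r : X.presheaf.stalk (genericPoint X), r • delta (k := k) (genericPoint X) v = m := fun m => by
    have hm : m ∈ Submodule.span (X.presheaf.stalk (genericPoint X)) (Set.range (delta (k := k) (genericPoint X))) :=
      (span_range_delta (genericPoint X)).ge Submodule.mem_top
    induction hm using Submodule.span_induction with
    | mem y hy =>
      obtain ⟨z, rfl⟩ := hy
      obtain ⟨c, -, hc⟩ := exists_delta_smul (k := k) hdim hv z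
      exact ⟨c, hc.symm⟩
    | zero => exact ⟨0, zero_smul _ _⟩
    | add a b _ _ ha hb => exact ⟨ha.choose + hb.choose, by rw [add_smul, ha.choose_spec, hb.choose_spec]⟩
    | smul r a _ ha => exact ⟨r * ha.choose, by rw [mul_smul, ha.choose_spec]⟩
  refine ⟨fun a b h => ?_, hspan⟩
  by_contra hab
  refine not_subsingleton_stalk_generic (k := k) hdim (subsingleton_of_forall_eq 0 fun m => ?_)
  obtain ⟨r, rfl⟩ := hspan m
  have hz : delta (k := k) (genericPoint X) v = 0 := by
    have h' : (a - b : X.functionField) • delta (k := k) (genericPoint X) v = 0 := by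
      show ((a - b : X.presheaf.stalk (genericPoint X))) • delta (k := k) (genericPoint X) v = 0
      rw [sub_smul]; exact sub_eq_zero.2 h
    have hu : IsUnit ((a - b : X.functionField)) := (sub_ne_zero.2 hab).isUnit
    exact hu.smul_eq_zero.1 h'
  rw [hz, smul_zero]

/-- The stalk at a closed point is spanned by the differential of a uniformizer. -/
theorem span_delta_unif {x : X} (hx : IsClosed ({x} : Set X)) {t : X.presheaf.stalk x}
    (ht : (placeOf k hdim x hx).1 (algebraMap (X.presheaf.stalk x) X.functionField t) = WithZero.exp (-1)) :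
    ∀ m, ∃ r : X.presheaf.stalk x, r • delta (k := k) x t = m := by
  have hK := isFF k hdim
  set P := placeOf k hdim x hx
  haveI := OmegaAffLib.isQCoh_omega (X ↘ Spec (CommRingCat.of k))
  haveI : Module.Finite (X.presheaf.stalk x) ((om k X).presheaf.stalk x) :=
    PullbackMod.finite_stalk_of_isFT (FittSheafLib.isFT_omega _) x
  have hinj := IsFractionRing.injective (X.presheaf.stalk x) X.functionField
  have hdec : ∀ z : X.presheaf.stalk x, ∃ (c : k) (z₁ : X.presheaf.stalk x), z = Curv2.stalkMap k X x c + t * z₁ := by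
    intro z
    have hz : P.1 (algebraMap (X.presheaf.stalk x) X.functionField z) ≤ 1 := (placeOf_le_one_iff hdim hx _).2 ⟨z, rfl⟩
    obtain ⟨c, hc⟩ := (FF.residue_bijective hK P).2 (IsLocalRing.residue P.O ⟨_, hz⟩)
    have h1 : P.1 (algebraMap (X.presheaf.stalk x) X.functionField z - algebraMap k X.functionField c) < 1 := by
      have h2 : IsLocalRing.residue P.O (⟨_, hz⟩ - algebraMap k P.O c) = 0 := by
        rw [map_sub, ← hc]; exact sub_self _
      exact (FF.residue_eq_zero_iff (P := P) _).1 h2
    rw [FF.v_lt_one_iff_le_exp] at h1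
    have ht0 : algebraMap (X.presheaf.stalk x) X.functionField t ≠ 0 := fun h => by
      rw [h, map_zero] at ht; exact WithZero.exp_ne_zero ht.symm
    obtain ⟨z₁, hz₁⟩ := (placeOf_le_one_iff hdim hx ((algebraMap (X.presheaf.stalk x) X.functionField z -
        algebraMap k X.functionField c) / algebraMap (X.presheaf.stalk x) X.functionField t)).1 (by
      rw [map_div₀, ht]; exact (div_le_one₀ WithZero.exp_pos).2 h1)
    refine ⟨c, z₁, hinj ?_⟩
    rw [map_add, map_mul, hz₁, mul_div_cancel₀ _ ht0,
      show algebraMap (X.presheaf.stalk x) X.functionField (Curv2.stalkMap k X x c) = algebraMap k X.functionField c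
        from algebraMap_stalkMap x c]
    ring
  have htm : t ∈ maximalIdeal (X.presheaf.stalk x) := by
    intro hu
    obtain ⟨s, hs⟩ := hu.exists_left_inv
    have h1 := congrArg (fun a => P.1 (algebraMap (X.presheaf.stalk x) X.functionField a)) hs
    simp only [map_mul, map_one, ht] at h1
    have h2 : P.1 (algebraMap (X.presheaf.stalk x) X.functionField s) ≤ 1 := (placeOf_le_one_iff hdim hx _).2 ⟨s, rfl⟩
    have h3 := mul_le_mul_left h2 (WithZero.exp (-1 : ℤ))
    rw [mul_comm] at h1
    have : (1 : ℤᵐ⁰) ≤ WithZero.exp (-1) := by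
      calc (1 : ℤᵐ⁰) = WithZero.exp (-1) * P.1 (algebraMap (X.presheaf.stalk x) X.functionField s) := h1.symm
        _ ≤ WithZero.exp (-1) := mul_le_of_le_one_right' h2
    rw [← WithZero.exp_zero, WithZero.exp_le_exp] at this
    omega
  let S := Submodule.span (X.presheaf.stalk x) ({delta (k := k) x t} : Set _)
  have hle : (⊤ : Submodule (X.presheaf.stalk x) ((om k X).presheaf.stalk x)) ≤
      S ⊔ maximalIdeal (X.presheaf.stalk x) • ⊤ := by
    refine (span_range_delta (k := k) x).ge.trans (Submodule.span_le.2 ?_)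
    rintro _ ⟨z, rfl⟩
    obtain ⟨c, z₁, rfl⟩ := hdec z
    rw [delta_add, delta_const, zero_add, delta_mul, add_comm (t • _)]
    exact Submodule.add_mem_sup (Submodule.smul_mem _ _ (Submodule.subset_span rfl))
      (Submodule.smul_mem_smul htm (Submodule.mem_top (R := X.presheaf.stalk x) (x := delta (k := k) x z₁)))
  have htop : (⊤ : Submodule (X.presheaf.stalk x) ((om k X).presheaf.stalk x)) ≤ S :=
    Submodule.le_of_le_smul_of_le_jacobson_bot Module.Finite.fg_top (IsLocalRing.maximalIdeal_le_jacobson ⊥) hle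
  intro m
  exact Submodule.mem_span_singleton.1 (htop (Submodule.mem_top (x := m)))

theorem exists_stalk_unif {x : X} (hx : IsClosed ({x} : Set X)) :
    ∃ t : X.presheaf.stalk x,
      (placeOf k hdim x hx).1 (algebraMap (X.presheaf.stalk x) X.functionField t) = WithZero.exp (-1) := by
  obtain ⟨t, ht⟩ := FF.exists_unif (placeOf k hdim x hx)
  obtain ⟨s, rfl⟩ := (placeOf_le_one_iff hdim hx t).1 (by rw [ht, ← WithZero.exp_zero, WithZero.exp_le_exp]; omega)
  exact ⟨s, ht⟩

/-- The sheaf of differentials is invertible, with a rational section whose divisor is canonical. -/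
theorem omega_canonical :
    PicF.IsInvertible (om k X) ∧ ∃ (e : (om k X).presheaf.stalk (genericPoint X))
      (C : FunFld.Divisor k X.functionField), IsBase (om k X) e ∧ IsDiv k hdim (om k X) e C ∧
        FunFld.IsCanonical k X.functionField C := by
  classical
  have hK := isFF k hdim
  have hg := FF.isGeometric_algClosed hK
  obtain ⟨φ, hφ⟩ := exists_expansions hK
  haveI hfin : ∀ P : FunFld.Place k X.functionField, FiniteDimensional k (IsLocalRing.ResidueField P.O) :=
    FF.finite_residue hK
  haveI := EulerIneqLib.isNoetherian_proper (X := X) k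
  obtain ⟨v, hv⟩ := exists_D_ne_zero k hdim
  have hloc : ∀ (x : X) (hx : IsClosed ({x} : Set X)), ∀ t : X.presheaf.stalk x,
      (placeOf k hdim x hx).1 (algebraMap (X.presheaf.stalk x) X.functionField t) = WithZero.exp (-1) →
      KaehlerDifferential.D k X.functionField (algebraMap (X.presheaf.stalk x) X.functionField t) ≠ 0 :=
    fun x hx t ht => FF.D_ne_zero_unif (hφ _) ht
  have hinv : PicF.IsInvertible (om k X) := by
    refine RefOne.isInvertible_of_free ⟨OmegaAffLib.isQCoh_omega _, FittSheafLib.isFT_omega _⟩ fun x => ?_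
    by_cases hx : IsClosed ({x} : Set X)
    · obtain ⟨t, ht⟩ := exists_stalk_unif (k := k) hdim hx
      refine ⟨delta x t, fun a b h => ?_, span_delta_unif (k := k) hdim hx ht⟩
      refine IsFractionRing.injective (X.presheaf.stalk x) X.functionField
        ((isBase_delta (k := k) hdim (hloc x hx t ht)).1 ?_)
      have h' := congrArg (spec (om k X) x) h
      simp only at h'
      rw [spec_smul, spec_smul, spec_delta] at h'
      exact h'
    · obtain rfl := eq_generic_of_not_closed k hdim hx
      exact ⟨_, isBase_delta (k := k) hdim hv⟩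
  refine ⟨hinv, _, FF.diffDiv hφ hK hg (one_ne_zero' X.functionField) hv, isBase_delta (k := k) hdim hv, ?_,
    FF.diffDiv_isCanonical hφ hK hg _ hv⟩
  intro x hx f
  obtain ⟨t, ht⟩ := exists_stalk_unif (k := k) hdim hx
  set P := placeOf k hdim x hx
  set τ := algebraMap (X.presheaf.stalk x) X.functionField t
  obtain ⟨c, hc, hcd⟩ := exists_delta_smul (k := k) hdim (hloc x hx t ht) v
  have hc0 : c ≠ 0 := by rintro rfl; rw [zero_smul] at hc; exact hv hc.symm
  have hC : FF.diffDiv hφ hK hg (one_ne_zero' X.functionField) hv P = P.ord c := by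
    rw [FF.diffDiv_apply, LocRes.ordDiff, LocRes.vDiff, map_one, one_mul, FF.D_exp_eq (φ P) hc, map_mul, (hφ P).1]
    have h1 : Valued.v (LocRes.D (IsLocalRing.ResidueField P.O) (φ P τ)) = 1 := by
      obtain ⟨h0, hneg⟩ := FF.D_exp_unif_coeff (hφ P) ht
      refine le_antisymm (FF.v_le_one_iff_coeff.2 hneg) ?_
      by_contra hlt
      push Not at hlt
      exact h0 (FF.v_lt_one_iff_coeff.1 hlt 0 le_rfl)
    rw [h1, mul_one]
    rfl
  show InStalk (om k X) _ x f ↔ P.1 f ≤ WithZero.exp (FF.diffDiv hφ hK hg (one_ne_zero' X.functionField) hv P)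
  rw [hC]
  have hiff : InStalk (om k X) (delta (k := k) (genericPoint X) v) x f ↔ P.1 (f * c) ≤ 1 := by
    rw [placeOf_le_one_iff hdim hx]
    constructor
    · rintro ⟨z, hz⟩
      obtain ⟨r, rfl⟩ := span_delta_unif (k := k) hdim hx ht z
      refine ⟨r, (isBase_delta (k := k) hdim (hloc x hx t ht)).1 ?_⟩
      rw [spec_smul, spec_delta, hcd, smul_smul] at hz
      exact hz
    · rintro ⟨r, hr⟩
      refine ⟨r • delta x t, ?_⟩
      rw [spec_smul, spec_delta, hcd, smul_smul]
      exact congrArg (fun a : X.functionField => (a : X.presheaf.stalk (genericPoint X)) • _) hr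
  rw [hiff, map_mul, (FF.ord_eq_iff P hc0).1 rfl, WithZero.exp_neg, mul_inv_le_iff₀ WithZero.exp_pos, one_mul]

end algClosed

end Groth.Agent.CurveFF
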