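import Groth.Agent.CurveFF.Div
import Groth.Agent.VBLib.Deg
import Groth.Agent.IntLib.Divisor
import Groth.Agent.AmpleEmb.Inverse
import Groth.Agent.HilbObsLib.Ideal
import Groth.Agent.CurveLib.Deg

/-!
# Tensor products, point ideals and divisors
-/

set_option autoImplicit false
set_option backward.isDefEq.respectTransparency false
set_option maxHeartbeats 1600000
set_option linter.style.haveILetI false

universe u

open CategoryTheory CategoryTheory.Limits AlgebraicGeometry TopologicalSpace Opposite IsLocalRing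
open Groth.Agent.PullbackMod Groth.Agent.DCohLib
open scoped WithZero TensorProduct

noncomputable section

namespace Groth.Agent.CurveFF

attribute [local instance] Curv2.stalkAlgebra

variable {k : Type u} [Field k] {X : Scheme.{u}} [X.Over (Spec (CommRingCat.of k))]
  [IsProper (X ↘ Spec (CommRingCat.of k))] [IsIntegral X] [VBLib.IsRegCurve X]
  (hdim : topologicalKrullDim X = 1)
include hdim

omit [VBLib.IsRegCurve X] in
theorem exists_placeVal {P : FunFld.Place k X.functionField} (n : ℤ) : ∃ f, P.1 f = WithZero.exp n :=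
  P.2.2 _

/-- The coordinate of a local generator has the valuation of the divisor. -/
theorem val_coord {L : X.Modules} {e : L.presheaf.stalk (genericPoint X)} (he : IsBase L e)
    {D : FunFld.Divisor k X.functionField} (hD : IsDiv k hdim L e D) {W : X.Opens} {t : Γ(L, W)}
    (ht : ParaFLib.Gen W t) {x : X} (hxW : x ∈ W) (hx : IsClosed ({x} : Set X)) {a : X.functionField}
    (ha : L.presheaf.germ W (genericPoint X) (generic_mem hxW) t = (a : X.presheaf.stalk (genericPoint X)) • e) :
    (placeOf k hdim x hx).1 a = WithZero.exp (D (placeOf k hdim x hx)) := by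
  refine le_antisymm ((hD x hx a).1 ((inStalk_iff he ht hxW ha a).2 ⟨1, by rw [map_one, one_mul]⟩)) ?_
  obtain ⟨f, hf⟩ := exists_placeVal hdim (P := placeOf k hdim x hx) (D (placeOf k hdim x hx))
  obtain ⟨r, hr⟩ := (inStalk_iff he ht hxW ha f).1 ((hD x hx f).2 hf.le)
  rw [← hf, ← hr, map_mul]
  exact mul_le_of_le_one_left' ((placeOf_le_one_iff hdim hx _).2 ⟨r, rfl⟩)

/-- The rational section of a tensor product. -/
def tensorBase {L M : X.Modules} (e : L.presheaf.stalk (genericPoint X)) (e' : M.presheaf.stalk (genericPoint X)) :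
    (CohB1.tensorMod L M).presheaf.stalk (genericPoint X) :=
  stalkTensor (genericPoint X) L M (e ⊗ₜ e')

omit hdim [IsProper (X ↘ Spec (CommRingCat.of k))] [VBLib.IsRegCurve X] [X.Over (Spec (CommRingCat.of k))] [Field k] in
theorem isBase_tensor {L M : X.Modules} {e : L.presheaf.stalk (genericPoint X)}
    {e' : M.presheaf.stalk (genericPoint X)} (he : IsBase L e) (he' : IsBase M e') :
    IsBase (CohB1.tensorMod L M) (tensorBase e e') :=
  AmpleLib.bijective_stalkTensor he he'

theorem isDiv_tensor {L M : X.Modules} (hL : PicF.IsInvertible L) (hM : PicF.IsInvertible M)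
    {e : L.presheaf.stalk (genericPoint X)} {e' : M.presheaf.stalk (genericPoint X)} (he : IsBase L e)
    (he' : IsBase M e') {D E : FunFld.Divisor k X.functionField} (hD : IsDiv k hdim L e D)
    (hE : IsDiv k hdim M e' E) : IsDiv k hdim (CohB1.tensorMod L M) (tensorBase e e') (D + E) := by
  intro x hx f
  obtain ⟨W₁, s₁, h₁, g₁⟩ := ParaFLib.exists_gen_nhd hL x
  obtain ⟨W₂, s₂, h₂, g₂⟩ := ParaFLib.exists_gen_nhd hM x
  have g₁' := g₁.res (inf_le_left : W₁ ⊓ W₂ ≤ W₁)
  have g₂' := g₂.res (inf_le_right : W₁ ⊓ W₂ ≤ W₂)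
  have hxW : x ∈ W₁ ⊓ W₂ := ⟨h₁, h₂⟩
  obtain ⟨a, ha0, ha⟩ := exists_inStalk_iff he g₁' hxW
  obtain ⟨b, hb0, hb⟩ := exists_inStalk_iff he' g₂' hxW
  have hab : (CohB1.tensorMod L M).presheaf.germ (W₁ ⊓ W₂) (genericPoint X) (generic_mem hxW)
      (pairS L M (L.presheaf.map (homOfLE (inf_le_left : W₁ ⊓ W₂ ≤ W₁)).op s₁)
        (M.presheaf.map (homOfLE (inf_le_right : W₁ ⊓ W₂ ≤ W₂)).op s₂)) = ((a * b : X.functionField) : X.presheaf.stalk (genericPoint X)) • tensorBase e e' := by
    refine (AmpleLib.germ_pairS _ _ _ (generic_mem hxW)).trans ?_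
    rw [ha, hb, TensorProduct.smul_tmul_smul, map_smul]
    rfl
  have hva := val_coord hdim he hD g₁' hxW hx ha
  have hvb := val_coord hdim he' hE g₂' hxW hx hb
  rw [inStalk_iff (isBase_tensor he he') (AmpleLib.gen_pairS g₁' g₂') hxW hab f, Finsupp.add_apply,
    WithZero.exp_add, ← hva, ← hvb, ← map_mul]
  constructor
  · rintro ⟨r, rfl⟩
    rw [map_mul _ (algebraMap _ _ r)]
    exact mul_le_of_le_one_left' ((placeOf_le_one_iff hdim hx _).2 ⟨r, rfl⟩)
  · intro hf
    have hab0 : a * b ≠ 0 := mul_ne_zero ha0 hb0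
    obtain ⟨r, hr⟩ := (placeOf_le_one_iff hdim hx (f / (a * b))).1 (by
      rw [map_div₀, div_le_one₀ (zero_lt_iff.2 ((map_ne_zero _).2 hab0))]; exact hf)
    exact ⟨r, by rw [hr, div_mul_cancel₀ _ hab0]⟩

omit hdim [IsProper (X ↘ Spec (CommRingCat.of k))] [VBLib.IsRegCurve X] [X.Over (Spec (CommRingCat.of k))] [Field k] in
theorem stalkIdeal_point {x : X} (hx : IsClosed ({x} : Set X)) :
    IntMult.stalkIdeal (Scheme.IdealSheafData.vanishingIdeal (⟨{x}, hx⟩ : Closeds X)) x =
      maximalIdeal (X.presheaf.stalk x) ∧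
    ∀ y, y ≠ x → IntMult.stalkIdeal (Scheme.IdealSheafData.vanishingIdeal (⟨{x}, hx⟩ : Closeds X)) y = ⊤ := by
  let J := Scheme.IdealSheafData.vanishingIdeal (⟨{x}, hx⟩ : Closeds X)
  have hsupp : (J.support : Set X) = {x} := by
    rw [Scheme.IdealSheafData.coe_support_vanishingIdeal]; rfl
  refine ⟨?_, fun y hy =>
    HilbObsLib.stalkIdeal_eq_top J (by rw [Scheme.IdealSheafData.range_subschemeι, hsupp]; exact hy)⟩
  haveI : IsIntegral J.subscheme := CurveLib.isIntegral_vanishingIdeal hx isIrreducible_singleton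
  have hall : ∀ z : J.subscheme, J.subschemeι z = x := fun z => by
    have : J.subschemeι z ∈ Set.range J.subschemeι := ⟨z, rfl⟩
    rwa [Scheme.IdealSheafData.range_subschemeι, hsupp] at this
  have hz := hall (genericPoint J.subscheme)
  show IntMult.stalkIdeal J x = _
  rw [← hz, ← IdealStalkLib.ker_stalkMap_subschemeι J (genericPoint J.subscheme)]
  refine IsLocalRing.eq_maximalIdeal ?_
  exact RingHom.ker_isMaximal_of_surjective (K := J.subscheme.functionField) _
    (J.subschemeι.stalkMap_surjective (genericPoint J.subscheme))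

end Groth.Agent.CurveFF
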