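import Groth.Agent.CurveFF.Omega
import Groth.Agent.ShBCLib.Finrank
import Groth.Agent.AmpleLib.Pullback

/-!
# Serre duality (numerical) on regular proper curves over algebraically closed fields
-/

set_option autoImplicit false
set_option backward.isDefEq.respectTransparency false
set_option maxHeartbeats 800000
set_option linter.style.haveILetI false

universe u

open CategoryTheory CategoryTheory.Limits AlgebraicGeometry TopologicalSpace

noncomputable section

namespace Groth.Agent.CurveFF

attribute [local instance] Curv2.stalkAlgebra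
attribute [local instance high] FunFld.Place.algRes

/-- Regular local rings of dimension at most one. -/
theorem isRegCurve_of_regular {X : Scheme.{u}} (hdim : topologicalKrullDim X ≤ 1)
    (hreg : ∀ x : X, IsRegularLocalRing (X.presheaf.stalk x)) : VBLib.IsRegCurve X := by
  refine ⟨fun x => ?_⟩
  haveI := hreg x
  refine VBLib.isPrincipalIdealRing_of_regular _ ?_
  rw [ringKrullDim_stalk_eq_coheight]
  rw [ASp.topologicalKrullDim_eq_krullDim] at hdim
  exact (Order.coheight_le_krullDim x).trans hdim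

theorem isInvertible_of_isInverseOf_right {X : Scheme.{u}} {L M : X.Modules} (h : ClSub.IsInverseOf L M) :
    PicF.IsInvertible M :=
  AmpleLib.isInvertible_of_tensor_iso (AmpleLib.comm M L ≪≫ h.some)

variable {k : Type u} [Field k] [IsAlgClosed k] {X : Scheme.{u}} [X.Over (Spec (CommRingCat.of k))]
  [IsProper (X ↘ Spec (CommRingCat.of k))] [IsIntegral X] [VBLib.IsRegCurve X]
  (hdim : topologicalKrullDim X = 1)
include hdim

variable (k) in
include k in
theorem omega_invertible : PicF.IsInvertible (om k X) := (omega_canonical (k := k) hdim).1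

variable (k) in
include k in
theorem omega_deg : Curv2.deg k X (om k X) 1 = 2 * (Curv2.genus k X : ℤ) - 2 := by
  obtain ⟨hL, e, C, he, hD, hC⟩ := omega_canonical (k := k) hdim
  obtain ⟨hg, hd⟩ := genus_and_deg hdim (h0_eq_one k hdim) hL he hD
  rw [hd, (FF.canonical_deg (isFF k hdim) hC).2, hg]

variable (k) in
include k in
theorem omega_h0 : Module.finrank k (Coh.HH X (om k X) 0) = Curv2.genus k X := by
  obtain ⟨hL, e, C, he, hD, hC⟩ := omega_canonical (k := k) hdim
  rw [finrank_H0_eq_ell hdim hL he hD, (FF.canonical_deg (isFF k hdim) hC).1, genus_eq hdim (h0_eq_one k hdim)]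

variable (k) in
include k in
theorem omega_h1 : Module.finrank k (Coh.HH X (om k X) 1) = 1 := by
  obtain ⟨hL, e, C, he, hD, hC⟩ := omega_canonical (k := k) hdim
  rw [finrank_H1_eq hdim (h0_eq_one k hdim) hL he hD hC, sub_self, FF.ell_zero (isFF k hdim)]

/-- `h¹(L) = h⁰(Ω ⊗ L⁻¹)`. -/
theorem h1_eq_h0_dual {L M : X.Modules} (hL : PicF.IsInvertible L) (hM : ClSub.IsInverseOf L M) :
    Module.finrank k (Coh.HH X L 1) = Module.finrank k (Coh.HH X (CohB1.tensorMod (om k X) M) 0) := by
  have h0 := h0_eq_one k hdim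
  obtain ⟨hΩ, eΩ, C, heΩ, hC, hcan⟩ := omega_canonical (k := k) hdim
  obtain ⟨e, he⟩ := exists_base hL
  obtain ⟨D, hD⟩ := exists_isDiv hdim h0 hL he
  have hMi := isInvertible_of_isInverseOf_right hM
  obtain ⟨eM, heM, hDM⟩ := exists_isDiv_inverse hdim h0 hL hMi hM.some he hD
  rw [finrank_H1_eq hdim h0 hL he hD hcan, finrank_H0_eq_ell hdim (AmpleLib.isInvertible_tensor hΩ hMi)
    (isBase_tensor heΩ heM) (isDiv_tensor hdim hΩ hMi heΩ heM hC hDM), sub_eq_add_neg]

/-- The canonical module is characterised by its degree and its sections. -/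
theorem nonempty_iso_omega {L : X.Modules} (hL : PicF.IsInvertible L)
    (hdeg : Curv2.deg k X L 1 = 2 * (Curv2.genus k X : ℤ) - 2)
    (hh : Curv2.genus k X ≤ Module.finrank k (Coh.HH X L 0)) : Nonempty (L ≅ om k X) := by
  have h0 := h0_eq_one k hdim
  have hK := isFF k hdim
  obtain ⟨hΩ, eΩ, C, heΩ, hC, hcan⟩ := omega_canonical (k := k) hdim
  obtain ⟨e, he⟩ := exists_base hL
  obtain ⟨D, hD⟩ := exists_isDiv hdim h0 hL he
  obtain ⟨hg, hd⟩ := genus_and_deg hdim h0 hL he hD
  rw [finrank_H0_eq_ell hdim hL he hD, hg] at hh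
  rw [hd, hg] at hdeg
  have hrr := FF.riemann_roch hK hcan D
  obtain ⟨hC1, hC2⟩ := FF.canonical_deg hK hcan
  refine nonempty_iso_of_sub_mem_prinDivs hdim h0 hL hΩ he hD heΩ hC ((FF.mem_prinDivs_iff hK).2 ?_)
  obtain ⟨z, hz, hzL⟩ := FF.exists_ne_zero_of_ell_pos (D := C - D) (by omega)
  have h1 := FF.le_add_div_of_mem_L hK hz hzL
  have h2 := FF.eq_zero_of_nonneg_of_deg hK h1 (by rw [FF.deg_add, FF.deg_div hK, FF.deg_sub]; omega)
  exact ⟨z⁻¹, inv_ne_zero hz, by rw [FF.div_inv hK]; exact (eq_neg_of_add_eq_zero_left h2).symm⟩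

end Groth.Agent.CurveFF
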