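import Groth.Agent.CurveFF.Point
import Groth.Agent.ProjUPLib.Exists
import Mathlib.AlgebraicGeometry.Birational.RationalMap
import Mathlib.AlgebraicGeometry.SpreadingOut

/-!
# Morphisms of regular proper curves from maps of function fields
-/

set_option autoImplicit false
set_option backward.isDefEq.respectTransparency false
set_option linter.style.haveILetI false

universe u

open CategoryTheory Limits AlgebraicGeometry TopologicalSpace

noncomputable section

namespace Groth.Agent.CurveFF

attribute [local instance] Curv2.stalkAlgebra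
attribute [local instance high] FunFld.Place.algRes

variable (k : Type u) [Field k]

theorem fromSpecStalk_over {X : Scheme.{u}} [X.Over (Spec (CommRingCat.of k))] (x : X) :
    X.fromSpecStalk x ≫ (X ↘ Spec (CommRingCat.of k)) = Spec.map (CommRingCat.ofHom (Curv2.stalkMap k X x)) := by
  conv_lhs => rw [ProjUPLib.eq_toSpecΓ_toGlobal (X ↘ Spec (CommRingCat.of k))]
  rw [Scheme.fromSpecStalk_toSpecΓ_assoc, ← Spec.map_comp]
  rfl

variable {k} {X Y : Scheme.{u}} [X.Over (Spec (CommRingCat.of k))] [IsProper (X ↘ Spec (CommRingCat.of k))]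
  [IsIntegral X] [VBLib.IsRegCurve X]

omit [IsProper (X ↘ Spec (CommRingCat.of k))] [VBLib.IsRegCurve X] [X.Over (Spec (CommRingCat.of k))] in
theorem isDominant_fromSpecStalk_generic : IsDominant (X.fromSpecStalk (genericPoint X)) := by
  refine ⟨(dense_iff_closure_eq.2 ((genericPoint_spec X).def)).mono (Set.singleton_subset_iff.2 ?_)⟩
  exact ⟨IsLocalRing.closedPoint _, Scheme.fromSpecStalk_closedPoint⟩

/-- A point of a proper scheme with values in the function field extends uniquely to the curve. -/
theorem existsUnique_hom_of_generic (hdim : topologicalKrullDim X = 1) (sY : Y ⟶ Spec (CommRingCat.of k))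
    [IsProper sY] (φ : Spec X.functionField ⟶ Y)
    (hφ : φ ≫ sY = X.fromSpecStalk (genericPoint X) ≫ (X ↘ Spec (CommRingCat.of k))) :
    ∃! g : X ⟶ Y, X.fromSpecStalk (genericPoint X) ≫ g = φ ∧ g ≫ sY = X ↘ Spec (CommRingCat.of k) := by
  haveI := isDominant_fromSpecStalk_generic (X := X)
  obtain ⟨U, hU, g₀, hg₀, hg₀'⟩ := spread_out_of_isGermInjective' (X ↘ Spec (CommRingCat.of k)) sY φ hφ
  obtain ⟨g, ⟨hg, hg'⟩, -⟩ := NormalSch.existsUnique_extension (k := k) (fun _ h => dim_stalk hdim h) isNormalScheme sY U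
    (U.2.dense ⟨_, hU⟩) g₀ hg₀'
  refine ⟨g, ⟨?_, hg'⟩, fun g' ⟨h1, h2⟩ => ?_⟩
  · rw [hg₀, ← hg, ← Category.assoc, Scheme.Opens.fromSpecStalkOfMem_ι]
  · refine ext_of_isDominant_of_isSeparated sY (h2.trans hg'.symm) (X.fromSpecStalk (genericPoint X)) ?_
    rw [h1, hg₀, ← hg, ← Category.assoc, Scheme.Opens.fromSpecStalkOfMem_ι]

variable [Y.Over (Spec (CommRingCat.of k))] [IsProper (Y ↘ Spec (CommRingCat.of k))]
  [IsIntegral Y] [VBLib.IsRegCurve Y]

omit [IsProper (X ↘ Spec (CommRingCat.of k))] [VBLib.IsRegCurve X] [IsProper (Y ↘ Spec (CommRingCat.of k))]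
  [VBLib.IsRegCurve Y] in
theorem generic_comp_over (φ : Y.functionField →ₐ[k] X.functionField) :
    (Spec.map (CommRingCat.ofHom φ.toRingHom) ≫ Y.fromSpecStalk (genericPoint Y)) ≫ (Y ↘ Spec (CommRingCat.of k)) =
      X.fromSpecStalk (genericPoint X) ≫ (X ↘ Spec (CommRingCat.of k)) := by
  rw [Category.assoc, fromSpecStalk_over, fromSpecStalk_over, ← Spec.map_comp, ← CommRingCat.ofHom_comp]
  congr 2
  exact RingHom.ext fun c => φ.commutes c

/-- A map of function fields is induced by a unique morphism of curves. -/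
theorem existsUnique_hom_of_algHom (hdim : topologicalKrullDim X = 1)
    (φ : Y.functionField →ₐ[k] X.functionField) :
    ∃! g : X ⟶ Y, X.fromSpecStalk (genericPoint X) ≫ g =
        Spec.map (CommRingCat.ofHom φ.toRingHom) ≫ Y.fromSpecStalk (genericPoint Y) ∧
      g ≫ (Y ↘ Spec (CommRingCat.of k)) = X ↘ Spec (CommRingCat.of k) :=
  existsUnique_hom_of_generic hdim _ _ (generic_comp_over φ)

/-- An isomorphism of function fields is induced by an isomorphism of curves. -/
theorem exists_iso_of_algEquiv (hdim : topologicalKrullDim X = 1) (hdimY : topologicalKrullDim Y = 1)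
    (e : Y.functionField ≃ₐ[k] X.functionField) :
    ∃ σ : X ≅ Y, σ.hom ≫ (Y ↘ Spec (CommRingCat.of k)) = X ↘ Spec (CommRingCat.of k) ∧
      X.fromSpecStalk (genericPoint X) ≫ σ.hom =
        Spec.map (CommRingCat.ofHom e.toAlgHom.toRingHom) ≫ Y.fromSpecStalk (genericPoint Y) := by
  obtain ⟨g, ⟨hg, hg'⟩, -⟩ := existsUnique_hom_of_algHom hdim e.toAlgHom
  obtain ⟨h, ⟨hh, hh'⟩, -⟩ := existsUnique_hom_of_algHom hdimY e.symm.toAlgHom
  haveI := isDominant_fromSpecStalk_generic (X := X)
  haveI := isDominant_fromSpecStalk_generic (X := Y)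
  refine ⟨⟨g, h, ?_, ?_⟩, hg', hg⟩
  · refine ext_of_isDominant_of_isSeparated (X ↘ Spec (CommRingCat.of k)) ?_ (X.fromSpecStalk (genericPoint X)) ?_
    · rw [Category.assoc, hh', hg', Category.id_comp]
    · rw [← Category.assoc, hg, Category.assoc, hh, ← Category.assoc, ← Spec.map_comp, Category.comp_id,
        ← CommRingCat.ofHom_comp, show e.toAlgHom.toRingHom.comp e.symm.toAlgHom.toRingHom = RingHom.id _ from
          RingHom.ext e.apply_symm_apply, CommRingCat.ofHom_id, Spec.map_id]
      exact Category.id_comp _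
  · refine ext_of_isDominant_of_isSeparated (Y ↘ Spec (CommRingCat.of k)) ?_ (Y.fromSpecStalk (genericPoint Y)) ?_
    · rw [Category.assoc, hg', hh', Category.id_comp]
    · rw [← Category.assoc, hh, Category.assoc, hg, ← Category.assoc, ← Spec.map_comp, Category.comp_id,
        ← CommRingCat.ofHom_comp, show e.symm.toAlgHom.toRingHom.comp e.toAlgHom.toRingHom = RingHom.id _ from
          RingHom.ext e.symm_apply_apply, CommRingCat.ofHom_id, Spec.map_id]
      exact Category.id_comp _

omit [IsProper (X ↘ Spec (CommRingCat.of k))] [VBLib.IsRegCurve X] [IsProper (Y ↘ Spec (CommRingCat.of k))]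
  [VBLib.IsRegCurve Y] [X.Over (Spec (CommRingCat.of k))] [Y.Over (Spec (CommRingCat.of k))] in
/-- Regular functions at the image pull back to regular functions. -/
theorem map_mem_range_stalk (g : X ⟶ Y) (ψ : Y.functionField →+* X.functionField)
    (hg : X.fromSpecStalk (genericPoint X) ≫ g =
      Spec.map (CommRingCat.ofHom ψ) ≫ Y.fromSpecStalk (genericPoint Y))
    (z : X) {y : Y.functionField} (hy : y ∈ Set.range (algebraMap (Y.presheaf.stalk (g z)) Y.functionField)) :
    ψ y ∈ Set.range (algebraMap (X.presheaf.stalk z) X.functionField) := by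
  obtain ⟨a, rfl⟩ := hy
  refine ⟨g.stalkMap z a, ?_⟩
  have hX : X.fromSpecStalk (genericPoint X) =
      Spec.map (X.presheaf.stalkSpecializes ((genericPoint_spec X).specializes (y := z) trivial)) ≫ X.fromSpecStalk z :=
    (Scheme.SpecMap_stalkSpecializes_fromSpecStalk ((genericPoint_spec X).specializes (y := z) trivial)).symm
  have hY : Y.fromSpecStalk (genericPoint Y) =
      Spec.map (Y.presheaf.stalkSpecializes ((genericPoint_spec Y).specializes (y := g z) trivial)) ≫
        Y.fromSpecStalk (g z) :=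
    (Scheme.SpecMap_stalkSpecializes_fromSpecStalk ((genericPoint_spec Y).specializes (y := g z) trivial)).symm
  rw [hX, hY, Category.assoc, ← Scheme.SpecMap_stalkMap_fromSpecStalk, ← Category.assoc, ← Category.assoc,
    ← Spec.map_comp, ← Spec.map_comp, cancel_mono] at hg
  exact congr($(Spec.map_injective hg).hom a)

end Groth.Agent.CurveFF
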