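import Groth.Agent.CurveFF.BC

/-!
# The canonical class of a smooth proper curve over an arbitrary field
-/

set_option autoImplicit false
set_option backward.isDefEq.respectTransparency false
set_option maxHeartbeats 800000
set_option linter.style.haveILetI false

universe u

open CategoryTheory CategoryTheory.Limits AlgebraicGeometry TopologicalSpace Opposite

noncomputable section

namespace Groth.Agent.CurveFF

attribute [local instance] Curv2.stalkAlgebra
attribute [local instance high] FunFld.Place.algRes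

/-- Divisors of degree `2g-2` with `g` independent sections are canonical up to equivalence. -/
theorem sub_canonical_mem_prinDivs {k K : Type*} [Field k] [Field K] [Algebra k K] (hK : FunFld.IsFunctionField k K)
    {D C : FunFld.Divisor k K} (hC : FunFld.IsCanonical k K C) (hdeg : D.deg = 2 * (FunFld.genus k K : ℤ) - 2)
    (hh : FunFld.genus k K ≤ FunFld.ell D) : D - C ∈ FunFld.prinDivs k K := by
  have hrr := FF.riemann_roch hK hC D
  obtain ⟨hC1, hC2⟩ := FF.canonical_deg hK hC
  obtain ⟨z, hz, hzL⟩ := FF.exists_ne_zero_of_ell_pos (D := C - D) (by omega)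
  have h1 := FF.le_add_div_of_mem_L hK hz hzL
  have h2 := FF.eq_zero_of_nonneg_of_deg hK h1 (by rw [FF.deg_add, FF.deg_div hK, FF.deg_sub]; omega)
  refine (FF.mem_prinDivs_iff hK).2 ⟨z, hz, ?_⟩
  rw [eq_neg_of_add_eq_zero_right h2, neg_sub]

variable {k : Type u} [Field k] {X : Scheme.{u}} [X.Over (Spec (CommRingCat.of k))]
  [IsProper (X ↘ Spec (CommRingCat.of k))] [IsIntegral X] [VBLib.IsRegCurve X]
  (hdim : topologicalKrullDim X = 1) (h0 : Module.finrank k (Coh.HH X (Coh.structureModule X) 0) = 1)
include hdim h0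

/-- In positive genus the divisor of one point has at most `deg P` sections. -/
theorem ell_single_le (hg : 1 ≤ Curv2.genus k X) (P : FunFld.Place k X.functionField) :
    FunFld.ell (Finsupp.single P (1 : ℤ)) ≤ P.deg := by
  classical
  have hK := isFunctionField k hdim h0
  obtain ⟨L, e, hL, he, hD⟩ := exists_module hdim h0 (Finsupp.single P (1 : ℤ))
  have hh := finrank_H0_eq_ell hdim hL he hD
  have hd := (genus_and_deg hdim h0 hL he hD).2
  rw [FF.deg_single, one_mul] at hd
  have hP := FF.deg_pos hK P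
  rcases Nat.eq_zero_or_pos (FunFld.ell (Finsupp.single P (1 : ℤ))) with hz | hz
  · omega
  haveI : Nontrivial (Coh.HH X L 0) := Module.nontrivial_of_finrank_pos (R := k) (by omega)
  obtain ⟨h1, h2⟩ := CurveLib.h0_le_deg_add_one (k := k) hdim.le h0 hL
  by_contra hgt
  push Not at hgt
  have := h2 (by omega) (by omega)
  omega

variable [Smooth (X ↘ Spec (CommRingCat.of k))]

/-- The canonical module of a smooth curve is characterised by degree and sections. -/
theorem nonempty_iso_omega_of_smooth {L : X.Modules} (hL : PicF.IsInvertible L)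
    (hdeg : Curv2.deg k X L 1 = 2 * (Curv2.genus k X : ℤ) - 2)
    (hh : Curv2.genus k X ≤ Module.finrank k (Coh.HH X L 0)) : Nonempty (L ≅ om k X) := by
  have hK := isFunctionField k hdim h0
  obtain ⟨C, hC⟩ := FF.exists_canonical hK
  have hΩ := omega_invertible_of_smooth k hdim h0
  obtain ⟨hd, hh'⟩ := omega_deg_h0 k hdim h0
  have key : ∀ (M : X.Modules), PicF.IsInvertible M → Curv2.deg k X M 1 = 2 * (Curv2.genus k X : ℤ) - 2 →
      Curv2.genus k X ≤ Module.finrank k (Coh.HH X M 0) →
      ∃ e D, IsBase M e ∧ IsDiv k hdim M e D ∧ D - C ∈ FunFld.prinDivs k X.functionField := by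
    intro M hM hMd hMh
    obtain ⟨e, he⟩ := exists_base hM
    obtain ⟨D, hD⟩ := exists_isDiv hdim h0 hM he
    obtain ⟨hg, hdd⟩ := genus_and_deg hdim h0 hM he hD
    rw [finrank_H0_eq_ell hdim hM he hD, hg] at hMh
    exact ⟨e, D, he, hD, sub_canonical_mem_prinDivs hK hC (by rw [← hdd, hMd, hg]) hMh⟩
  obtain ⟨e, D, he, hD, hDC⟩ := key L hL hdeg hh
  obtain ⟨e', D', he', hD', hDC'⟩ := key _ hΩ hd hh'.ge
  refine nonempty_iso_of_sub_mem_prinDivs hdim h0 hL hΩ he hD he' hD' ?_
  have := sub_mem hDC' hDC
  rwa [sub_sub_sub_cancel_right] at this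

variable (k) in
include k in
/-- In positive genus the canonical module is globally generated. -/
theorem omega_globallyGenerated_of_smooth (hg : 1 ≤ Curv2.genus k X) : Curv2.IsGloballyGenerated (om k X) := by
  have hK := isFunctionField k hdim h0
  obtain ⟨C, hC⟩ := FF.exists_canonical hK
  have hΩ := omega_invertible_of_smooth k hdim h0
  obtain ⟨hd, hh⟩ := omega_deg_h0 k hdim h0
  obtain ⟨e, he⟩ := exists_base hΩ
  obtain ⟨D, hD⟩ := exists_isDiv hdim h0 hΩ he
  obtain ⟨hgen, hdd⟩ := genus_and_deg hdim h0 hΩ he hD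
  rw [finrank_H0_eq_ell hdim hΩ he hD, hgen] at hh
  rw [hdd, hgen] at hd
  have hDC := sub_canonical_mem_prinDivs hK hC hd hh.ge
  refine isGloballyGenerated_of_ell hdim h0 hΩ he hD fun P => ?_
  have hrr := FF.riemann_roch hK hC (D - Finsupp.single P (1 : ℤ))
  have he2 : FunFld.ell (C - (D - Finsupp.single P (1 : ℤ))) = FunFld.ell (Finsupp.single P (1 : ℤ)) :=
    FF.ell_congr hK (by
      rw [show Finsupp.single P (1 : ℤ) - (C - (D - Finsupp.single P (1 : ℤ))) = D - C by abel]
      exact hDC)
  have hle := ell_single_le hdim h0 hg P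
  rw [he2, FF.deg_sub, FF.deg_single, one_mul, hd] at hrr
  rw [hgen] at hg
  omega

end Groth.Agent.CurveFF
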