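import Groth.Agent.NormHomLib.Normal
import Groth.Agent.AVLib.Deg.Rank
import Mathlib.RingTheory.Etale.Locus
import Mathlib.AlgebraicGeometry.Morphisms.Etale
import Mathlib.AlgebraicGeometry.ResidueField

/-!
# Finite maps of integral schemes at the generic point: rank and étaleness
-/

set_option autoImplicit false
set_option linter.style.haveILetI false
set_option backward.isDefEq.respectTransparency false

universe u

open CategoryTheory CategoryTheory.Limits AlgebraicGeometry TopologicalSpace Opposite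

noncomputable section

namespace Groth.Agent.CurveFF.GenEtale

theorem surjective_of_generic {X Y : Scheme.{u}} [IsIntegral X] [IsIntegral Y] (f : X ⟶ Y) [IsFinite f]
    (e : f (genericPoint X) = genericPoint Y) : Surjective f := by
  refine ⟨fun y => ?_⟩
  have hcl : IsClosed (Set.range f) := f.isClosedMap.isClosed_range
  have h : closure ({genericPoint Y} : Set Y) ⊆ Set.range f :=
    closure_minimal (Set.singleton_subset_iff.2 ⟨_, e⟩) hcl
  rw [(genericPoint_spec Y).def] at h
  exact h trivial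

theorem isField_stalk {X : Scheme.{u}} [IsIntegral X] {x : X} (hx : x = genericPoint X) :
    IsField (X.presheaf.stalk x) := by
  subst hx
  exact Field.toIsField X.functionField

theorem residue_bijective {X : Scheme.{u}} [IsIntegral X] {x : X} (hx : x = genericPoint X) :
    Function.Bijective (X.residue x).hom :=
  ⟨by
    letI := (isField_stalk hx).toField
    exact (X.residue x).hom.injective, IsLocalRing.residue_surjective⟩

variable {X Y : Scheme.{u}} [IsIntegral X] [IsIntegral Y] (f : X ⟶ Y) [IsFinite f] [Surjective f]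

/-- The generic residue field of the target is the function field. -/
def baseEquiv : Y.functionField ≃+* Y.residueField (f (genericPoint X)) :=
  ((Y.presheaf.stalkCongr (Inseparable.of_eq (NormHomLib.map_genericPoint f))).commRingCatIsoToRingEquiv.symm).trans
    (RingEquiv.ofBijective (Y.residue _).hom (residue_bijective (NormHomLib.map_genericPoint f)))

/-- The generic residue field of the source is the function field. -/
def topEquiv : X.functionField ≃+* X.residueField (genericPoint X) :=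
  RingEquiv.ofBijective (X.residue _).hom (residue_bijective rfl)

theorem equiv_comm (a : Y.functionField) :
    (f.residueFieldMap (genericPoint X)).hom (baseEquiv f a) = topEquiv (X := X) ((NormHomLib.ffMap f).hom a) :=
  congr($(Scheme.residue_residueFieldMap f (genericPoint X)).hom
    ((Y.presheaf.stalkSpecializes (Inseparable.of_eq (NormHomLib.map_genericPoint f)).specializes) a))

theorem isSeparable_functionField
    (h : letI := (f.residueFieldMap (genericPoint X)).hom.toAlgebra
      Algebra.IsSeparable (Y.residueField (f (genericPoint X))) (X.residueField (genericPoint X))) :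
    letI := NormHomLib.ffAlg f
    Algebra.IsSeparable Y.functionField X.functionField := by
  letI := NormHomLib.ffAlg f
  letI := (f.residueFieldMap (genericPoint X)).hom.toAlgebra
  refine Algebra.IsSeparable.of_equiv_equiv (baseEquiv f).symm (topEquiv (X := X)).symm ?_
  ext b
  obtain ⟨a, rfl⟩ := (baseEquiv f).surjective b
  simp only [RingHom.coe_comp, Function.comp_apply, RingEquiv.coe_toRingHom, RingEquiv.symm_apply_apply]
  refine ((topEquiv (X := X)).symm_apply_eq.2 ?_).symm
  exact equiv_comm f a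

theorem residueDegree_eq_finrank :
    letI := NormHomLib.ffAlg f
    f.residueDegree (genericPoint X) = Module.finrank Y.functionField X.functionField := by
  letI := NormHomLib.ffAlg f
  letI := (f.residueFieldMap (genericPoint X)).hom.toAlgebra
  refine (Algebra.finrank_eq_of_equiv_equiv (baseEquiv f) (topEquiv (X := X)) ?_).symm
  ext a
  exact equiv_comm f a

/-- The rank of a finite flat map is its residue degree at the generic point. -/
theorem finrank_eq_residueDegree [Flat f] [LocallyOfFinitePresentation f] (y : Y) :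
    Scheme.Hom.finrank f y = f.residueDegree (genericPoint X) := by
  haveI : PreconnectedSpace Y := inferInstance
  rw [f.isLocallyConstant_finrank.apply_eq_of_preconnectedSpace y (genericPoint Y), residueDegree_eq_finrank f]
  obtain ⟨_, ⟨V, hV, rfl⟩, hη, -⟩ :=
    Y.isBasis_affineOpens.exists_subset_of_mem_open (Set.mem_univ (genericPoint Y)) isOpen_univ
  have hV : IsAffineOpen V := hV
  have hU : IsAffineOpen (f ⁻¹ᵁ V) := hV.preimage f
  haveI : Nonempty V := ⟨⟨_, hη⟩⟩
  haveI : Nonempty (f ⁻¹ᵁ V) := ⟨⟨_, NormHomLib.gen_preimage f hη⟩⟩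
  have hpb : IsPullback hU.fromSpec (Spec.map (f.appLE V (f ⁻¹ᵁ V) le_rfl)) f hV.fromSpec :=
    (IsOpenImmersion.isPullback _ _ _ _ (hV.SpecMap_appLE_fromSpec f hU le_rfl).symm
      (by rw [hU.opensRange_fromSpec, hV.opensRange_fromSpec])).flip
  let p : Spec Γ(Y, V) := ⟨⊥, Ideal.isPrime_bot⟩
  have hp : hV.fromSpec p = genericPoint Y := by
    refine Eq.trans ?_ (hV.fromSpec_primeIdealOf ⟨genericPoint Y, hη⟩)
    congr 1
    rw [hV.primeIdealOf_genericPoint, genericPoint_eq_bot_of_affine]
    rfl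
  refine (congrArg (Scheme.Hom.finrank f) hp.symm).trans ?_
  rw [← Scheme.Hom.finrank_of_isPullback _ _ _ _ hpb p]
  letI : Algebra Γ(Y, V) Γ(X, f ⁻¹ᵁ V) := (f.appLE V (f ⁻¹ᵁ V) le_rfl).hom.toAlgebra
  haveI : Module.Finite Γ(Y, V) Γ(X, f ⁻¹ᵁ V) := by
    have h := IsFinite.finite_app f V hV
    rw [Scheme.Hom.app_eq_appLE] at h
    exact h
  haveI : Module.Flat Γ(Y, V) Γ(X, f ⁻¹ᵁ V) := Flat.flat_appLE f hV hU le_rfl
  refine (Scheme.Hom.finrank_SpecMap_algebraMap Γ(Y, V) Γ(X, f ⁻¹ᵁ V) p).trans ?_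
  refine (AVLib.Deg.rankAtStalk_bot Γ(Y, V) Γ(X, f ⁻¹ᵁ V)).trans ?_
  letI := NormHomLib.ffAlg f
  haveI := functionField_isFractionRing_of_isAffineOpen Y V hV
  haveI := functionField_isFractionRing_of_isAffineOpen X (f ⁻¹ᵁ V) hU
  letI : Algebra Γ(Y, V) X.functionField :=
    ((algebraMap Γ(X, f ⁻¹ᵁ V) X.functionField).comp (algebraMap Γ(Y, V) Γ(X, f ⁻¹ᵁ V))).toAlgebra
  haveI : IsScalarTower Γ(Y, V) Γ(X, f ⁻¹ᵁ V) X.functionField := .of_algebraMap_eq fun _ => rfl
  haveI : IsScalarTower Γ(Y, V) Y.functionField X.functionField := .of_algebraMap_eq fun b => by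
    show X.presheaf.germ (f ⁻¹ᵁ V) (genericPoint X) _ (f.appLE V (f ⁻¹ᵁ V) le_rfl b) =
      NormHomLib.ffMap f (Y.presheaf.germ V (genericPoint Y) hη b)
    rw [NormHomLib.ffMap_germ, Scheme.Hom.app_eq_appLE]
  exact (IsFractionRing.finrank_eq Γ(Y, V) Y.functionField Γ(X, f ⁻¹ᵁ V) X.functionField).symm

/-- A finite map which is separable at the generic point is étale on a nonempty open. -/
theorem exists_etale_open [LocallyOfFinitePresentation f]
    (h : letI := (f.residueFieldMap (genericPoint X)).hom.toAlgebra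
      Algebra.IsSeparable (Y.residueField (f (genericPoint X))) (X.residueField (genericPoint X))) :
    ∃ W : X.Opens, (W : Set X).Nonempty ∧ Etale (W.ι ≫ f) := by
  obtain ⟨_, ⟨V, hV, rfl⟩, hη, -⟩ :=
    Y.isBasis_affineOpens.exists_subset_of_mem_open (Set.mem_univ (genericPoint Y)) isOpen_univ
  have hV : IsAffineOpen V := hV
  have hU : IsAffineOpen (f ⁻¹ᵁ V) := hV.preimage f
  haveI : Nonempty V := ⟨⟨_, hη⟩⟩
  haveI : Nonempty (f ⁻¹ᵁ V) := ⟨⟨_, NormHomLib.gen_preimage f hη⟩⟩
  letI := NormHomLib.ffAlg f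
  haveI := isSeparable_functionField f h
  haveI := NormHomLib.finite_functionField f
  letI : Algebra Γ(Y, V) Γ(X, f ⁻¹ᵁ V) := (f.appLE V (f ⁻¹ᵁ V) le_rfl).hom.toAlgebra
  haveI : Algebra.FinitePresentation Γ(Y, V) Γ(X, f ⁻¹ᵁ V) :=
    HasRingHomProperty.appLE (P := @LocallyOfFinitePresentation) f inferInstance ⟨V, hV⟩ ⟨_, hU⟩ le_rfl
  haveI := functionField_isFractionRing_of_isAffineOpen Y V hV
  haveI := functionField_isFractionRing_of_isAffineOpen X (f ⁻¹ᵁ V) hU
  letI : Algebra Γ(Y, V) X.functionField :=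
    ((algebraMap Γ(X, f ⁻¹ᵁ V) X.functionField).comp (algebraMap Γ(Y, V) Γ(X, f ⁻¹ᵁ V))).toAlgebra
  haveI : IsScalarTower Γ(Y, V) Γ(X, f ⁻¹ᵁ V) X.functionField := .of_algebraMap_eq fun _ => rfl
  haveI : IsScalarTower Γ(Y, V) Y.functionField X.functionField := .of_algebraMap_eq fun b => by
    show X.presheaf.germ (f ⁻¹ᵁ V) (genericPoint X) _ (f.appLE V (f ⁻¹ᵁ V) le_rfl b) =
      NormHomLib.ffMap f (Y.presheaf.germ V (genericPoint Y) hη b)
    rw [NormHomLib.ffMap_germ, Scheme.Hom.app_eq_appLE]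
  haveI : Algebra.FormallyEtale Γ(Y, V) Y.functionField :=
    Algebra.FormallyEtale.of_isLocalization (nonZeroDivisors Γ(Y, V))
  haveI : Algebra.FormallyEtale Y.functionField X.functionField :=
    Algebra.FormallyEtale.of_isSeparable Y.functionField X.functionField
  haveI : Algebra.FormallyEtale Γ(Y, V) X.functionField :=
    Algebra.FormallyEtale.comp Γ(Y, V) Y.functionField X.functionField
  haveI : Algebra.IsEtaleAt Γ(Y, V) (⊥ : Ideal Γ(X, f ⁻¹ᵁ V)) := by
    have hle : (⊥ : Ideal Γ(X, f ⁻¹ᵁ V)).primeCompl = nonZeroDivisors Γ(X, f ⁻¹ᵁ V) := by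
      ext x
      rw [mem_nonZeroDivisors_iff_ne_zero]
      exact Iff.rfl
    haveI : IsLocalization (⊥ : Ideal Γ(X, f ⁻¹ᵁ V)).primeCompl X.functionField := by
      rw [hle]; infer_instance
    exact Algebra.FormallyEtale.of_equiv
      ((IsLocalization.algEquiv (⊥ : Ideal Γ(X, f ⁻¹ᵁ V)).primeCompl X.functionField
        (Localization.AtPrime (⊥ : Ideal Γ(X, f ⁻¹ᵁ V)))).restrictScalars Γ(Y, V))
  obtain ⟨t, ht, het⟩ := Algebra.exists_etale_of_isEtaleAt (R := Γ(Y, V)) (⊥ : Ideal Γ(X, f ⁻¹ᵁ V))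
  have ht0 : t ≠ 0 := fun h => ht (h ▸ zero_mem _)
  let W := X.basicOpen t
  have hW : IsAffineOpen W := hU.basicOpen t
  have hle : W ≤ f ⁻¹ᵁ V := X.basicOpen_le t
  have hne : (W : Set X).Nonempty := by
    refine ⟨genericPoint X, ?_⟩
    rw [SetLike.mem_coe, Scheme.mem_basicOpen X t (genericPoint X) (NormHomLib.gen_preimage f hη), isUnit_iff_ne_zero]
    exact fun h0 => ht0 (X.germToFunctionField_injective (f ⁻¹ᵁ V) (h0.trans (map_zero _).symm))
  refine ⟨W, hne, ?_⟩
  letI : Algebra Γ(X, f ⁻¹ᵁ V) Γ(X, W) := (X.presheaf.map (homOfLE hle).op).hom.toAlgebra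
  haveI : IsLocalization.Away t Γ(X, W) := hU.isLocalization_basicOpen t
  letI : Algebra Γ(Y, V) Γ(X, W) := (f.appLE V W hle).hom.toAlgebra
  haveI : IsScalarTower Γ(Y, V) Γ(X, f ⁻¹ᵁ V) Γ(X, W) := .of_algebraMap_eq fun b => by
    show (f.appLE V W hle) b = (f.appLE V (f ⁻¹ᵁ V) le_rfl ≫ X.presheaf.map (homOfLE hle).op) b
    rw [Scheme.Hom.appLE_map]
  haveI : Algebra.Etale Γ(Y, V) Γ(X, W) :=
    Algebra.Etale.of_equiv ((IsLocalization.algEquiv (Submonoid.powers t) (Localization.Away t) Γ(X, W)).restrictScalars Γ(Y, V))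
  haveI : Etale (Spec.map (f.appLE V W hle)) := by
    rw [HasRingHomProperty.Spec_iff (P := @Etale)]
    exact RingHom.etale_algebraMap.2 inferInstance
  have e : W.ι ≫ f = hW.isoSpec.hom ≫ Spec.map (f.appLE V W hle) ≫ hV.fromSpec := by
    rw [hV.SpecMap_appLE_fromSpec f hW hle, ← Category.assoc, ← IsAffineOpen.isoSpec_inv_ι, Iso.hom_inv_id_assoc]
  rw [e]
  infer_instance

end Groth.Agent.CurveFF.GenEtale
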