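import Groth.Agent.CurveFF.GenusOneInv
import Groth.Agent.CurveFF.GenEtale
import Groth.Agent.FinLocFreeLib.Basic
import Groth.Agent.ProjTwist.Vanish

/-!
# Double covers of the line by a genus one curve
-/

set_option autoImplicit false
set_option backward.isDefEq.respectTransparency false
set_option maxHeartbeats 800000
set_option linter.style.haveILetI false

universe u

open scoped WithZero IntermediateField

noncomputable section

namespace Groth.Agent.CurveFF

section FFLemmas

open FunFld Polynomial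

variable {k K : Type u} [Field k] [Field K] [Algebra k K] [IsAlgClosed k]

omit [IsAlgClosed k] in
theorem mapPlace_ord (σ : K ≃ₐ[k] K) (R : Place k K) (z : K) : (mapPlace σ R).ord z = R.ord (σ z) := rfl

/-- A polynomial all of whose roots have even multiplicity is a square. -/
theorem exists_sq_of_even {P : k[X]} (hP : P ≠ 0) (h : ∀ a, Even (P.rootMultiplicity a)) :
    ∃ w, P = w ^ 2 := by
  classical
  obtain ⟨c, hc⟩ := IsAlgClosed.exists_pow_nat_eq P.leadingCoeff zero_lt_two
  refine ⟨C c * ∏ a ∈ P.roots.toFinset, (X - C a) ^ (P.roots.count a / 2), ?_⟩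
  rw [mul_pow, ← map_pow, hc, ← Finset.prod_pow]
  conv_lhs => rw [(IsAlgClosed.splits P).eq_prod_roots, Finset.prod_multiset_map_count]
  congr 1
  refine Finset.prod_congr rfl fun a _ => ?_
  rw [← pow_mul]
  congr 1
  have := h a
  rw [← Polynomial.count_roots] at this
  obtain ⟨m, hm⟩ := this
  omega

/-- A separable double cover of the line has a branch point in characteristic different from two. -/
theorem exists_ramified (hK : IsFunctionField k K) (h2 : (2 : k) ≠ 0) {x : K} (hx : Transcendental k x)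
    (hdeg : Module.finrank k⟮x⟯ K = 2) [Algebra.IsSeparable k⟮x⟯ K] :
    ∃ (a : k) (R : Place k K), FF.zeros (k := k) (x - algebraMap k K a) = Finsupp.single R 2 := by
  classical
  obtain ⟨σ, hfix, ⟨z, hz⟩, hss, hσ⟩ := exists_involution hdeg
  set y := z - σ z with hy
  have hy0 : y ≠ 0 := fun h => hz (sub_eq_zero.1 h).symm
  have hσy : σ y = -y := by rw [hy, map_sub, hss]; ring
  have hyn : y ∉ k⟮x⟯ := fun h => by
    have h1 := hfix y h
    rw [hσy, neg_eq_iff_add_eq_zero, ← two_mul, mul_eq_zero] at h1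
    refine h1.elim (fun h3 => h2 ((algebraMap k K).injective ?_)) hy0
    rw [map_ofNat, map_zero]; exact h3
  have hyy : y ^ 2 ∈ k⟮x⟯ := by
    have := neg_mem (hσ y).2
    rwa [hσy, mul_neg, neg_neg, ← pow_two] at this
  obtain ⟨r, s, hrs⟩ := IntermediateField.mem_adjoin_simple_iff k _ |>.1 hyy
  have hs : aeval x s ≠ 0 := fun h => hy0 (by rw [h, div_zero, sq_eq_zero_iff] at hrs; exact hrs)
  set y' := y * aeval x s with hy'
  have hy'0 : y' ≠ 0 := mul_ne_zero hy0 hs
  have hP : y' ^ 2 = aeval x (r * s) := by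
    rw [map_mul, hy', mul_pow, hrs]; field_simp
  have hP0 : r * s ≠ 0 := fun h => hy'0 (by simpa [h] using hP)
  obtain ⟨a, ha⟩ : ∃ a, ¬ Even ((r * s).rootMultiplicity a) := by
    by_contra h
    push Not at h
    obtain ⟨w, hw⟩ := exists_sq_of_even hP0 h
    rw [hw, map_pow] at hP
    have hmem : ∀ p : k[X], aeval x p ∈ k⟮x⟯ := fun p =>
      IntermediateField.algebra_adjoin_le_adjoin k _ (Polynomial.aeval_mem_adjoin_singleton k x)
    have hy'm : y' ∈ k⟮x⟯ := (sq_eq_sq_iff_eq_or_eq_neg.1 hP).elim (fun h => h ▸ hmem w) fun h => h ▸ neg_mem (hmem w)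
    have := div_mem hy'm (hmem s)
    rw [hy', mul_div_assoc, div_self hs, mul_one] at this
    exact hyn this
  set u := x - algebraMap k K a with hu
  have hadj : k⟮u⟯ = k⟮x⟯ := by
    refine le_antisymm (IntermediateField.adjoin_simple_le_iff.2 (sub_mem
      (IntermediateField.mem_adjoin_simple_self _ x) (IntermediateField.algebraMap_mem _ a)))
      (IntermediateField.adjoin_simple_le_iff.2 ?_)
    have := add_mem (IntermediateField.mem_adjoin_simple_self k u) (IntermediateField.algebraMap_mem k⟮u⟯ a)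
    rwa [hu, sub_add_cancel] at this
  have hut : Transcendental k u := fun h => hx (by
    have := h.add (isAlgebraic_algebraMap a)
    rwa [hu, sub_add_cancel] at this)
  have hu0 : u ≠ 0 := fun h => hut (h ▸ isAlgebraic_zero)
  obtain ⟨R, hR⟩ := FF.exists_zero hK hut
  have hRu : 0 < R.ord u := (FF.v_lt_one_iff R hu0).1 hR
  refine ⟨a, R, ?_⟩
  have hRx : R.1 x ≤ 1 := by
    have : x = u + algebraMap k K a := by rw [hu, sub_add_cancel]
    rw [this]
    exact (R.1.map_add _ _).trans (max_le hR.le (R.2.1 a))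
  -- the parity
  obtain ⟨g, hg, hga⟩ := Polynomial.exists_eq_pow_rootMultiplicity_mul_and_not_dvd (r * s) hP0 a
  have hga' : g.eval a ≠ 0 := fun h => hga (dvd_iff_isRoot.2 h)
  have hgx : R.1 (aeval x g) = 1 := by
    obtain ⟨q, hq⟩ := Polynomial.X_sub_C_dvd_sub_C_eval (a := a) (p := g)
    have e : aeval x g = algebraMap k K (g.eval a) + u * aeval x q := by
      have := congrArg (aeval x) hq
      simp only [map_sub, map_mul, aeval_X, aeval_C] at this
      rw [hu]; linear_combination this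
    rw [e, Valuation.map_add_eq_of_lt_left _ ?_, FF.v_algebraMap R hga']
    rw [FF.v_algebraMap R hga', map_mul]
    exact mul_lt_one_of_nonneg_of_lt_one_left zero_le hR (DStruct.v_aeval_le_one hRx _)
  have hgx0 : aeval x g ≠ 0 := fun h => by rw [h, map_zero] at hgx; exact zero_ne_one hgx
  have hpar : 2 * R.ord y' = ((r * s).rootMultiplicity a : ℤ) * R.ord u := by
    have h3 : aeval x (r * s) = u ^ ((r * s).rootMultiplicity a) * aeval x g := by
      conv_lhs => rw [hg]
      simp [hu]
    have h4 := congrArg R.ord (hP.trans h3)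
    rw [FF.ord_pow, FF.ord_mul R (pow_ne_zero _ hu0) hgx0, FF.ord_pow,
      show R.ord (aeval x g) = 0 from (FF.ord_eq_iff R hgx0).2 (by rw [hgx]; rfl), add_zero] at h4
    exact_mod_cast h4
  have heven : (2 : ℤ) ∣ R.ord u := by
    refine (Int.prime_two.dvd_mul.1 (Dvd.intro _ hpar)).resolve_left fun h => ha ?_
    exact even_iff_two_dvd.2 (by exact_mod_cast h)
  have hdu : (FF.zeros (k := k) u).deg = 2 := by rw [FF.deg_zeros hK hut, hadj, hdeg]; rfl
  have h2R : 2 ≤ R.ord u := Int.le_of_dvd hRu heven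
  have hle : (0 : Divisor k K) ≤ FF.zeros (k := k) u - Finsupp.single R 2 := fun S => by
    simp only [Finsupp.coe_zero, Pi.zero_apply, Finsupp.sub_apply, FF.zeros_apply hK]
    rcases eq_or_ne S R with rfl | hS
    · rw [Finsupp.single_eq_same]; omega
    · rw [Finsupp.single_eq_of_ne hS]; omega
  exact sub_eq_zero.1 (FF.eq_zero_of_nonneg_of_deg hK hle (by rw [FF.deg_sub_single hK, hdu]; norm_num))

theorem adjoin_le_of_zeros_eq (hK : IsFunctionField k K) (hg : genus k K = 1) {u v : K} (hu : Transcendental k u)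
    (hv : v ≠ 0) {R : Place k K} (hzu : FF.zeros (k := k) u = Finsupp.single R 2)
    (hzv : FF.zeros (k := k) v = Finsupp.single R 2) : k⟮v⟯ ≤ k⟮u⟯ := by
  classical
  set D : Divisor k K := Finsupp.single R 2 with hD
  have hmem : ∀ w : K, w ≠ 0 → FF.zeros (k := k) w = D → w⁻¹ ∈ L D := fun w hw h =>
    (FF.mem_L_iff_ord (inv_ne_zero hw)).2 fun S => by
      rw [← h, FF.zeros_apply hK, FF.ord_inv]; omega
  have hu0 : u ≠ 0 := fun h => hu (h ▸ isAlgebraic_zero)
  have hl : ell D = 2 := by
    have hdD : D.deg = 2 := by rw [hD, FF.deg_single_ac hK]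
    have := FF.ell_of_deg_large hK (D := D) (by rw [hdD, hg]; norm_num)
    rw [hdD, hg] at this
    omega
  haveI := FF.finite_L hK D
  have hle : Submodule.span k (Set.range ![(1 : K), u⁻¹]) ≤ L D := by
    rw [Submodule.span_le]
    rintro _ ⟨i, rfl⟩
    rcases (by decide : ∀ i : Fin 2, i = 0 ∨ i = 1) i with rfl | rfl
    · exact FF.one_mem_L (Finsupp.single_nonneg.2 zero_le_two)
    · exact hmem u hu0 hzu
  have hli : LinearIndependent k ![(1 : K), u⁻¹] := by
    rw [LinearIndependent.pair_iff]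
    intro s t h
    have ht : t = 0 := by
      by_contra ht
      refine hu (IsAlgebraic.inv_iff.1 ?_)
      have : u⁻¹ = algebraMap k K (-s / t) := by
        rw [Algebra.smul_def, Algebra.smul_def, mul_one] at h
        rw [map_div₀, map_neg, eq_div_iff ((_root_.map_ne_zero _).2 ht)]
        linear_combination h
      exact this ▸ isAlgebraic_algebraMap _
    refine ⟨?_, ht⟩
    rw [ht, zero_smul, add_zero, smul_eq_zero] at h
    exact h.resolve_right one_ne_zero
  have heq := Submodule.eq_of_le_of_finrank_le hle (by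
    rw [finrank_span_eq_card hli, Fintype.card_fin]; exact hl.le)
  have hv' : v⁻¹ ∈ Submodule.span k (Set.range ![(1 : K), u⁻¹]) := heq ▸ hmem v hv hzv
  have hsub : Submodule.span k (Set.range ![(1 : K), u⁻¹]) ≤ k⟮u⟯.toSubalgebra.toSubmodule := by
    rw [Submodule.span_le]
    rintro _ ⟨i, rfl⟩
    rcases (by decide : ∀ i : Fin 2, i = 0 ∨ i = 1) i with rfl | rfl
    · exact one_mem k⟮u⟯
    · show u⁻¹ ∈ k⟮u⟯
      exact inv_mem (IntermediateField.mem_adjoin_simple_self k u)
  refine IntermediateField.adjoin_simple_le_iff.2 ?_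
  have := inv_mem (show v⁻¹ ∈ k⟮u⟯ from hsub hv')
  rwa [inv_inv] at this

/-- Two separable double covers of the line differ by an automorphism. -/
theorem exists_algEquiv_map_adjoin (hK : IsFunctionField k K) (hg : genus k K = 1) (h2 : (2 : k) ≠ 0)
    (hsep : ∀ x : K, Transcendental k x → Module.finrank k⟮x⟯ K = 2 → Algebra.IsSeparable k⟮x⟯ K)
    {x₁ x₂ : K} (hx₁ : Transcendental k x₁) (hx₂ : Transcendental k x₂)
    (hd₁ : Module.finrank k⟮x₁⟯ K = 2) (hd₂ : Module.finrank k⟮x₂⟯ K = 2) :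
    ∃ s : K ≃ₐ[k] K, k⟮x₂⟯.map s.toAlgHom = k⟮x₁⟯ := by
  classical
  have hadj : ∀ (x : K) (a : k), k⟮x - algebraMap k K a⟯ = k⟮x⟯ := fun x a => by
    refine le_antisymm (IntermediateField.adjoin_simple_le_iff.2 (sub_mem
      (IntermediateField.mem_adjoin_simple_self _ x) (IntermediateField.algebraMap_mem _ a)))
      (IntermediateField.adjoin_simple_le_iff.2 ?_)
    have := add_mem (IntermediateField.mem_adjoin_simple_self k (x - algebraMap k K a))
      (IntermediateField.algebraMap_mem k⟮x - algebraMap k K a⟯ a)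
    rwa [sub_add_cancel] at this
  have htr : ∀ (x : K) (a : k), Transcendental k x → Transcendental k (x - algebraMap k K a) := fun x a hx h =>
    hx (by simpa using h.add (isAlgebraic_algebraMap a))
  haveI := hsep x₁ hx₁ hd₁
  obtain ⟨a₁, R₁, h₁⟩ := exists_ramified hK h2 hx₁ hd₁
  haveI := hsep x₂ hx₂ hd₂
  obtain ⟨a₂, R₂, h₂⟩ := exists_ramified hK h2 hx₂ hd₂
  obtain ⟨x, hx, hd, hxD⟩ := exists_coord hK hg R₁ R₂
  haveI := hsep x hx hd
  obtain ⟨s, hfix, -, hss, hs⟩ := exists_involution hd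
  have hsx : s x = x := hfix x (IntermediateField.mem_adjoin_simple_self k x)
  have hR : mapPlace s R₁ = R₂ := mapPlace_eq hK (fun h => hx (by simpa using h.inv))
    (by rw [map_inv₀, hsx]) (by rw [FF.adjoin_inv]; exact hs) hxD
  have hinv : ∀ S : Place k K, mapPlace s (mapPlace s S) = S := fun S =>
    FF.place_eq_of_le _ fun z hz => by rwa [mapPlace_apply, mapPlace_apply, hss] at hz
  set u₂ := x₂ - algebraMap k K a₂
  have hu₂ := htr x₂ a₂ hx₂
  have hv : Transcendental k (s u₂) := fun h => hu₂ ((isAlgebraic_algHom_iff s.toAlgHom s.injective).1 h)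
  have hzv : FF.zeros (k := k) (s u₂) = Finsupp.single R₁ 2 := by
    ext S
    rw [FF.zeros_apply hK, ← mapPlace_ord, ← FF.zeros_apply hK, h₂]
    rcases eq_or_ne S R₁ with rfl | hS
    · rw [hR, Finsupp.single_eq_same, Finsupp.single_eq_same]
    · rw [Finsupp.single_eq_of_ne hS, Finsupp.single_eq_of_ne]
      exact fun h => hS (by rw [← hinv S, h, ← hR, hinv])
  have hu₁ := htr x₁ a₁ hx₁
  refine ⟨s, ?_⟩
  rw [← hadj x₂ a₂, ← hadj x₁ a₁, IntermediateField.adjoin_map, Set.image_singleton]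
  exact le_antisymm
    (adjoin_le_of_zeros_eq hK hg hu₁ (fun h => hv (h ▸ isAlgebraic_zero)) h₁ hzv)
    (adjoin_le_of_zeros_eq hK hg hv (fun h => hu₁ (h ▸ isAlgebraic_zero)) hzv h₁)

/-- A function field of genus zero is rational. -/
theorem exists_generator_of_genus_zero (hK : IsFunctionField k K) (hg : genus k K = 0) :
    ∃ x : K, Transcendental k x ∧ k⟮x⟯ = ⊤ := by
  classical
  obtain ⟨t, ht, -⟩ := hK.1
  obtain ⟨P, -⟩ := FF.exists_zero hK ht
  have hl : ell (Finsupp.single P 1 : Divisor k K) = 2 := by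
    have := FF.ell_genus_zero hK hg (E := Finsupp.single P 1) (by rw [FF.deg_single_ac hK]; norm_num)
    rw [FF.deg_single_ac hK] at this
    omega
  obtain ⟨x, hxL, hx1⟩ : ∃ x ∈ L (Finsupp.single P 1 : Divisor k K), x ∉ k ∙ (1 : K) := by
    by_contra h
    push Not at h
    have h1 := Submodule.finrank_mono (show L (Finsupp.single P 1 : Divisor k K) ≤ k ∙ (1 : K) from h)
    rw [finrank_span_singleton one_ne_zero] at h1
    simp only [ell] at hl
    omega
  have hx : Transcendental k x := FF.transcendental_of_not_mem hK fun ⟨c, hc⟩ => hx1 (hc ▸ by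
    rw [Algebra.algebraMap_eq_smul_one]; exact Submodule.smul_mem _ c (Submodule.mem_span_singleton_self _))
  have hx0 : x ≠ 0 := fun h => hx (h ▸ isAlgebraic_zero)
  have hle : FF.zeros (k := k) x⁻¹ ≤ Finsupp.single P 1 := fun R => by
    have h1 := (FF.mem_L_iff_ord hx0).1 hxL R
    have h2 : (0 : ℤ) ≤ (Finsupp.single P 1 : Divisor k K) R := Finsupp.single_nonneg.2 zero_le_one R
    rw [FF.zeros_apply hK, FF.ord_inv]
    omega
  have h1 := FF.deg_mono hle
  rw [FF.deg_single_ac hK, FF.deg_zeros hK (fun h => hx (by simpa using h.inv)), FF.adjoin_inv] at h1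
  haveI := FF.finiteDimensional_adjoin hK hx
  have h2 : 0 < Module.finrank k⟮x⟯ K := Module.finrank_pos
  exact ⟨x, hx, IntermediateField.finrank_eq_one_iff_eq_top.1 (by omega)⟩

end FFLemmas

open CategoryTheory AlgebraicGeometry TopologicalSpace Opposite

attribute [local instance] Curv2.stalkAlgebra Curv2.resAlgebra
attribute [local instance high] FunFld.Place.algRes

theorem exists_tilde_iso_rank {X : Scheme.{u}} {n : ℕ} (M : X.Modules) (hM : FlatMod.IsFinLocFreeOfRank n M) (x : X) :
    ∃ (D : X.Opens) (hD : IsAffineOpen D), x ∈ D ∧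
      Nonempty (M.restrict hD.fromSpec ≅ tilde (ModuleCat.of Γ(X, D) (ULift.{u} (Fin n) →₀ Γ(X, D)))) := by
  obtain ⟨U, hxU, ⟨e⟩⟩ := hM x
  obtain ⟨_, ⟨D : X.Opens, (hD : IsAffineOpen D), rfl⟩, hxD, hDU⟩ :=
    X.isBasis_affineOpens.exists_subset_of_mem_open (a := x) (u := ↑U) hxU U.2
  refine ⟨D, hD, hxD, ⟨?_⟩⟩
  let v : Spec Γ(X, D) ⟶ (U : Scheme.{u}) := hD.isoSpec.inv ≫ X.homOfLE hDU
  let F := Scheme.Modules.restrictFunctor v
  haveI : Limits.PreservesColimitsOfSize.{u, u} F :=
    (Scheme.Modules.restrictAdjunction v).leftAdjoint_preservesColimits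
  exact ((Scheme.Modules.restrictFunctorComp v U.ι).symm ≪≫
      Scheme.Modules.restrictFunctorCongr (g := hD.fromSpec)
        (show v ≫ U.ι = hD.fromSpec by simp [v, IsAffineOpen.isoSpec_inv_ι])).symm.app M ≪≫
    F.mapIso e ≪≫
    F.mapIso (Limits.Sigma.whiskerEquiv (Equiv.ulift.{u, 0} (α := Fin n)) fun _ => Iso.refl _).symm ≪≫
    Limits.PreservesCoproduct.iso F _ ≪≫
    Limits.Sigma.mapIso (fun _ => Scheme.Modules.restrictUnitIso v) ≪≫
    (tildeFinsupp _).symm

/-- The degree of a finite map with direct image of rank `n`. -/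
theorem finrank_functionField_of_rank {X Y : Scheme.{u}} [IsIntegral X] [IsIntegral Y] (f : X ⟶ Y) [IsFinite f]
    [Surjective f] {n : ℕ}
    (h : FlatMod.IsFinLocFreeOfRank n ((Scheme.Modules.pushforward f).obj (Coh.structureModule X))) :
    letI := NormHomLib.ffAlg f
    Module.finrank Y.functionField X.functionField = n := by
  let P := (Scheme.Modules.pushforward f).obj (Coh.structureModule X)
  haveI := (PullbackMod.isQCoh_and_isFP_of_isFinLocFree P fun y => by
    obtain ⟨V, hy, he⟩ := h y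
    exact ⟨V, n, hy, he⟩).1
  obtain ⟨V, hV, hη, ⟨i⟩⟩ := exists_tilde_iso_rank P h (genericPoint Y)
  let eΓ := (moduleSpecΓFunctor (R := Γ(Y, V))).mapIso i ≪≫ ((tilde.toTildeΓNatIso (R := Γ(Y, V))).app _).symm
  let e' : Γ(P, V) ≃ₗ[Γ(Y, V)] (ULift.{u} (Fin n) →₀ Γ(Y, V)) :=
    (QCohLib.topEquiv P hV).symm.trans eΓ.toLinearEquiv
  letI algA : Algebra Γ(Y, V) Γ(X, f ⁻¹ᵁ V) := (f.app V).hom.toAlgebra
  let e₀ : Γ(X, f ⁻¹ᵁ V) ≃ₗ[Γ(Y, V)] Γ(P, V) :=
    { AddEquiv.refl _ with map_smul' := fun r s => Algebra.smul_def r s }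
  have hU : IsAffineOpen (f ⁻¹ᵁ V) := hV.preimage f
  haveI : Nonempty V := ⟨⟨_, hη⟩⟩
  haveI : Nonempty (f ⁻¹ᵁ V) := ⟨⟨_, NormHomLib.gen_preimage f hη⟩⟩
  haveI : Module.Finite Γ(Y, V) Γ(X, f ⁻¹ᵁ V) := Module.Finite.equiv (e₀.trans e').symm
  haveI : Module.Free Γ(Y, V) Γ(X, f ⁻¹ᵁ V) := Module.Free.of_equiv (e₀.trans e').symm
  have hn : Module.finrank Γ(Y, V) Γ(X, f ⁻¹ᵁ V) = n := by
    rw [(e₀.trans e').finrank_eq, Module.finrank_finsupp, Module.finrank_self]
    simp
  letI := NormHomLib.ffAlg f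
  haveI := functionField_isFractionRing_of_isAffineOpen Y V hV
  haveI := functionField_isFractionRing_of_isAffineOpen X (f ⁻¹ᵁ V) hU
  letI : Algebra Γ(Y, V) X.functionField :=
    ((algebraMap Γ(X, f ⁻¹ᵁ V) X.functionField).comp (algebraMap Γ(Y, V) Γ(X, f ⁻¹ᵁ V))).toAlgebra
  haveI : IsScalarTower Γ(Y, V) Γ(X, f ⁻¹ᵁ V) X.functionField := .of_algebraMap_eq fun _ => rfl
  haveI : IsScalarTower Γ(Y, V) Y.functionField X.functionField := .of_algebraMap_eq fun b => by
    show X.presheaf.germ (f ⁻¹ᵁ V) (genericPoint X) _ (f.app V b) =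
      NormHomLib.ffMap f (Y.presheaf.germ V (genericPoint Y) hη b)
    rw [NormHomLib.ffMap_germ]
  exact (IsFractionRing.finrank_eq Γ(Y, V) Y.functionField Γ(X, f ⁻¹ᵁ V) X.functionField).trans hn

theorem fromSpecStalk_ffMap {X Y : Scheme.{u}} [IsIntegral X] [IsIntegral Y] (f : X ⟶ Y) [IsFinite f] [Surjective f] :
    X.fromSpecStalk (genericPoint X) ≫ f = Spec.map (NormHomLib.ffMap f) ≫ Y.fromSpecStalk (genericPoint Y) := by
  rw [NormHomLib.ffMap, Spec.map_comp, Category.assoc, Scheme.SpecMap_stalkSpecializes_fromSpecStalk,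
    Scheme.SpecMap_stalkMap_fromSpecStalk]

theorem genus_projSpace_one (k : Type u) [Field k] : Curv2.genus k (CohB1.ProjSpace 1 k) = 0 := by
  let ψ : Coh.structureModule (CohB1.ProjSpace 1 k) ≅ Twist.twistProjSpace 1 k 0 :=
    @asIso _ _ _ _ (Groth.Agent.ProjCoh.unitToTwist (CohB1.polyGrading 1 k)) Groth.Agent.ProjCoh.isIso_unitToTwist
  rw [Curv2.genus, Groth.Agent.ShBCLib.finrank_HH_iso (K := k) ψ 1]
  haveI : Subsingleton (Coh.HH (CohB1.ProjSpace 1 k) (Twist.twistProjSpace 1 k 0) 1) :=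
    Groth.Agent.ProjTwist.subsingleton_HH_pos (n := 1) (R := k) 0 0 (Or.inl (by norm_num))
  exact Module.finrank_zero_of_subsingleton

theorem generic_to_generic {k : Type u} [Field k] {X : Scheme.{u}} [X.Over (Spec (CommRingCat.of k))]
    [IsProper (X ↘ Spec (CommRingCat.of k))] [IsIntegral X] [VBLib.IsRegCurve X] (hdim : topologicalKrullDim X = 1)
    (h0 : Module.finrank k (Coh.HH X (Coh.structureModule X) 0) = 1)
    (f : X ⟶ CohB1.ProjSpace 1 k) [IsFinite f] :
    f (genericPoint X) = genericPoint (CohB1.ProjSpace 1 k) := by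
  classical
  have hK := isFunctionField k hdim h0
  haveI : IsIntegral (CohB1.ProjSpace 1 k) := REqLib.isIntegral_projSpace 1 k
  haveI : IsProper (CohB1.ProjSpace 1 k ↘ Spec (CommRingCat.of k)) :=
    inferInstanceAs (IsProper (CohB1.ProjSpace.toSpec 1 k))
  have hdP : topologicalKrullDim (CohB1.ProjSpace 1 k) = 1 := by exact_mod_cast S10829.result k 1
  set η := genericPoint X
  have hncl : ¬ IsClosed ({f η} : Set (CohB1.ProjSpace 1 k)) := fun hcl => by
    have hr : f ⁻¹' {f η} = Set.univ := Set.eq_univ_of_forall fun z => by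
      have h : f η ⤳ f z := ((genericPoint_spec X).specializes (y := z) trivial).map f.continuous
      exact hcl.closure_eq.le h.mem_closure
    have hfin : (Set.univ : Set X).Finite := hr ▸ IsFinite.finite_preimage_singleton f (f η)
    haveI : Finite X := Set.finite_univ_iff.1 hfin
    haveI := infinite_places hK
    haveI : Finite (FunFld.Place k X.functionField) := by
      refine Finite.of_surjective (fun z : {z : X // IsClosed ({z} : Set X)} => placeOf k hdim z.1 z.2) fun P => ?_
      obtain ⟨z, hz, rfl⟩ := placeOf_surjective hdim P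
      exact ⟨⟨z, hz⟩, rfl⟩
    exact not_finite (FunFld.Place k X.functionField)
  exact eq_generic_of_not_closed k (X := CohB1.ProjSpace 1 k) hdP hncl

/-- The function field of the line inside that of a double cover, from the residue degree. -/
theorem exists_coord_of_residueDegree {k : Type u} [Field k] [IsAlgClosed k] {X : Scheme.{u}}
    [X.Over (Spec (CommRingCat.of k))] [IsProper (X ↘ Spec (CommRingCat.of k))] [IsIntegral X] [VBLib.IsRegCurve X]
    (hdim : topologicalKrullDim X = 1) [IsIntegral (CohB1.ProjSpace 1 k)]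
    (f : X ⟶ CohB1.ProjSpace 1 k) [IsFinite f]
    (hf : f ≫ CohB1.ProjSpace.toSpec 1 k = X ↘ Spec (CommRingCat.of k))
    (hd : f.residueDegree (genericPoint X) = 2) :
    ∃ ψ : (CohB1.ProjSpace 1 k).functionField →ₐ[k] X.functionField,
      X.fromSpecStalk (genericPoint X) ≫ f =
        Spec.map (CommRingCat.ofHom ψ.toRingHom) ≫ (CohB1.ProjSpace 1 k).fromSpecStalk (genericPoint _) ∧
      ∃ x, Transcendental k x ∧ k⟮x⟯ = ψ.fieldRange ∧ Module.finrank k⟮x⟯ X.functionField = 2 := by
  have h0 : Module.finrank k (Coh.HH X (Coh.structureModule X) 0) = 1 := CurveLib.finrank_H0_structure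
  haveI : IsProper (CohB1.ProjSpace 1 k ↘ Spec (CommRingCat.of k)) :=
    inferInstanceAs (IsProper (CohB1.ProjSpace.toSpec 1 k))
  haveI : Smooth (CohB1.ProjSpace 1 k ↘ Spec (CommRingCat.of k)) := ProjSmoothLib.smooth_toSpec 1 k
  have hdP : topologicalKrullDim (CohB1.ProjSpace 1 k) = 1 := by exact_mod_cast S10829.result k 1
  haveI := VBLib.isRegCurve_of_smooth (X := CohB1.ProjSpace 1 k) k hdP.le
  have h0P : Module.finrank k (Coh.HH (CohB1.ProjSpace 1 k) (Coh.structureModule (CohB1.ProjSpace 1 k)) 0) = 1 :=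
    CurveLib.finrank_H0_structure
  haveI := GenEtale.surjective_of_generic f (generic_to_generic hdim h0 f)
  have hcomm : (NormHomLib.ffMap f).hom.comp (Curv2.stalkMap k (CohB1.ProjSpace 1 k) (genericPoint _)) =
      Curv2.stalkMap k X (genericPoint X) := by
    have h1 := fromSpecStalk_over k (X := X) (genericPoint X)
    rw [← hf, ← Category.assoc, fromSpecStalk_ffMap, Category.assoc,
      show CohB1.ProjSpace.toSpec 1 k = CohB1.ProjSpace 1 k ↘ Spec (CommRingCat.of k) from rfl,
      fromSpecStalk_over k, ← Spec.map_comp] at h1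
    exact congrArg CommRingCat.Hom.hom (Spec.map_injective h1)
  let ψ : (CohB1.ProjSpace 1 k).functionField →ₐ[k] X.functionField :=
    { (NormHomLib.ffMap f).hom with commutes' := fun c => RingHom.congr_fun hcomm c }
  refine ⟨ψ, fromSpecStalk_ffMap f, ?_⟩
  obtain ⟨t, ht, htop⟩ := exists_generator_of_genus_zero (isFunctionField k hdP h0P)
    ((genus_eq hdP h0P).symm.trans (genus_projSpace_one k))
  have hrange : k⟮ψ t⟯ = ψ.fieldRange := by
    rw [AlgHom.fieldRange_eq_map, ← htop, IntermediateField.adjoin_map, Set.image_singleton]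
  refine ⟨ψ t, fun h => ht ((isAlgebraic_algHom_iff ψ ψ.injective).1 h), hrange, ?_⟩
  letI := NormHomLib.ffAlg f
  have h2 := (GenEtale.residueDegree_eq_finrank f).symm.trans hd
  rw [hrange, ← h2]
  let eψ : (CohB1.ProjSpace 1 k).functionField ≃+* ψ.fieldRange :=
    RingEquiv.ofBijective (ψ.toRingHom.rangeRestrictFieldEquiv).toRingHom
      (ψ.toRingHom.rangeRestrictFieldEquiv).bijective
  exact (Algebra.finrank_eq_of_equiv_equiv eψ (RingEquiv.refl _) (RingHom.ext fun _ => rfl)).symm

/-- The function field of the line inside that of a double cover. -/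
theorem exists_coord_of_cover {k : Type u} [Field k] [IsAlgClosed k] {X : Scheme.{u}}
    [X.Over (Spec (CommRingCat.of k))] [IsProper (X ↘ Spec (CommRingCat.of k))] [IsIntegral X] [VBLib.IsRegCurve X]
    (hdim : topologicalKrullDim X = 1) [IsIntegral (CohB1.ProjSpace 1 k)]
    (f : X ⟶ CohB1.ProjSpace 1 k) [IsFinite f]
    (hf : f ≫ CohB1.ProjSpace.toSpec 1 k = X ↘ Spec (CommRingCat.of k))
    (hd : FlatMod.IsFinLocFreeOfRank 2 ((Scheme.Modules.pushforward f).obj (Coh.structureModule X))) :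
    ∃ ψ : (CohB1.ProjSpace 1 k).functionField →ₐ[k] X.functionField,
      X.fromSpecStalk (genericPoint X) ≫ f =
        Spec.map (CommRingCat.ofHom ψ.toRingHom) ≫ (CohB1.ProjSpace 1 k).fromSpecStalk (genericPoint _) ∧
      ∃ x, Transcendental k x ∧ k⟮x⟯ = ψ.fieldRange ∧ Module.finrank k⟮x⟯ X.functionField = 2 := by
  have h0 : Module.finrank k (Coh.HH X (Coh.structureModule X) 0) = 1 := CurveLib.finrank_H0_structure
  haveI := GenEtale.surjective_of_generic f (generic_to_generic hdim h0 f)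
  exact exists_coord_of_residueDegree hdim f hf
    ((GenEtale.residueDegree_eq_finrank f).trans (finrank_functionField_of_rank f hd))

end Groth.Agent.CurveFF
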