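import Groth.Agent.CurveFF.Morph
import Groth.Agent.CurveFF.Omega
import Groth.Agent.CurveFF.GenusOneCover
import Groth.Agent.FF.GenusZero
import Groth.Agent.DimFormulaLib.Scheme
import Groth.Agent.S2768

/-!
# Places along a map of curves, dimension of smooth curves, coordinates on curves of genus zero
-/

set_option autoImplicit false
set_option backward.isDefEq.respectTransparency false
set_option linter.style.haveILetI false

universe u

open CategoryTheory Limits AlgebraicGeometry TopologicalSpace

noncomputable section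

namespace Groth.Agent.CurveFF

attribute [local instance] Curv2.stalkAlgebra
attribute [local instance high] FunFld.Place.algRes

theorem dim_eq_one_of_smooth {k : Type u} [Field k] {C : Scheme.{u}} (s : C ⟶ Spec (CommRingCat.of k))
    [SmoothOfRelativeDimension 1 s] [Nonempty C] : topologicalKrullDim C = 1 := by
  haveI : Smooth s := SmoothOfRelativeDimension.smooth 1 s
  have hloc : ∀ x : C, FlatMor.localDim C x = (1 : WithBot ℕ∞) := fun x => by
    rw [DimFormulaLib.localDim_eq_fibreDimAt_of_subsingleton s x]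
    exact S2768.result 1 s x
  refine le_antisymm ?_ ?_
  · rw [DimFormulaLib.topologicalKrullDim_eq_iSup_stalk]
    refine iSup_le fun x => ?_
    haveI : Nonempty {U : Opens C // x ∈ U} := ⟨⟨⊤, trivial⟩⟩
    obtain ⟨⟨U, hxU⟩, hU⟩ := ciInf_mem (fun U : {U : Opens C // x ∈ U} => topologicalKrullDim (U.1 : Set C))
    calc ringKrullDim (C.presheaf.stalk x)
        = ringKrullDim ((Scheme.Opens.toScheme (X := C) U).presheaf.stalk ⟨x, hxU⟩) :=
          (ringKrullDim_eq_of_ringEquiv (asIso ((Scheme.Opens.ι (X := C) U).stalkMap ⟨x, hxU⟩)).commRingCatIsoToRingEquiv)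
      _ ≤ topologicalKrullDim (Scheme.Opens.toScheme (X := C) U) := by
          rw [DimFormulaLib.topologicalKrullDim_eq_iSup_stalk]
          exact le_iSup (fun z : Scheme.Opens.toScheme (X := C) U => ringKrullDim ((Scheme.Opens.toScheme (X := C) U).presheaf.stalk z)) ⟨x, hxU⟩
      _ ≤ 1 := hU.le.trans (hloc x).le
  · obtain ⟨x⟩ := ‹Nonempty C›
    rw [← hloc x]
    exact (iInf_le _ ⟨⊤, trivial⟩).trans (Topology.IsEmbedding.subtypeVal.isInducing.topologicalKrullDim_le)

theorem finite_of_isClosed {k : Type u} [Field k] {X : Scheme.{u}} [X.Over (Spec (CommRingCat.of k))]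
    [IsProper (X ↘ Spec (CommRingCat.of k))] [IsIntegral X]
    (hdim : topologicalKrullDim X = 1) {C : Set X} (hC : IsClosed C) (hη : genericPoint X ∉ C) : C.Finite := by
  haveI := EulerIneqLib.isNoetherian_proper (X := X) k
  obtain ⟨S, hfin, hcl, hirr, rfl⟩ := NoetherianSpace.exists_finite_set_isClosed_irreducible hC
  refine Set.Finite.sUnion hfin fun T hT => ?_
  obtain ⟨z, hz⟩ := QuasiSober.sober (hirr T hT) (hcl T hT)
  have hzC : z ∈ ⋃₀ S := ⟨T, hT, hz.mem⟩
  have hzc : IsClosed ({z} : Set X) := by_contra fun h => hη (eq_generic_of_not_closed k hdim h ▸ hzC)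
  rw [← hz.def, hzc.closure_eq]
  exact Set.finite_singleton z

theorem isFinite_of_map_generic {k : Type u} [Field k] {X Y : Scheme.{u}}
    [X.Over (Spec (CommRingCat.of k))] [IsProper (X ↘ Spec (CommRingCat.of k))] [IsIntegral X]
    (hdim : topologicalKrullDim X = 1) [Y.Over (Spec (CommRingCat.of k))]
    [IsProper (Y ↘ Spec (CommRingCat.of k))] [IsIntegral Y] (hdimY : topologicalKrullDim Y = 1)
    (f : X ⟶ Y) (hf : f ≫ (Y ↘ Spec (CommRingCat.of k)) = X ↘ Spec (CommRingCat.of k))
    (hgen : f (genericPoint X) = genericPoint Y) : IsFinite f := by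
  haveI : IsProper (f ≫ (Y ↘ Spec (CommRingCat.of k))) := by rw [hf]; infer_instance
  haveI : IsProper f := IsProper.of_comp f (Y ↘ Spec (CommRingCat.of k))
  haveI : JacobsonSpace Y := LocallyOfFiniteType.jacobsonSpace (Y ↘ Spec (CommRingCat.of k))
  haveI : LocallyQuasiFinite f := LocallyQuasiFinite.of_finite_preimage_singleton f fun y => by
    by_cases hy : y = genericPoint Y
    · refine (Set.finite_singleton (genericPoint X)).subset fun x hx => ?_
      by_contra hne
      have hxc : IsClosed ({x} : Set X) := by_contra fun h => hne (eq_generic_of_not_closed k hdim h)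
      have h1 : IsClosed ({f x} : Set Y) := by
        simpa using f.isClosedMap _ hxc
      rw [show f x = y from hx, hy] at h1
      have h2 : (Set.univ : Set Y) ⊆ {genericPoint Y} := by rw [← (genericPoint_spec Y).def]; exact h1.closure_eq.le
      haveI : Subsingleton Y := ⟨fun a b => (h2 (Set.mem_univ a)).trans (h2 (Set.mem_univ b)).symm⟩
      have := topologicalKrullDim_zero_of_discreteTopology Y
      rw [hdimY] at this
      exact absurd this (by norm_num)
    · have hyc : IsClosed ({y} : Set Y) := by_contra fun h => hy (eq_generic_of_not_closed k hdimY h)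
      exact finite_of_isClosed (k := k) hdim (hyc.preimage f.continuous) fun h => hy ((show f (genericPoint X) = y from h).symm.trans hgen)
  exact IsFinite.of_isProper_of_locallyQuasiFinite f

variable {k : Type u} [Field k] {X Y : Scheme.{u}}
  [X.Over (Spec (CommRingCat.of k))] [IsProper (X ↘ Spec (CommRingCat.of k))] [IsIntegral X] [VBLib.IsRegCurve X]
  [Y.Over (Spec (CommRingCat.of k))] [IsProper (Y ↘ Spec (CommRingCat.of k))] [IsIntegral Y] [VBLib.IsRegCurve Y]

omit [X.Over (Spec (CommRingCat.of k))] [IsProper (X ↘ Spec (CommRingCat.of k))] [VBLib.IsRegCurve X]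
  [Y.Over (Spec (CommRingCat.of k))] [IsProper (Y ↘ Spec (CommRingCat.of k))] [VBLib.IsRegCurve Y] in
/-- The map of function fields on germs. -/
theorem map_algebraMap_stalk (g : X ⟶ Y) (ψ : Y.functionField →+* X.functionField)
    (hg : X.fromSpecStalk (genericPoint X) ≫ g =
      Spec.map (CommRingCat.ofHom ψ) ≫ Y.fromSpecStalk (genericPoint Y))
    (z : X) (a : Y.presheaf.stalk (g z)) :
    ψ (algebraMap (Y.presheaf.stalk (g z)) Y.functionField a) =
      algebraMap (X.presheaf.stalk z) X.functionField (g.stalkMap z a) := by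
  have hX : X.fromSpecStalk (genericPoint X) =
      Spec.map (X.presheaf.stalkSpecializes ((genericPoint_spec X).specializes (y := z) trivial)) ≫ X.fromSpecStalk z :=
    (Scheme.SpecMap_stalkSpecializes_fromSpecStalk ((genericPoint_spec X).specializes (y := z) trivial)).symm
  have hY : Y.fromSpecStalk (genericPoint Y) =
      Spec.map (Y.presheaf.stalkSpecializes ((genericPoint_spec Y).specializes (y := g z) trivial)) ≫
        Y.fromSpecStalk (g z) :=
    (Scheme.SpecMap_stalkSpecializes_fromSpecStalk ((genericPoint_spec Y).specializes (y := g z) trivial)).symm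
  rw [hX, hY, Category.assoc, ← Scheme.SpecMap_stalkMap_fromSpecStalk, ← Category.assoc, ← Category.assoc,
    ← Spec.map_comp, ← Spec.map_comp, cancel_mono] at hg
  exact (congr($(Spec.map_injective hg).hom a)).symm

omit [X.Over (Spec (CommRingCat.of k))] [IsProper (X ↘ Spec (CommRingCat.of k))] [VBLib.IsRegCurve X]
  [Y.Over (Spec (CommRingCat.of k))] [IsProper (Y ↘ Spec (CommRingCat.of k))] [VBLib.IsRegCurve Y] in
theorem mem_maximalIdeal_map (g : X ⟶ Y) (z : X) {a : Y.presheaf.stalk (g z)}
    (ha : a ∈ IsLocalRing.maximalIdeal _) : g.stalkMap z a ∈ IsLocalRing.maximalIdeal _ :=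
  map_nonunit (g.stalkMap z).hom a ha

section

variable (hdimX : topologicalKrullDim X = 1) (hdimY : topologicalKrullDim Y = 1) (g : X ⟶ Y)
  (ψ : Y.functionField →+* X.functionField)
  (hg : X.fromSpecStalk (genericPoint X) ≫ g = Spec.map (CommRingCat.ofHom ψ) ≫ Y.fromSpecStalk (genericPoint Y))
  {x : X} (hx : IsClosed ({x} : Set X)) (hy : IsClosed ({g x} : Set Y)) (z : Y.functionField)

include hg

theorem place_map_le_one (h : (placeOf k hdimY (g x) hy).1 z ≤ 1) : (placeOf k hdimX x hx).1 (ψ z) ≤ 1 := by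
  obtain ⟨a, rfl⟩ := (placeOf_le_one_iff hdimY hy z).1 h
  exact (placeOf_le_one_iff hdimX hx _).2 ⟨_, (map_algebraMap_stalk g ψ hg x a).symm⟩

theorem place_map_lt_one (h : (placeOf k hdimY (g x) hy).1 z < 1) : (placeOf k hdimX x hx).1 (ψ z) < 1 := by
  haveI := isDVR k hdimX hx
  haveI := isDVR k hdimY hy
  obtain ⟨a, rfl⟩ := (placeOf_le_one_iff hdimY hy z).1 h.le
  rw [map_algebraMap_stalk g ψ hg x a]
  exact (IsDedekindDomain.HeightOneSpectrum.valuation_lt_one_iff_mem _ _).2
    (mem_maximalIdeal_map g x ((IsDedekindDomain.HeightOneSpectrum.valuation_lt_one_iff_mem _ _).1 h))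

theorem le_one_of_place_map (h : (placeOf k hdimX x hx).1 (ψ z) ≤ 1) : (placeOf k hdimY (g x) hy).1 z ≤ 1 := by
  by_contra hlt
  rw [not_le] at hlt
  have h1 : (placeOf k hdimY (g x) hy).1 z⁻¹ < 1 := by
    rw [map_inv₀]; exact inv_lt_one_of_one_lt₀ hlt
  have h2 := place_map_lt_one hdimX hdimY g ψ hg hx hy _ h1
  rw [map_inv₀, map_inv₀] at h2
  have h0 : ψ z ≠ 0 := (map_ne_zero ψ).2 fun h0 => by rw [h0, map_zero] at hlt; exact absurd hlt (not_lt.2 zero_le)
  exact absurd h (not_le.2 ((inv_lt_one₀ (zero_lt_iff.2 ((map_ne_zero _).2 h0))).1 h2))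

theorem lt_one_of_place_map (h : (placeOf k hdimX x hx).1 (ψ z) < 1) : (placeOf k hdimY (g x) hy).1 z < 1 := by
  refine lt_of_le_of_ne (le_one_of_place_map hdimX hdimY g ψ hg hx hy z h.le) fun he => ?_
  have h2 := place_map_le_one hdimX hdimY g ψ hg hx hy z⁻¹ (by rw [map_inv₀, he, inv_one])
  rw [map_inv₀, map_inv₀] at h2
  rcases eq_or_ne z 0 with rfl | hz
  · rw [map_zero] at he; exact zero_ne_one he
  have hpos : 0 < (placeOf k hdimX x hx).1 (ψ z) := zero_lt_iff.2 ((map_ne_zero _).2 ((map_ne_zero ψ).2 hz))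
  exact absurd h (not_lt.2 ((inv_le_one₀ hpos).1 h2))

/-- At a point where the maximal ideal below generates the one above, uniformizers pull back to uniformizers. -/
theorem place_map_eq_exp (hm : (IsLocalRing.maximalIdeal (Y.presheaf.stalk (g x))).map (g.stalkMap x).hom =
      IsLocalRing.maximalIdeal (X.presheaf.stalk x))
    (h : (placeOf k hdimY (g x) hy).1 z = WithZero.exp (-1)) :
    (placeOf k hdimX x hx).1 (ψ z) = WithZero.exp (-1) := by
  haveI := isDVR k hdimX hx
  haveI := isDVR k hdimY hy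
  have hlt : (placeOf k hdimY (g x) hy).1 z < 1 := by
    rw [h, ← WithZero.exp_zero, WithZero.exp_lt_exp]; norm_num
  obtain ⟨a, rfl⟩ := (placeOf_le_one_iff hdimY hy z).1 hlt.le
  have ha := (IsDedekindDomain.HeightOneSpectrum.valuation_lt_one_iff_mem _ _).1 hlt
  have ha0 : algebraMap (Y.presheaf.stalk (g x)) Y.functionField a ≠ 0 := fun h0 => by
    rw [h0, map_zero] at h; exact WithZero.exp_ne_zero h.symm
  have hspan : IsLocalRing.maximalIdeal (Y.presheaf.stalk (g x)) = Ideal.span {a} := by
    refine le_antisymm (fun b hb => ?_) ((Ideal.span_singleton_le_iff_mem _).2 ha)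
    have hbv := (IsDedekindDomain.HeightOneSpectrum.valuation_lt_one_iff_mem
      (K := Y.functionField) (IsDiscreteValuationRing.maximalIdeal (Y.presheaf.stalk (g x))) b).2 hb
    have hle : (placeOf k hdimY (g x) hy).1 (algebraMap _ Y.functionField b / algebraMap _ Y.functionField a) ≤ 1 := by
      rw [map_div₀, h, div_le_one₀ (zero_lt_iff.2 WithZero.exp_ne_zero)]
      exact (FF.v_lt_one_iff_le_exp _ _).1 hbv
    obtain ⟨c, hc⟩ := (placeOf_le_one_iff hdimY hy _).1 hle
    refine Ideal.mem_span_singleton'.2 ⟨c, IsFractionRing.injective (Y.presheaf.stalk (g x)) Y.functionField ?_⟩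
    rw [map_mul, hc, div_mul_cancel₀ _ ha0]
  rw [hspan, Ideal.map_span, Set.image_singleton] at hm
  rw [map_algebraMap_stalk g ψ hg x a]
  show (IsDiscreteValuationRing.maximalIdeal (X.presheaf.stalk x)).valuation X.functionField _ = _
  rw [IsDedekindDomain.HeightOneSpectrum.valuation_of_algebraMap]
  refine IsDedekindDomain.HeightOneSpectrum.intValuation_singleton _ (fun h0 => ?_) hm.symm
  have : (g.stalkMap x).hom a = 0 := h0
  rw [this, Ideal.span_singleton_eq_bot.2 rfl] at hm
  exact IsDiscreteValuationRing.not_a_field _ hm.symm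

end

/-- A coordinate with its only pole at a given place. -/
theorem exists_coord_simple_pole {K : Type u} [Field K] [Algebra k K] [IsAlgClosed k] (hK : FunFld.IsFunctionField k K)
    (hg : FunFld.genus k K = 0) (P : FunFld.Place k K) :
    ∃ t : K, t ≠ 0 ∧ t ∈ FunFld.L (Finsupp.single P 1 : FunFld.Divisor k K) ∧ P.ord t = -1 := by
  classical
  have h2 := FF.ell_genus_zero hK hg (E := Finsupp.single P 1) (by rw [FF.deg_single_ac hK]; norm_num)
  rw [FF.deg_single_ac hK] at h2
  have h1 := FF.ell_zero_le hK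
  obtain ⟨x, hx, hx'⟩ : ∃ x ∈ FunFld.L (Finsupp.single P 1 : FunFld.Divisor k K), x ∉ FunFld.L (0 : FunFld.Divisor k K) := by
    by_contra hno
    push Not at hno
    haveI := FF.finite_L hK (0 : FunFld.Divisor k K)
    have h3 := Submodule.finrank_mono (show FunFld.L (Finsupp.single P 1 : FunFld.Divisor k K) ≤ FunFld.L 0 from hno)
    simp only [FunFld.ell] at h1 h2
    omega
  obtain ⟨hx0, ho⟩ := FF.ord_eq_of_not_mem_L (P := P) hx (by rwa [sub_self])
  exact ⟨x, hx0, hx, by rw [ho, Finsupp.single_eq_same]⟩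

end Groth.Agent.CurveFF
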