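import Groth.Agent.FF.Clifford
import Groth.Agent.FF.Canonical
import Groth.Agent.FF.AlgClosed
import Groth.Agent.FF.Count
import Groth.Agent.FF.Misc

/-!
# Pencils of degree two
-/

set_option autoImplicit false
set_option linter.style.haveILetI false

noncomputable section

namespace Groth.Agent.CurveFF

open FunFld
open scoped WithZero IntermediateField

variable {k K : Type*} [Field k] [IsAlgClosed k] [Field K] [Algebra k K] (hK : IsFunctionField k K)
include hK

/-- An effective representative. -/
theorem exists_effective {D : Divisor k K} (h : 0 < ell D) :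
    ∃ z : K, z ≠ 0 ∧ 0 ≤ D + div k z ∧ ell (D + div k z) = ell D ∧ (D + div k z).deg = D.deg := by
  obtain ⟨z, hz, hzL⟩ := FF.exists_ne_zero_of_ell_pos h
  exact ⟨z, hz, FF.le_add_div_of_mem_L hK hz hzL, FF.ell_add_div hK _ hz,
    by rw [FF.deg_add, FF.deg_div hK, add_zero]⟩

theorem exists_nonconstant {D : Divisor k K} (h : 2 ≤ ell D) : ∃ x ∈ L D, x ∉ Set.range (algebraMap k K) := by
  by_contra hall
  push Not at hall
  have hle : L D ≤ (1 : Submodule k K) := fun f hf => Submodule.mem_one.2 (hall f hf)
  haveI : FiniteDimensional k ↥(1 : Submodule k K) := by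
    rw [Submodule.one_eq_span]; exact FiniteDimensional.span_singleton k 1
  have h1 : ell D ≤ Module.finrank k ↥(1 : Submodule k K) := Submodule.finrank_mono hle
  rw [Submodule.one_eq_span, finrank_span_singleton one_ne_zero] at h1
  omega

/-- A nonconstant function in a pencil of degree two has the pencil as its divisor of poles. -/
theorem zeros_inv_eq (hg : 1 ≤ genus k K) {E : Divisor k K} (hE : 0 ≤ E) (hd : E.deg = 2) {x : K} (hx : x ∈ L E)
    (hxc : x ∉ Set.range (algebraMap k K)) : FF.zeros (k := k) x⁻¹ = E := by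
  have ht := FF.transcendental_of_not_mem hK hxc
  have hx0 : x ≠ 0 := fun h => hxc (h ▸ ⟨0, map_zero _⟩)
  have hti : Transcendental k x⁻¹ := fun h => ht (by simpa using h.inv)
  have hle : FF.zeros (k := k) x⁻¹ ≤ E := fun Q => by
    rw [FF.zeros_apply hK, FF.ord_inv]
    have := (FF.mem_L_iff_ord hx0).1 hx Q
    have h2 := hE Q
    rw [Finsupp.coe_zero, Pi.zero_apply] at h2
    omega
  have hdz := FF.deg_zeros hK hti
  rw [FF.adjoin_inv] at hdz
  haveI := FF.finiteDimensional_adjoin hK ht
  have h3 : 0 < Module.finrank k⟮x⟯ K := Module.finrank_pos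
  have h4 : Module.finrank k⟮x⟯ K ≠ 1 := fun h => by
    have := FF.genus_eq_zero_of_finrank_one hK ht h
    omega
  have hdle := FF.deg_mono hle
  have hzero := FF.eq_zero_of_nonneg_of_deg hK (E := E - FF.zeros (k := k) x⁻¹) (sub_nonneg.2 hle)
    (by rw [FF.deg_sub]; omega)
  exact (sub_eq_zero.1 hzero).symm

/-- The `g¹₂` of a hyperelliptic function field is unique. -/
theorem g12_unique (hg : 2 ≤ genus k K) {D D' : Divisor k K} (hd : D.deg = 2) (hd' : D'.deg = 2) (h : 2 ≤ ell D)
    (h' : 2 ≤ ell D') : D - D' ∈ prinDivs k K := by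
  classical
  obtain ⟨z, hz, hE, hEl, hEd⟩ := exists_effective hK (D := D) (by omega)
  obtain ⟨z', hz', hE', hEl', hEd'⟩ := exists_effective hK (D := D') (by omega)
  set E := D + div k z
  set E' := D' + div k z'
  obtain ⟨x, hx, hxc⟩ := exists_nonconstant hK (D := E) (by omega)
  obtain ⟨x', hx', hxc'⟩ := exists_nonconstant hK (D := E') (by omega)
  have hone : ∀ {F : Divisor k K}, 0 ≤ F → (1 : K) ∈ L F := fun hF P => by
    rw [map_one, ← WithZero.exp_zero]
    exact WithZero.exp_le_exp.2 (hF P)
  -- the four products are dependent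
  let v : Fin 4 → L (E + E') := ![⟨1, by simpa using FF.mul_mem_L (hone hE) (hone hE')⟩,
    ⟨x, by simpa using FF.mul_mem_L hx (hone hE')⟩, ⟨x', by simpa using FF.mul_mem_L (hone hE) hx'⟩,
    ⟨x * x', FF.mul_mem_L hx hx'⟩]
  have hdep : ¬ LinearIndependent k v := fun hv => by
    haveI := FF.finite_L hK (E + E')
    have h1 : Fintype.card (Fin 4) ≤ ell (E + E') := hv.fintype_card_le_finrank
    have h2 := FF.clifford hK (D := E + E') (by rw [FF.deg_add]; omega) (by rw [FF.deg_add]; omega)
    rw [Fintype.card_fin] at h1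
    rw [FF.deg_add] at h2
    omega
  rw [Fintype.not_linearIndependent_iff] at hdep
  obtain ⟨c, hc, i, hi⟩ := hdep
  have hrel : c 0 • (1 : K) + c 1 • x + c 2 • x' + c 3 • (x * x') = 0 := by
    have := congrArg Subtype.val hc
    simpa [Fin.sum_univ_four, v] using this
  have hlin : ∀ a b : k, a • (1 : K) + b • x = 0 → a = 0 ∧ b = 0 := fun a b hab => by
    by_cases hb : b = 0
    · subst hb
      refine ⟨?_, rfl⟩
      simpa [Algebra.smul_def] using hab
    · refine absurd ⟨-a / b, ?_⟩ hxc
      rw [Algebra.smul_def, Algebra.smul_def, mul_one] at hab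
      have hb' : algebraMap k K b ≠ 0 := by simpa using hb
      rw [map_div₀, map_neg, div_eq_iff hb']
      linear_combination -hab
  set y := c 2 • (1 : K) + c 3 • x with hy
  have hxy : y * x' = -(c 0 • (1 : K) + c 1 • x) := by
    rw [hy]
    simp only [Algebra.smul_def, mul_one] at hrel ⊢
    linear_combination hrel
  have hy0 : y ≠ 0 := fun h0 => by
    obtain ⟨h2, h3⟩ := hlin _ _ h0
    rw [h0, zero_mul, eq_comm, neg_eq_zero] at hxy
    obtain ⟨h00, h11⟩ := hlin _ _ hxy
    exact hi (by fin_cases i <;> assumption)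
  have hyE : y ∈ L E := Submodule.add_mem _ (Submodule.smul_mem _ _ (hone hE)) (Submodule.smul_mem _ _ hx)
  have hxE : x' ∈ L (E + div k y) := (FF.mem_L_add_div hK E hy0 x').1 (by
    rw [hxy]
    exact neg_mem (Submodule.add_mem _ (Submodule.smul_mem _ _ (hone hE)) (Submodule.smul_mem _ _ hx)))
  have hF := FF.le_add_div_of_mem_L hK hy0 hyE
  have e1 := zeros_inv_eq hK (by omega) hF (by rw [FF.deg_add, FF.deg_div hK]; omega) hxE hxc'
  have e2 := zeros_inv_eq hK (by omega) hE' (by omega) hx' hxc'
  have e : D + div k z + div k y = D' + div k z' := e1.symm.trans e2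
  have hD : D - D' = div k z' - div k z - div k y :=
    calc D - D' = (D + div k z + div k y) - D' - div k z - div k y := by abel
      _ = div k z' - div k z - div k y := by rw [e]; abel
  rw [hD]
  exact sub_mem (sub_mem ((FF.mem_prinDivs_iff hK).2 ⟨z', hz', rfl⟩) ((FF.mem_prinDivs_iff hK).2 ⟨z, hz, rfl⟩))
    ((FF.mem_prinDivs_iff hK).2 ⟨y, hy0, rfl⟩)

/-- Equality in Clifford's inequality away from the extremes gives a `g¹₂`. -/
theorem exists_g12_of_clifford_eq : ∀ (n : ℕ) {D : Divisor k K}, D.deg = n → 0 < n →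
    (n : ℤ) < 2 * (genus k K : ℤ) - 2 → (n : ℤ) + 2 ≤ 2 * (ell D : ℤ) → ∃ E : Divisor k K, E.deg = 2 ∧ 2 ≤ ell E := by
  classical
  intro n
  induction n using Nat.strong_induction_on with
  | _ n ih =>
    intro D hdeg hn hn2 hell
    obtain ⟨C, hC⟩ := FF.exists_canonical hK
    obtain ⟨hC1, hC2⟩ := FF.canonical_deg hK hC
    have hcl := FF.clifford hK (D := D) (by omega) (by omega)
    rcases Nat.lt_or_ge n 4 with hn4 | hn4
    · have : n = 2 := by omega
      exact ⟨D, by omega, by omega⟩
    have hrr := FF.riemann_roch hK hC D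
    obtain ⟨z, hz, hA, hAl, hAd⟩ := exists_effective hK (D := C - D) (by omega)
    set B := C - D + div k z with hB
    obtain ⟨P, hP⟩ : ∃ P, 0 < B P := by
      by_contra hne
      push Not at hne
      have hB0 : B = 0 := Finsupp.ext fun Q => le_antisymm (hne Q) (hA Q)
      have : B.deg = 0 := by rw [hB0, FF.deg_zero]
      rw [hAd, FF.deg_sub] at this
      omega
    haveI := FF.infinite_places hK
    obtain ⟨Q, hQ⟩ := Infinite.exists_notMem_finset B.support
    rw [Finsupp.notMem_support_iff] at hQ
    have h2 : ∀ {F : Divisor k K}, 0 ≤ F → F.deg = 2 → (ell D : ℤ) - 2 ≤ ell (D - F) := fun {F} hF hF2 => by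
      have := FF.ell_sub_le hK (D₁ := D - F) (D₂ := D) (sub_le_self _ hF)
      rw [FF.deg_sub, hF2] at this
      omega
    have hPQ : (0 : Divisor k K) ≤ Finsupp.single P 1 + Finsupp.single Q 1 :=
      add_nonneg (Finsupp.single_nonneg.2 zero_le_one) (Finsupp.single_nonneg.2 zero_le_one)
    have h3 := h2 hPQ (by rw [FF.deg_add, FF.deg_single_ac hK, FF.deg_single_ac hK]; norm_num)
    obtain ⟨w, hw, hA', hA'l, hA'd⟩ := exists_effective hK (D := D - (Finsupp.single P 1 + Finsupp.single Q 1)) (by omega)
    set A := D + div k w with hAdef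
    have hA0 : Finsupp.single P 1 + Finsupp.single Q 1 ≤ A := by
      rw [← sub_nonneg]
      rwa [show A - (Finsupp.single P 1 + Finsupp.single Q 1) = D - (Finsupp.single P 1 + Finsupp.single Q 1) + div k w by
        rw [hAdef]; abel]
    have hAnn : 0 ≤ A := hPQ.trans hA0
    have hAell : ell A = ell D := FF.ell_add_div hK _ hw
    have hAdeg : A.deg = n := by rw [hAdef, FF.deg_add, FF.deg_div hK, add_zero, hdeg]
    -- the common part
    set G := A ⊓ B
    set H := A ⊔ B
    have hGH : G + H = A + B := by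
      refine Finsupp.ext fun R => ?_
      simp only [G, H, Finsupp.add_apply, Finsupp.inf_apply, Finsupp.sup_apply]
      omega
    haveI := FF.finite_L hK A
    haveI := FF.finite_L hK B
    haveI := FF.finite_L hK H
    haveI := FF.finite_L hK G
    have hsum : ell A + ell B ≤ ell G + ell H := by
      have h := Submodule.finrank_sup_add_finrank_inf_eq (L A) (L B)
      have hs : Module.finrank k ↥(L A ⊔ L B) ≤ ell H :=
        Submodule.finrank_mono (sup_le (FF.L_mono le_sup_left) (FF.L_mono le_sup_right))
      have hi : Module.finrank k ↥(L A ⊓ L B) ≤ ell G := Submodule.finrank_mono fun f hf R => by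
        simp only [G, Finsupp.inf_apply]
        rcases min_choice (A R) (B R) with hm | hm <;> rw [hm]
        exacts [hf.1 R, hf.2 R]
      simp only [ell] at *
      omega
    have hellB : ell B = ell (C - D) := hAl
    have hH : ell H = ell (C - G) := by
      have : H = C - G + div k (z * w) := by
        rw [FF.div_mul hK hz hw, eq_sub_of_add_eq' hGH, hAdef, hB]
        abel
      rw [this, FF.ell_add_div hK _ (mul_ne_zero hz hw)]
    have hG0 : 0 ≤ G := le_inf hAnn hA
    have hGle : G ≤ A := inf_le_left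
    have hGP : 1 ≤ G P := by
      have h1 := hA0 P
      simp only [G, Finsupp.inf_apply, Finsupp.add_apply, Finsupp.single_eq_same] at h1 ⊢
      have h2 : 0 ≤ Finsupp.single Q (1 : ℤ) P := (Finsupp.single_nonneg.2 zero_le_one : (0 : Divisor k K) ≤ _) P
      omega
    have hGQ : G Q < A Q := by
      have h1 := hA0 Q
      simp only [G, Finsupp.inf_apply, Finsupp.add_apply, Finsupp.single_eq_same, hQ] at h1 ⊢
      have h2 : 0 ≤ Finsupp.single P (1 : ℤ) Q := (Finsupp.single_nonneg.2 zero_le_one : (0 : Divisor k K) ≤ _) Q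
      omega
    have hdegG : 1 ≤ G.deg := by
      have h1 : Finsupp.single P 1 ≤ G := fun R => by
        rcases eq_or_ne R P with rfl | hR
        · rwa [Finsupp.single_eq_same]
        · rw [Finsupp.single_eq_of_ne hR]; exact hG0 R
      simpa [FF.deg_single_ac hK] using FF.deg_mono h1
    have hdegA : G.deg < n := by
      have h1 : G + Finsupp.single Q 1 ≤ A := fun R => by
        rcases eq_or_ne R Q with rfl | hR
        · rw [Finsupp.add_apply, Finsupp.single_eq_same]; omega
        · rw [Finsupp.add_apply, Finsupp.single_eq_of_ne hR, add_zero]; exact hGle R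
      have h2 := FF.deg_mono h1
      rw [FF.deg_add, FF.deg_single_ac hK, hAdeg] at h2
      omega
    have hrrG := FF.riemann_roch hK hC G
    exact ih G.deg.toNat (by omega) (D := G) (by omega) (by omega) (by omega) (by omega)

end Groth.Agent.CurveFF
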