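import Groth.Agent.CurveFF.FrobTwist
import Groth.Agent.CurveFF.CanGen
import Groth.Agent.FF.Conorm
import Mathlib.FieldTheory.SeparableClosure
import Mathlib.RingTheory.Unramified.Field

/-!
# Separable functions in the canonical system
-/

set_option autoImplicit false
set_option backward.isDefEq.respectTransparency false
set_option maxHeartbeats 1600000
set_option linter.style.haveILetI false

universe u

open CategoryTheory Limits AlgebraicGeometry TopologicalSpace
open scoped IntermediateField

noncomputable section

namespace Groth.Agent.CurveFF.CanSep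

attribute [local instance] Curv2.stalkAlgebra
attribute [local instance high] FunFld.Place.algRes

/-- An effective divisor on a curve of positive genus has at most `deg E` sections. -/
theorem ell_le_deg {k K : Type*} [Field k] [Field K] [Algebra k K] (hK : FunFld.IsFunctionField k K)
    (hP : ∀ P : FunFld.Place k K, FunFld.ell (Finsupp.single P (1 : ℤ)) ≤ P.deg) :
    ∀ (n : ℕ) (E : FunFld.Divisor k K), 0 ≤ E → E.deg = n → FunFld.ell E ≤ max n 1 := by
  classical
  intro n
  induction n using Nat.strong_induction_on with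
  | _ n ih =>
    intro E hE hd
    rcases Nat.eq_zero_or_pos n with rfl | hn
    · rw [FF.eq_zero_of_nonneg_of_deg hK hE (by omega), FF.ell_zero hK]; exact le_max_right _ _
    have hne : E ≠ 0 := fun h => by rw [h, FF.deg_zero] at hd; omega
    obtain ⟨P, hP'⟩ := Finsupp.ne_iff.1 hne
    have h1 : Finsupp.single P (1 : ℤ) ≤ E := fun Q => by
      rcases eq_or_ne Q P with rfl | hQ
      · have := hE Q
        simp only [Finsupp.coe_zero, Pi.zero_apply, Finsupp.single_eq_same] at this hP' ⊢
        omega
      · simpa [Finsupp.single_eq_of_ne hQ] using hE Q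
    have hdeg1 := FF.deg_pos hK P
    set E' := E - Finsupp.single P (1 : ℤ) with hE'
    have h0 : 0 ≤ E' := sub_nonneg.2 h1
    have hd' : E'.deg = (n : ℤ) - P.deg := by rw [hE', FF.deg_sub, FF.deg_single, hd, one_mul]
    have hnn := FF.deg_nonneg h0
    rcases eq_or_ne E'.deg 0 with hz | hz
    · have he : E = Finsupp.single P (1 : ℤ) := sub_eq_zero.1 (FF.eq_zero_of_nonneg_of_deg hK h0 hz.le)
      rw [he]
      exact (hP P).trans (le_max_of_le_left (by omega))
    · have hle : (FunFld.ell E : ℤ) - FunFld.ell E' ≤ E.deg - E'.deg :=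
        FF.ell_sub_le hK (sub_le_self E (Finsupp.single_nonneg.2 zero_le_one) : E' ≤ E)
      obtain ⟨m, hm⟩ := Int.eq_ofNat_of_zero_le hnn
      have := ih m (by omega) E' h0 hm
      omega

/-- No system of degree `2g - 2` with `g` sections lies in a proper radical subfield. -/
theorem not_le_range {k L K : Type u} [Field k] [Field L] [Field K] [Algebra k L] [Algebra k K]
    (hKT : FunFld.IsFunctionField k L) (hK : FunFld.IsFunctionField k K)
    (hP : ∀ P : FunFld.Place k L, FunFld.ell (Finsupp.single P (1 : ℤ)) ≤ P.deg)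
    {M : IntermediateField k K} (hM : M ≠ ⊤) (ε : L ≃ₐ[k] M) {g : ℕ} (hg : 2 ≤ g)
    {C : FunFld.Divisor k K} (hC0 : 0 ≤ C) (hCd : C.deg ≤ 2 * (g : ℤ) - 2) (hCl : g ≤ FunFld.ell C)
    (hex : ∀ x ∈ FunFld.L C, x ∈ M) : False := by
  classical
  let ψ : L →ₐ[k] K := M.val.comp ε.toAlgHom
  letI : Algebra L K := ψ.toRingHom.toAlgebra
  haveI : IsScalarTower k L K := IsScalarTower.of_algebraMap_eq fun c => (ψ.commutes c).symm
  obtain ⟨⟨u, hu, hufin⟩, -⟩ := id hKT
  have hψu : Transcendental k (ψ u) := fun h => hu ((isAlgebraic_algHom_iff ψ ψ.injective).1 h)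
  haveI := FF.finiteDimensional_adjoin hK hψu
  letI : Algebra k⟮u⟯ K := (ψ.toRingHom.comp (algebraMap k⟮u⟯ _)).toAlgebra
  haveI : IsScalarTower k⟮u⟯ L K := IsScalarTower.of_algebraMap_eq fun _ => rfl
  haveI : Module.Finite k⟮u⟯ K := by
    let eu : k⟮u⟯ ≃ₐ[k] k⟮ψ u⟯ := (k⟮u⟯.equivMap ψ).trans (IntermediateField.equivOfEq (by
      rw [IntermediateField.adjoin_map, Set.image_singleton]))
    exact Module.Finite.of_equiv_equiv eu.toRingEquiv.symm (RingEquiv.refl K)
      (RingHom.ext fun z => by
        obtain ⟨w, rfl⟩ := eu.surjective z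
        simp only [RingHom.coe_comp, RingEquiv.coe_toRingHom, Function.comp_apply]
        rw [show eu.toRingEquiv.symm (eu w) = w from eu.symm_apply_apply w]
        rfl)
  haveI : FiniteDimensional L K := Module.Finite.of_restrictScalars_finite k⟮u⟯ _ _
  have hr2 : 2 ≤ Module.finrank L K := by
    by_contra hlt
    have h1 : Module.finrank L K = 1 := by
      have := Module.finrank_pos (R := L) (M := K)
      omega
    refine hM (eq_top_iff.2 fun y _ => ?_)
    obtain ⟨w, hw⟩ := (finrank_eq_one_iff_of_nonzero' (1 : K) one_ne_zero).1 h1 y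
    rw [Algebra.smul_def, mul_one] at hw
    exact hw ▸ (ε w).2
  haveI := FF.finite_L hK C
  let b := Module.finBasis k (FunFld.L C)
  unfold FunFld.ell at hCl
  haveI : Nonempty (Fin (Module.finrank k (FunFld.L C))) := ⟨⟨0, by omega⟩⟩
  have hpre : ∀ i, ∃ w, ψ w = (b i : K) := fun i => ⟨ε.symm ⟨_, hex _ (b i).2⟩, by simp [ψ]⟩
  choose φ hφ using hpre
  have hφ0 : ∀ i, φ i ≠ 0 := fun i h => b.ne_zero i (Subtype.ext (by rw [← hφ i, h, map_zero]; rfl))
  have hli : LinearIndependent k φ := by
    refine LinearIndependent.of_comp ψ.toLinearMap ?_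
    rw [show ⇑ψ.toLinearMap ∘ φ = Subtype.val ∘ b from funext hφ]
    exact b.linearIndependent.map' (FunFld.L C).subtype (Submodule.ker_subtype _)
  set D' := FunFld.mapDiv k φ with hD'
  have hconv := FF.mapDiv_eq_conorm (K' := K) hKT φ hK
  have hle : FunFld.mapDiv k (fun i => algebraMap L K (φ i)) ≤ C := by
    intro P
    rw [FF.mapDiv_apply_inf hK, neg_le]
    refine Finset.le_inf' _ _ fun i _ => ?_
    have hne : (b i : K) ≠ 0 := fun h => b.ne_zero i (Subtype.ext h)
    have := (FF.mem_L_iff_ord hne).1 (b i).2 P
    show -C P ≤ P.ord (ψ (φ i))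
    rw [hφ i]
    omega
  have hdle := FF.deg_mono hle
  rw [hconv, FF.deg_conorm hKT, ← hD'] at hdle
  have hellD : Module.finrank k (FunFld.L C) ≤ FunFld.ell D' := by
    haveI := FF.finite_L hKT D'
    have h1 := Submodule.finrank_mono (FF.span_le_L_mapDiv hKT hφ0)
    rw [finrank_span_eq_card hli, Fintype.card_fin] at h1
    exact h1
  obtain ⟨z, hz, hzL⟩ := FF.exists_ne_zero_of_ell_pos (D := D') (by omega)
  set E := D' + FunFld.div k z with hE
  have hE0 : 0 ≤ E := FF.le_add_div_of_mem_L hKT hz hzL
  have hEd : E.deg = D'.deg := by rw [hE, FF.deg_add, FF.deg_div hKT, add_zero]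
  have hEl : FunFld.ell E = FunFld.ell D' := by rw [hE, FF.ell_add_div hKT _ hz]
  have hnn := FF.deg_nonneg hE0
  obtain ⟨n, hn⟩ := Int.eq_ofNat_of_zero_le hnn
  have hkey := ell_le_deg hKT hP n E hE0 hn
  have hmul : 2 * D'.deg ≤ (Module.finrank L K : ℤ) * D'.deg :=
    mul_le_mul_of_nonneg_right (by exact_mod_cast hr2) (hEd ▸ hnn)
  omega

variable {k : Type u} [Field k] {X : Scheme.{u}} [X.Over (Spec (CommRingCat.of k))]
  [IsProper (X ↘ Spec (CommRingCat.of k))] [IsIntegral X] [VBLib.IsRegCurve X]
  [Smooth (X ↘ Spec (CommRingCat.of k))] (hdim : topologicalKrullDim X = 1)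
  (h0 : Module.finrank k (Coh.HH X (Coh.structureModule X) 0) = 1) (p : ℕ) [Fact p.Prime] [ExpChar k p]

omit [IsIntegral X] [VBLib.IsRegCurve X] [Smooth (X ↘ Spec (CommRingCat.of k))] in
include h0 in
theorem twist_h0 : Module.finrank k (Coh.HH (twist (k := k) p 1 X) (Coh.structureModule (twist (k := k) p 1 X)) 0) = 1 := by
  let alg : Algebra k k := (iterateFrobenius k p 1).toAlgebra
  exact (@finrank_H0_bc_structure k _ X _ _ k _ alg).trans h0

omit [IsIntegral X] [VBLib.IsRegCurve X] [Smooth (X ↘ Spec (CommRingCat.of k))] in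
theorem twist_genus : Curv2.genus k (twist (k := k) p 1 X) = Curv2.genus k X := by
  let alg : Algebra k k := (iterateFrobenius k p 1).toAlgebra
  exact @genus_bc k _ X _ _ k _ alg

include hdim h0 in
omit [VBLib.IsRegCurve X] in
theorem powField_ne_top : powField k X.functionField p ≠ ⊤ := by
  intro htop
  haveI := VBLib.isRegCurve_of_smooth (X := X) k hdim.le
  have hK := isFunctionField k hdim h0
  obtain ⟨⟨x, hx, hfin⟩, -⟩ := id hK
  haveI : CharP k p := by
    cases ‹ExpChar k p› with
    | zero => exact absurd (Fact.out : Nat.Prime 1) Nat.not_prime_one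
    | prime _ => assumption
  haveI : CharP X.functionField p := charP_of_injective_algebraMap (algebraMap k X.functionField).injective p
  let F₀ : IntermediateField k X.functionField :=
    { carrier := {c | KaehlerDifferential.D k X.functionField c = 0}
      add_mem' := fun {a b} ha hb => by
        show KaehlerDifferential.D k X.functionField (a + b) = 0
        rw [map_add, show KaehlerDifferential.D k X.functionField a = 0 from ha,
          show KaehlerDifferential.D k X.functionField b = 0 from hb, add_zero]
      mul_mem' := fun {a b} ha hb => by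
        show KaehlerDifferential.D k X.functionField (a * b) = 0
        rw [Derivation.leibniz, show KaehlerDifferential.D k X.functionField a = 0 from ha,
          show KaehlerDifferential.D k X.functionField b = 0 from hb, smul_zero, smul_zero, add_zero]
      one_mem' := Derivation.map_one_eq_zero _
      zero_mem' := map_zero _
      algebraMap_mem' := fun c => Derivation.map_algebraMap _ c
      inv_mem' := fun a ha => by
        show KaehlerDifferential.D k X.functionField a⁻¹ = 0
        rcases eq_or_ne a 0 with rfl | h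
        · simp
        rw [Derivation.leibniz_inv, show KaehlerDifferential.D k X.functionField a = 0 from ha, smul_zero] }
  have hle : powField k X.functionField p ≤ F₀ := IntermediateField.adjoin_le_iff.2 (by
    rintro _ ⟨y, rfl⟩
    show KaehlerDifferential.D k X.functionField (y ^ p) = 0
    rw [Derivation.leibniz_pow, ← Nat.cast_smul_eq_nsmul X.functionField, CharP.cast_eq_zero, zero_smul])
  haveI : Algebra.FormallyUnramified k X.functionField := ⟨by
    refine subsingleton_of_forall_eq 0 fun z => ?_
    have hz := (KaehlerDifferential.span_range_derivation k X.functionField).ge (Submodule.mem_top : z ∈ ⊤)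
    have hz' : z ∈ (⊥ : Submodule X.functionField _) := by
      refine (Submodule.span_le.2 ?_) hz
      rintro _ ⟨y, rfl⟩
      exact (Submodule.mem_bot _).2 (hle (htop ▸ IntermediateField.mem_top : y ∈ powField k X.functionField p))
    exact (Submodule.mem_bot _).1 hz'⟩
  haveI : Algebra.EssFiniteType k k⟮x⟯ :=
    IntermediateField.essFiniteType_iff.2 (IntermediateField.fg_adjoin_of_finite (Set.finite_singleton x))
  haveI := hfin
  haveI : Algebra.EssFiniteType k X.functionField := Algebra.EssFiniteType.comp k k⟮x⟯ X.functionField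
  haveI := Algebra.FormallyUnramified.isSeparable k X.functionField
  exact hx (Algebra.IsAlgebraic.isAlgebraic x)

include hdim h0 p in
/-- In genus at least two some canonical function is separable. -/
theorem exists_separable (hg : 2 ≤ Curv2.genus k X) {C : FunFld.Divisor k X.functionField} (hC0 : 0 ≤ C)
    (hCd : C.deg ≤ 2 * (Curv2.genus k X : ℤ) - 2) (hCl : Curv2.genus k X ≤ FunFld.ell C) :
    ∃ x ∈ FunFld.L C, x ∉ Set.range (algebraMap k X.functionField) ∧ Algebra.IsSeparable k⟮x⟯ X.functionField := by
  classical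
  have hK := isFunctionField k hdim h0
  have hMtop := powField_ne_top hdim h0 p
  obtain ⟨t, ht⟩ := exists_separating_of_smooth (k := k) (X := X) hdim p
  by_cases hex : ∃ x ∈ FunFld.L C, x ∉ powField k X.functionField p
  · obtain ⟨x, hxC, hxM⟩ := hex
    have hxc : x ∉ Set.range (algebraMap k X.functionField) := fun ⟨c, hc⟩ =>
      hxM (hc ▸ IntermediateField.algebraMap_mem _ c)
    refine ⟨x, hxC, hxc, ?_⟩
    haveI := FF.finiteDimensional_adjoin hK (FF.transcendental_of_not_mem hK hxc)
    set S := separableClosure k⟮x⟯ X.functionField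
    haveI : IsPurelyInseparable (S.restrictScalars k) X.functionField :=
      inferInstanceAs (IsPurelyInseparable S X.functionField)
    haveI : FiniteDimensional (S.restrictScalars k) X.functionField :=
      inferInstanceAs (FiniteDimensional S X.functionField)
    obtain ⟨r, hr⟩ := exists_eq_powField (k := k) p (L := S.restrictScalars k) ht
    rcases r with _ | r
    · refine ⟨fun y => ?_⟩
      have hy : y ∈ S.restrictScalars k := by
        rw [hr]
        exact IntermediateField.subset_adjoin _ _ ⟨y, by simp⟩
      exact mem_separableClosure_iff.1 hy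
    · refine absurd ?_ hxM
      have hx' : x ∈ S.restrictScalars k :=
        S.algebraMap_mem (⟨x, IntermediateField.mem_adjoin_simple_self k x⟩ : k⟮x⟯)
      rw [hr] at hx'
      refine IntermediateField.adjoin_le_iff.2 ?_ hx'
      rintro _ ⟨y, rfl⟩
      exact IntermediateField.subset_adjoin _ _ ⟨y ^ p ^ r,
        show (y ^ p ^ r) ^ p = y ^ p ^ (r + 1) by rw [← pow_mul, pow_succ]⟩
  exfalso
  push Not at hex
  obtain ⟨ε⟩ := exists_algEquiv_twist (k := k) (X := X) p 1
  rw [pow_one] at ε
  have hdT := dim_twist (k := k) (X := X) p 1 hdim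
  haveI := VBLib.isRegCurve_of_smooth (X := twist (k := k) p 1 X) k hdT.le
  have h0T := twist_h0 (k := k) (X := X) h0 p
  have hgT : 1 ≤ Curv2.genus k (twist (k := k) p 1 X) := by
    rw [twist_genus (k := k) (X := X) p]; omega
  exact not_le_range (isFunctionField k hdT h0T) hK (ell_single_le hdT h0T hgT) hMtop ε hg hC0 hCd hCl hex

end Groth.Agent.CurveFF.CanSep
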