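import Groth.Agent.CurveFF.Radicial

/-!
# The Frobenius twist of a smooth curve and its function field
-/

set_option autoImplicit false
set_option backward.isDefEq.respectTransparency false
set_option maxHeartbeats 1600000
set_option linter.style.haveILetI false

universe u

open CategoryTheory Limits AlgebraicGeometry TopologicalSpace
open scoped IntermediateField

noncomputable section

namespace Groth.Agent.CurveFF

attribute [local instance] Curv2.stalkAlgebra
attribute [local instance high] FunFld.Place.algRes

variable {k : Type u} [Field k] (p : ℕ) [Fact p.Prime] [ExpChar k p] (r : ℕ)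

/-- The iterated Frobenius of the base field. -/
abbrev frobSpec (k : Type u) [Field k] (p : ℕ) [ExpChar k p] (r : ℕ) :
    Spec (CommRingCat.of k) ⟶ Spec (CommRingCat.of k) :=
  Spec.map (CommRingCat.ofHom (iterateFrobenius k p r))

theorem isIntegralHom_frobSpec : IsIntegralHom (frobSpec k p r) := by
  rw [IsIntegralHom.SpecMap_iff]
  intro c
  refine ⟨Polynomial.X ^ p ^ r - Polynomial.C c, Polynomial.monic_X_pow_sub_C c
    (pow_ne_zero r (Fact.out : p.Prime).ne_zero), ?_⟩
  simp [iterateFrobenius_def]

theorem universallyInjective_frobSpec : UniversallyInjective (frobSpec k p r) := by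
  refine ((tfae_universallyInjective (frobSpec k p r)).out 0 1 rfl rfl).2 ?_
  intro K hK g₁ g₂ h
  obtain ⟨a₁, rfl⟩ := Spec.map_surjective g₁
  obtain ⟨a₂, rfl⟩ := Spec.map_surjective g₂
  simp only [← Spec.map_comp] at h
  refine congrArg Spec.map (CommRingCat.hom_ext (RingHom.ext fun c => ?_))
  have h1 := RingHom.congr_fun (congrArg CommRingCat.Hom.hom (Spec.map_injective h)) c
  simp only [CommRingCat.hom_comp, CommRingCat.hom_ofHom, RingHom.comp_apply, iterateFrobenius_def, map_pow] at h1
  haveI : ExpChar K p := expChar_of_injective_ringHom a₁.hom.injective p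
  exact iterateFrobenius_inj K p r (by simpa only [iterateFrobenius_def] using h1)

theorem isHomeomorph_fst {X : Scheme.{u}} (π : X ⟶ Spec (CommRingCat.of k)) :
    IsHomeomorph (pullback.fst π (frobSpec k p r)) := by
  haveI := isIntegralHom_frobSpec (k := k) p r
  haveI := universallyInjective_frobSpec (k := k) p r
  haveI : Surjective (frobSpec k p r) := ⟨fun y => ⟨default, Subsingleton.elim _ _⟩⟩
  haveI : UniversallyInjective (pullback.fst π (frobSpec k p r)) := MorphismProperty.pullback_fst _ _ inferInstance
  exact isHomeomorph_iff_continuous_isClosedMap_bijective.2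
    ⟨(pullback.fst π (frobSpec k p r)).continuous, (pullback.fst π (frobSpec k p r)).isClosedMap,
      (pullback.fst π (frobSpec k p r)).injective, (pullback.fst π (frobSpec k p r)).surjective⟩

variable {X : Scheme.{u}} [X.Over (Spec (CommRingCat.of k))] [IsProper (X ↘ Spec (CommRingCat.of k))]
  [IsIntegral X] [Smooth (X ↘ Spec (CommRingCat.of k))] (hdim : topologicalKrullDim X = 1)

/-- The Frobenius twist. -/
abbrev twist (X : Scheme.{u}) [X.Over (Spec (CommRingCat.of k))] : Scheme.{u} :=
  pullback (X ↘ Spec (CommRingCat.of k)) (frobSpec k p r)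

instance : (twist (k := k) p r X).Over (Spec (CommRingCat.of k)) := ⟨pullback.snd _ _⟩

instance : IsProper (twist (k := k) p r X ↘ Spec (CommRingCat.of k)) :=
  inferInstanceAs (IsProper (pullback.snd _ _))

instance : Smooth (twist (k := k) p r X ↘ Spec (CommRingCat.of k)) :=
  inferInstanceAs (Smooth (pullback.snd _ _))

instance : IsIntegral (twist (k := k) p r X) := by
  haveI : IrreducibleSpace (twist (k := k) p r X) := by
    let h := ((isHomeomorph_fst p r (X ↘ Spec (CommRingCat.of k))).homeomorph _).symm
    have := (IrreducibleSpace.isIrreducible_univ X).image h h.continuous.continuousOn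
    rw [Set.image_univ, h.surjective.range_eq] at this
    exact { isPreirreducible_univ := this.2, toNonempty := ⟨h (genericPoint X)⟩ }
  haveI : IsReduced (twist (k := k) p r X) :=
    ASp.isReduced_of_smooth (twist (k := k) p r X ↘ Spec (CommRingCat.of k))
  exact isIntegral_of_irreducibleSpace_of_isReduced _

include hdim in
omit [IsProper (X ↘ Spec (CommRingCat.of k))] [IsIntegral X] [Smooth (X ↘ Spec (CommRingCat.of k))] in
theorem dim_twist : topologicalKrullDim (twist (k := k) p r X) = 1 :=
  (isHomeomorph_fst p r (X ↘ Spec (CommRingCat.of k))).topologicalKrullDim_eq.trans hdim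

/-- The function field of the twist is generated by the powers. -/
theorem exists_algEquiv_twist :
    Nonempty ((twist (k := k) p r X).functionField ≃ₐ[k] powField k X.functionField (p ^ r)) := by
  let K := X.functionField
  let M := powField k K (p ^ r)
  let X' := twist (k := k) p r X
  haveI : ExpChar K p := expChar_of_injective_algebraMap (algebraMap k K).injective p
  have hq : ∀ y : K, iterateFrobenius K p r y ∈ M := fun y =>
    IntermediateField.subset_adjoin _ _ ⟨y, (iterateFrobenius_def p r y).symm⟩
  let a : K →+* M := RingHom.codRestrict (iterateFrobenius K p r) M hq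
  have hcomm : (Spec.map (CommRingCat.ofHom a) ≫ X.fromSpecStalk (genericPoint X)) ≫ (X ↘ Spec (CommRingCat.of k)) =
      Spec.map (CommRingCat.ofHom (algebraMap k M)) ≫ frobSpec k p r := by
    rw [Category.assoc, fromSpecStalk_over, ← Spec.map_comp, frobSpec, ← Spec.map_comp, ← CommRingCat.ofHom_comp,
      ← CommRingCat.ofHom_comp]
    congr 2
    refine RingHom.ext fun c => Subtype.ext ?_
    show iterateFrobenius K p r (algebraMap k K c) = algebraMap k K (iterateFrobenius k p r c)
    rw [iterateFrobenius_def, iterateFrobenius_def, map_pow]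
  let φ : Spec (CommRingCat.of M) ⟶ X' := pullback.lift (f := X ↘ Spec (CommRingCat.of k)) (g := frobSpec k p r)
    (Spec.map (CommRingCat.ofHom a) ≫ X.fromSpecStalk (genericPoint X)) (Spec.map (CommRingCat.ofHom (algebraMap k M))) hcomm
  have hfst : φ ≫ pullback.fst _ _ = Spec.map (CommRingCat.ofHom a) ≫ X.fromSpecStalk (genericPoint X) :=
    pullback.lift_fst _ _ _
  have hsnd : φ ≫ (X' ↘ Spec (CommRingCat.of k)) = Spec.map (CommRingCat.ofHom (algebraMap k M)) :=
    pullback.lift_snd _ _ _
  have hbij := (isHomeomorph_fst p r (X ↘ Spec (CommRingCat.of k))).bijective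
  have hgen : pullback.fst (X ↘ Spec (CommRingCat.of k)) (frobSpec k p r) (genericPoint X') = genericPoint X :=
    (((genericPoint_spec X').image (pullback.fst (X ↘ Spec (CommRingCat.of k)) (frobSpec k p r)).continuous).eq
      (by rw [Set.image_univ, hbij.surjective.range_eq, closure_univ]; exact genericPoint_spec X))
  have hcl : φ (IsLocalRing.closedPoint M) = genericPoint X' := by
    refine hbij.injective (Eq.trans ?_ hgen.symm)
    show (φ ≫ pullback.fst (X ↘ Spec (CommRingCat.of k)) (frobSpec k p r)) (IsLocalRing.closedPoint M) = _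
    rw [hfst, Scheme.Hom.comp_apply, Subsingleton.elim ((Spec.map (CommRingCat.ofHom a)) _) (IsLocalRing.closedPoint K)]
    exact Scheme.fromSpecStalk_closedPoint
  let θ : X'.functionField ⟶ CommRingCat.of M :=
    X'.presheaf.stalkSpecializes (specializes_of_eq hcl) ≫ Scheme.stalkClosedPointTo φ
  have hφ : φ = Spec.map θ ≫ X'.fromSpecStalk (genericPoint X') := by
    rw [Spec.map_comp, Category.assoc, Scheme.SpecMap_stalkSpecializes_fromSpecStalk]
    exact (Scheme.Spec_stalkClosedPointTo_fromSpecStalk φ).symm
  have hθk : ∀ c, θ (algebraMap k X'.functionField c) = algebraMap k M c := by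
    rw [hφ, Category.assoc, fromSpecStalk_over, ← Spec.map_comp] at hsnd
    exact fun c => RingHom.congr_fun (congrArg CommRingCat.Hom.hom (Spec.map_injective hsnd)) c
  let w : X.functionField ⟶ X'.functionField :=
    X.presheaf.stalkSpecializes (specializes_of_eq hgen) ≫
      (pullback.fst (X ↘ Spec (CommRingCat.of k)) (frobSpec k p r)).stalkMap (genericPoint X')
  have hw : X'.fromSpecStalk (genericPoint X') ≫ pullback.fst (X ↘ Spec (CommRingCat.of k)) (frobSpec k p r) =
      Spec.map w ≫ X.fromSpecStalk (genericPoint X) := by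
    rw [Spec.map_comp, Category.assoc, Scheme.SpecMap_stalkSpecializes_fromSpecStalk,
      Scheme.SpecMap_stalkMap_fromSpecStalk]
  rw [hφ, Category.assoc, hw, ← Category.assoc, cancel_mono, ← Spec.map_comp] at hfst
  have hθq : ∀ y, θ (w y) = a y := fun y =>
    RingHom.congr_fun (congrArg CommRingCat.Hom.hom (Spec.map_injective hfst)) y
  let ψ : X'.functionField →ₐ[k] M := { θ.hom with commutes' := hθk }
  refine ⟨AlgEquiv.ofBijective ψ ⟨ψ.injective, fun m => ?_⟩⟩
  have hm : (m : K) ∈ (M.val.comp ψ).fieldRange := by
    refine IntermediateField.adjoin_le_iff.2 ?_ m.2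
    rintro _ ⟨y, rfl⟩
    exact ⟨w y, (congrArg Subtype.val (hθq y)).trans (iterateFrobenius_def p r y)⟩
  obtain ⟨z, hz⟩ := hm
  exact ⟨z, Subtype.ext hz⟩

include hdim in
/-- A purely inseparable cover of a smooth curve by a normal curve is a Frobenius twist. -/
theorem exists_twist_iso_of_purelyInseparable {Y : Scheme.{u}} [Y.Over (Spec (CommRingCat.of k))]
    [IsProper (Y ↘ Spec (CommRingCat.of k))] [IsIntegral Y] (hdY : topologicalKrullDim Y = 1)
    (hnY : Pi1.IsNormalScheme Y) (f : X ⟶ Y) [IsFinite f]
    (hf : f ≫ (Y ↘ Spec (CommRingCat.of k)) = X ↘ Spec (CommRingCat.of k)) (e : f (genericPoint X) = genericPoint Y)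
    (hpi : letI := ((Y.presheaf.stalkSpecializes (specializes_of_eq e) ≫ f.stalkMap (genericPoint X)).hom).toAlgebra
      IsPurelyInseparable Y.functionField X.functionField) :
    ∃ (r : ℕ) (i : Y ≅ twist (k := k) p r X),
      i.hom ≫ (twist (k := k) p r X ↘ Spec (CommRingCat.of k)) = Y ↘ Spec (CommRingCat.of k) := by
  haveI := EulerIneqLib.isNoetherian_proper (X := Y) k
  haveI := isRegCurve_of_normal hdY hnY
  haveI := GenEtale.surjective_of_generic f e
  letI := NormHomLib.ffAlg f
  haveI : IsPurelyInseparable Y.functionField X.functionField := hpi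
  haveI : FiniteDimensional Y.functionField X.functionField := NormHomLib.finite_functionField f
  have hcomm : (NormHomLib.ffMap f).hom.comp (Curv2.stalkMap k Y (genericPoint Y)) =
      Curv2.stalkMap k X (genericPoint X) := by
    have h1 := fromSpecStalk_over k (X := X) (genericPoint X)
    rw [← hf, ← Category.assoc, fromSpecStalk_ffMap, Category.assoc, fromSpecStalk_over k, ← Spec.map_comp] at h1
    exact congrArg CommRingCat.Hom.hom (Spec.map_injective h1)
  let ψ : Y.functionField →ₐ[k] X.functionField :=
    { (NormHomLib.ffMap f).hom with commutes' := fun c => RingHom.congr_fun hcomm c }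
  let L := ψ.fieldRange
  let eL : Y.functionField ≃ₐ[k] L := ψ.equivFieldRange
  have hec : RingHom.comp (algebraMap L X.functionField) eL.toRingEquiv.toRingHom =
      RingHom.comp (RingEquiv.refl X.functionField).toRingHom (algebraMap Y.functionField X.functionField) :=
    RingHom.ext fun a => rfl
  haveI : ExpChar Y.functionField p := expChar_of_injective_algebraMap (algebraMap k Y.functionField).injective p
  haveI : ExpChar L p := expChar_of_injective_algebraMap (algebraMap k L).injective p
  haveI : IsPurelyInseparable L X.functionField := (isPurelyInseparable_iff_pow_mem L p).2 fun z => by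
    obtain ⟨n, a, ha⟩ := IsPurelyInseparable.pow_mem Y.functionField p z
    exact ⟨n, eL a, ha⟩
  haveI : FiniteDimensional L X.functionField := Module.Finite.of_equiv_equiv eL.toRingEquiv (RingEquiv.refl _) hec
  obtain ⟨x, hx⟩ := exists_separating_of_smooth (k := k) (X := X) hdim p
  obtain ⟨r, hr⟩ := exists_eq_powField (k := k) p (L := L) hx
  obtain ⟨ε⟩ := exists_algEquiv_twist (k := k) (X := X) p r
  have hdim' := dim_twist (k := k) (X := X) p r hdim
  haveI := VBLib.isRegCurve_of_smooth (X := twist (k := k) p r X) k hdim'.le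
  obtain ⟨i, hi, -⟩ := exists_iso_of_algEquiv hdY hdim' (ε.trans ((IntermediateField.equivOfEq hr.symm).trans eL.symm))
  exact ⟨r, i, hi⟩

end Groth.Agent.CurveFF
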