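import Groth.Agent.CurveFF.MapPlaces
import Groth.Agent.CurveFF.FrobTwist
import Groth.Agent.CurveFF.BC
import Groth.Agent.CurveFF.CanSep
import Groth.Agent.CurveP1Lib.GeomP1
import Groth.Agent.FF.RiemannHurwitz
import Groth.Agent.FF.RatPlaces

/-!
# The genus does not go up along a finite map
-/

set_option autoImplicit false
set_option backward.isDefEq.respectTransparency false
set_option linter.style.haveILetI false
set_option maxHeartbeats 800000

universe u

open CategoryTheory Limits AlgebraicGeometry TopologicalSpace
open scoped IntermediateField LaurentSeries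

noncomputable section

namespace Groth.Agent.CurveFF

attribute [local instance] Curv2.stalkAlgebra
attribute [local instance high] FunFld.Place.algRes

/-- A separable extension of function fields over an algebraically closed field does not lower the genus. -/
theorem genus_le_of_separable {k L K : Type u} [Field k] [IsAlgClosed k] [Field L] [Field K] [Algebra k L]
    [Algebra k K] [Algebra L K] [IsScalarTower k L K] [FiniteDimensional L K] [Algebra.IsSeparable L K]
    (hL : FunFld.IsFunctionField k L) (hK : FunFld.IsFunctionField k K) :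
    FunFld.genus k L ≤ FunFld.genus k K := by
  classical
  rcases Nat.eq_zero_or_pos (FunFld.genus k L) with h | h
  · omega
  obtain ⟨φ, hφ⟩ := exists_expansions hL
  obtain ⟨ψ, hψ⟩ := exists_expansions hK
  have hgL := FF.isGeometric_algClosed hL
  have hgK := FF.isGeometric_algClosed hK
  haveI : ∀ P : FunFld.Place k L, FiniteDimensional k (IsLocalRing.ResidueField P.O) := fun P => FF.finite_residue hL P
  haveI : ∀ P : FunFld.Place k K, FiniteDimensional k (IsLocalRing.ResidueField P.O) := fun P => FF.finite_residue hK P
  choose below hbelow using fun Q : FunFld.Place k K => FF.exists_isOver (K := L) hL Q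
  have he : ∀ Q, FunFld.IsOverWith Q (below Q) (FunFld.ramIdx Q (below Q)) := fun Q => FF.isOverWith_ramIdx (hbelow Q)
  obtain ⟨x, hxtr, hxsep⟩ := FF.exists_separating hL hgL
  have hx : KaehlerDifferential.D k L x ≠ 0 := haveI := hxsep; FF.D_ne_zero_of_separating hxtr
  have hx' : KaehlerDifferential.D k K (algebraMap L K x) ≠ 0 := by
    haveI : Algebra.FormallyEtale L K := Algebra.FormallyEtale.of_isSeparable L K
    intro h0
    apply hx
    have h1 : (1 : K) ⊗ₜ[L] KaehlerDifferential.D k L x = 0 := by
      refine (KaehlerDifferential.tensorKaehlerEquivOfFormallyEtale k L K).injective ?_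
      rw [map_zero]
      simpa [KaehlerDifferential.map_D] using h0
    refine Module.FaithfullyFlat.tensorProduct_mk_injective (A := L) (B := K) _ ?_
    exact h1.trans (TensorProduct.tmul_zero _ _).symm
  have hxP : ∀ P, LocRes.vDiff (φ P) 1 x ≠ 0 := fun P => FF.vDiff_ne_zero (hφ P) hL hgL one_ne_zero hx
  have hxQ : ∀ Q, LocRes.vDiff (ψ Q) 1 (algebraMap L K x) ≠ 0 :=
    fun Q => FF.vDiff_ne_zero (hψ Q) hK hgK one_ne_zero hx'
  obtain ⟨hfin, hRH⟩ := FF.riemann_hurwitz (k' := k) hL hgL hK hφ hψ below _ he hxP hxQ
  rw [Module.finrank_self, Nat.cast_one, one_mul, one_mul] at hRH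
  have hnn : 0 ≤ ∑ᶠ Q, LocRes.diffExp (φ (below Q)) (ψ Q) (FunFld.ramIdx Q (below Q)) x * (Q.deg : ℤ) := by
    refine finsum_nonneg fun Q => mul_nonneg ?_ (Int.natCast_nonneg _)
    obtain ⟨t, ht⟩ := FF.exists_unif (below Q)
    have hd := FF.diffExp_eq_unif (hφ (below Q)) (hψ Q) (he Q) hL hgL ht (hxP _) (hxQ Q)
    have hint : Q.1 (algebraMap L K t) ≤ 1 := by
      rw [FF.le_one_iff_of_isOver (hbelow Q), ht, ← WithZero.exp_zero, WithZero.exp_le_exp]; norm_num
    have := (FF.Rat.vD_le_one_of_integral (hψ Q) hint)
    rw [hd, ← WithZero.exp_zero, WithZero.exp_le_exp] at this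
    omega
  have hn : 1 ≤ (Module.finrank L K : ℤ) := by exact_mod_cast (Module.finrank_pos : 0 < Module.finrank L K)
  have h2 : 0 ≤ 2 * (FunFld.genus k L : ℤ) - 2 := by omega
  nlinarith

/-- Genus of a Frobenius twist. -/
theorem genus_twist {k : Type u} [Field k] {X : Scheme.{u}} [X.Over (Spec (CommRingCat.of k))]
    [IsProper (X ↘ Spec (CommRingCat.of k))] (p : ℕ) [Fact p.Prime] [ExpChar k p] (r : ℕ) :
    Curv2.genus k (twist (k := k) p r X) = Curv2.genus k X := by
  let alg : Algebra k k := (iterateFrobenius k p r).toAlgebra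
  exact @genus_bc k _ X _ _ k _ alg

/-- Finite maps of smooth curves over an algebraically closed field do not raise the genus. -/
theorem genus_le_algClosed {k : Type u} [Field k] [IsAlgClosed k] {X Y : Scheme.{u}}
    [X.Over (Spec (CommRingCat.of k))] [IsProper (X ↘ Spec (CommRingCat.of k))] [IsIntegral X]
    [Smooth (X ↘ Spec (CommRingCat.of k))] (hX : topologicalKrullDim X = 1)
    [Y.Over (Spec (CommRingCat.of k))] [IsProper (Y ↘ Spec (CommRingCat.of k))] [IsIntegral Y]
    [Smooth (Y ↘ Spec (CommRingCat.of k))] (hY : topologicalKrullDim Y = 1)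
    (f : X ⟶ Y) [IsFinite f] (hf : f ≫ (Y ↘ Spec (CommRingCat.of k)) = X ↘ Spec (CommRingCat.of k))
    (e : f (genericPoint X) = genericPoint Y) : Curv2.genus k Y ≤ Curv2.genus k X := by
  haveI := VBLib.isRegCurve_of_smooth (X := X) k hX.le
  haveI := VBLib.isRegCurve_of_smooth (X := Y) k hY.le
  haveI := GenEtale.surjective_of_generic f e
  have h0X : Module.finrank k (Coh.HH X (Coh.structureModule X) 0) = 1 := CurveLib.finrank_H0_structure
  have h0Y : Module.finrank k (Coh.HH Y (Coh.structureModule Y) 0) = 1 := CurveLib.finrank_H0_structure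
  have hKX := isFunctionField k hX h0X
  have hKY := isFunctionField k hY h0Y
  rw [genus_eq hX h0X, genus_eq hY h0Y]
  letI := NormHomLib.ffAlg f
  haveI : FiniteDimensional Y.functionField X.functionField := NormHomLib.finite_functionField f
  have hcomm : (NormHomLib.ffMap f).hom.comp (Curv2.stalkMap k Y (genericPoint Y)) =
      Curv2.stalkMap k X (genericPoint X) := by
    have h1 := fromSpecStalk_over k (X := X) (genericPoint X)
    rw [← hf, ← Category.assoc, fromSpecStalk_ffMap, Category.assoc, fromSpecStalk_over k, ← Spec.map_comp] at h1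
    exact congrArg CommRingCat.Hom.hom (Spec.map_injective h1)
  haveI : IsScalarTower k Y.functionField X.functionField :=
    IsScalarTower.of_algebraMap_eq fun c => (RingHom.congr_fun hcomm c).symm
  by_cases hsep : Algebra.IsSeparable Y.functionField X.functionField
  · haveI := hsep
    exact genus_le_of_separable hKY hKX
  obtain ⟨p, hp, hchar⟩ : ∃ p : ℕ, p.Prime ∧ CharP k p := by
    obtain _ | ⟨p, hp, hpk⟩ := CharP.exists' k
    · haveI : CharZero Y.functionField := charZero_of_injective_algebraMap (algebraMap k Y.functionField).injective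
      exact absurd (inferInstance : Algebra.IsSeparable Y.functionField X.functionField) hsep
    · exact ⟨p, hp.out, hpk⟩
  haveI := hchar
  haveI : Fact p.Prime := ⟨hp⟩
  haveI : ExpChar k p := ExpChar.prime hp
  let S := separableClosure Y.functionField X.functionField
  let Sk : IntermediateField k X.functionField := S.restrictScalars k
  haveI : FiniteDimensional Sk X.functionField := inferInstanceAs (FiniteDimensional S X.functionField)
  haveI : IsPurelyInseparable Sk X.functionField := inferInstanceAs (IsPurelyInseparable S X.functionField)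
  obtain ⟨x, hx⟩ := exists_separating_of_smooth (k := k) (X := X) hX p
  obtain ⟨r, hr⟩ := exists_eq_powField (k := k) p (L := Sk) hx
  obtain ⟨ε⟩ := exists_algEquiv_twist (k := k) (X := X) p r
  have hdT := dim_twist (k := k) (X := X) p r hX
  haveI := VBLib.isRegCurve_of_smooth (X := twist (k := k) p r X) k hdT.le
  have h0T : Module.finrank k (Coh.HH (twist (k := k) p r X) (Coh.structureModule (twist (k := k) p r X)) 0) = 1 :=
    CurveLib.finrank_H0_structure
  rw [← genus_eq hX h0X, ← genus_twist (k := k) (X := X) p r, genus_eq hdT h0T]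
  let E : Sk ≃ₐ[k] (twist (k := k) p r X).functionField := (IntermediateField.equivOfEq hr).trans ε.symm
  let g : Y.functionField →+* (twist (k := k) p r X).functionField :=
    E.toRingEquiv.toRingHom.comp (algebraMap Y.functionField S)
  letI : Algebra Y.functionField (twist (k := k) p r X).functionField := g.toAlgebra
  haveI : IsScalarTower k Y.functionField (twist (k := k) p r X).functionField :=
    IsScalarTower.of_algebraMap_eq fun c => ((E.commutes c).symm.trans (congrArg E (Subtype.ext
      (IsScalarTower.algebraMap_apply k Y.functionField X.functionField c))))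
  let ES : S ≃ₐ[Y.functionField] (twist (k := k) p r X).functionField :=
    AlgEquiv.ofRingEquiv (f := (E.toRingEquiv : S ≃+* (twist (k := k) p r X).functionField)) fun _ => rfl
  haveI : FiniteDimensional Y.functionField (twist (k := k) p r X).functionField := Module.Finite.equiv ES.toLinearEquiv
  haveI : Algebra.IsSeparable Y.functionField (twist (k := k) p r X).functionField :=
    Algebra.IsSeparable.of_algHom Y.functionField S ES.symm.toAlgHom
  exact genus_le_of_separable hKY (isFunctionField k hdT h0T)

/-- A finite map of curves sends the generic point to the generic point. -/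
theorem map_generic_of_finite {k : Type u} [Field k] {X Y : Scheme.{u}}
    [X.Over (Spec (CommRingCat.of k))] [IsProper (X ↘ Spec (CommRingCat.of k))] [IsIntegral X]
    (hX : topologicalKrullDim X = 1)
    [Y.Over (Spec (CommRingCat.of k))] [IsProper (Y ↘ Spec (CommRingCat.of k))] [IsIntegral Y]
    (hY : topologicalKrullDim Y = 1) (f : X ⟶ Y) [IsFinite f] : f (genericPoint X) = genericPoint Y := by
  haveI := EulerIneqLib.isNoetherian_proper (X := X) k
  refine eq_generic_of_not_closed k (X := Y) hY fun hcl => ?_
  have hr : f ⁻¹' {f (genericPoint X)} = Set.univ := Set.eq_univ_of_forall fun z => by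
    exact hcl.closure_eq.le (((genericPoint_spec X).specializes (y := z) trivial).map f.continuous).mem_closure
  have hfin : (Set.univ : Set X).Finite := hr ▸ IsFinite.finite_preimage_singleton f (f (genericPoint X))
  haveI : Finite X := Set.finite_univ_iff.1 hfin
  haveI : JacobsonSpace X := LocallyOfFiniteType.jacobsonSpace (X ↘ Spec (CommRingCat.of k))
  haveI : DiscreteTopology X := inferInstance
  have := topologicalKrullDim_zero_of_discreteTopology X
  rw [hX] at this
  exact absurd this (by norm_num)

theorem genus_le_of_finite {k : Type u} [Field k] {X Y : Scheme.{u}}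
    [X.Over (Spec (CommRingCat.of k))] [IsProper (X ↘ Spec (CommRingCat.of k))]
    [Smooth (X ↘ Spec (CommRingCat.of k))] [GeometricallyConnected (X ↘ Spec (CommRingCat.of k))]
    [Y.Over (Spec (CommRingCat.of k))] [IsProper (Y ↘ Spec (CommRingCat.of k))]
    [Smooth (Y ↘ Spec (CommRingCat.of k))] [GeometricallyConnected (Y ↘ Spec (CommRingCat.of k))]
    (hX : topologicalKrullDim X = 1) (hY : topologicalKrullDim Y = 1)
    (f : X ⟶ Y) [IsFinite f] (hf : f ≫ (Y ↘ Spec (CommRingCat.of k)) = X ↘ Spec (CommRingCat.of k)) :
    Curv2.genus k Y ≤ Curv2.genus k X := by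
  let K := AlgebraicClosure k
  rw [← genus_bc k X K, ← genus_bc k Y K]
  let fK : Curv2.bc k X K ⟶ Curv2.bc k Y K :=
    pullback.map (X ↘ Spec (CommRingCat.of k)) (Spec.map (CommRingCat.ofHom (algebraMap k K)))
      (Y ↘ Spec (CommRingCat.of k)) (Spec.map (CommRingCat.ofHom (algebraMap k K))) f (𝟙 _) (𝟙 _)
      (by simp [hf]) (by simp)
  have h1 : IsPullback (Curv2.bcFst k X K) fK f (Curv2.bcFst k Y K) := by
    refine IsPullback.of_bot ?_ (pullback.lift_fst _ _ _).symm (IsPullback.of_hasPullback _ _)
    have hsnd : fK ≫ pullback.snd (Y ↘ Spec (CommRingCat.of k)) (Spec.map (CommRingCat.ofHom (algebraMap k K))) =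
        Curv2.bcSnd k X K := (pullback.lift_snd _ _ _).trans (Category.comp_id _)
    rw [hsnd, hf]
    exact IsPullback.of_hasPullback _ _
  haveI : IsFinite fK := MorphismProperty.of_isPullback (P := @IsFinite) h1 inferInstance
  haveI : Smooth (Curv2.bc k X K ↘ Spec (CommRingCat.of K)) := CurveP1Lib.smooth_bc k K
  haveI : Smooth (Curv2.bc k Y K ↘ Spec (CommRingCat.of K)) := CurveP1Lib.smooth_bc k K
  haveI : ConnectedSpace ↥(Curv2.bc k X K) :=
    GeometricallyConnected.geometrically_connectedSpace _ _ _ (IsPullback.of_hasPullback _ _)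
  haveI : ConnectedSpace ↥(Curv2.bc k Y K) :=
    GeometricallyConnected.geometrically_connectedSpace _ _ _ (IsPullback.of_hasPullback _ _)
  haveI := EulerIneqLib.isNoetherian_proper (X := Curv2.bc k X K) K
  haveI := EulerIneqLib.isNoetherian_proper (X := Curv2.bc k Y K) K
  haveI : IsIntegral (Curv2.bc k X K) := CurveLib.isIntegral_of_smooth K
  haveI : IsIntegral (Curv2.bc k Y K) := CurveLib.isIntegral_of_smooth K
  have hdX := (dim_bc k X K).trans hX
  have hdY := (dim_bc k Y K).trans hY
  exact genus_le_algClosed hdX hdY fK (pullback.lift_snd _ _ _ |>.trans (Category.comp_id _))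
    (map_generic_of_finite (k := K) hdX hdY fK)

end Groth.Agent.CurveFF
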