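import Groth.Agent.CurveFF.Genus
import Groth.Agent.FF.Schmidt

/-!
# Invertible modules and divisor classes
-/

set_option autoImplicit false
set_option backward.isDefEq.respectTransparency false
set_option maxHeartbeats 800000
set_option linter.style.haveILetI false

universe u

open CategoryTheory CategoryTheory.Limits AlgebraicGeometry TopologicalSpace Opposite IsLocalRing
open Groth.Agent.PullbackMod Groth.Agent.DCohLib
open scoped WithZero

noncomputable section

namespace Groth.Agent.CurveFF

attribute [local instance] Curv2.stalkAlgebra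
attribute [local instance high] FunFld.Place.algRes

theorem nonempty_iso_of_cl_eq {Y : Scheme.{u}} {L M : Y.Modules} (h : PicF.cl L = PicF.cl M) : Nonempty (L ≅ M) := by
  replace h := Quot.eqvGen_exact h
  induction h with
  | rel _ _ h => exact h
  | refl _ => exact ⟨Iso.refl _⟩
  | symm _ _ _ ih => exact ih.map Iso.symm
  | trans _ _ _ _ _ i1 i2 => exact ⟨i1.some ≪≫ i2.some⟩

variable {k : Type u} [Field k] {X : Scheme.{u}} [X.Over (Spec (CommRingCat.of k))]
  [IsProper (X ↘ Spec (CommRingCat.of k))] [IsIntegral X] [VBLib.IsRegCurve X]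
  (hdim : topologicalKrullDim X = 1)
  (h0 : Module.finrank k (Coh.HH X (Coh.structureModule X) 0) = 1)
include hdim h0

/-- Changing the rational section changes the divisor by a principal divisor. -/
theorem isDiv_smul {L : X.Modules} {e : L.presheaf.stalk (genericPoint X)} (he : IsBase L e)
    {D : FunFld.Divisor k X.functionField} (hD : IsDiv k hdim L e D) {a : X.functionField} (ha : a ≠ 0) :
    IsBase L ((a : X.presheaf.stalk (genericPoint X)) • e) ∧
      IsDiv k hdim L ((a : X.presheaf.stalk (genericPoint X)) • e) (D + FunFld.div k a) := by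
  have hK := isFunctionField k hdim h0
  refine ⟨?_, fun x hx f => ?_⟩
  · have h := Function.Bijective.comp he (mulRight_bijective₀ (a : X.presheaf.stalk (genericPoint X)) ha)
    simpa [IsBase, Function.comp_def, smul_smul] using h
  · set P := placeOf k hdim x hx
    have hdef : InStalk L ((a : X.presheaf.stalk (genericPoint X)) • e) x f ↔ InStalk L e x (f * a) := by
      unfold InStalk
      rw [smul_smul]
    have hPa : P.1 a = WithZero.exp (-(P.ord a)) := (FF.ord_eq_iff P ha).1 rfl
    rw [hdef, hD x hx]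
    show P.1 (f * a) ≤ WithZero.exp (D P) ↔ P.1 f ≤ WithZero.exp ((D + FunFld.div k a) P)
    rw [Finsupp.coe_add, Pi.add_apply, FF.div_apply hK, map_mul, hPa]
    rcases eq_or_ne f 0 with rfl | hf
    · simp
    rw [(FF.ord_eq_iff P hf).1 rfl, ← WithZero.exp_add, WithZero.exp_le_exp, WithZero.exp_le_exp]
    omega

/-- An inverse of `L` has the opposite divisor. -/
theorem exists_isDiv_inverse {L N : X.Modules} (hL : PicF.IsInvertible L) (hN : PicF.IsInvertible N)
    (φ : CohB1.tensorMod L N ≅ Coh.structureModule X) {e : L.presheaf.stalk (genericPoint X)} (he : IsBase L e)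
    {D : FunFld.Divisor k X.functionField} (hD : IsDiv k hdim L e D) :
    ∃ e', IsBase N e' ∧ IsDiv k hdim N e' (-D) := by
  have hK := isFunctionField k hdim h0
  obtain ⟨e', he'⟩ := exists_base hN
  obtain ⟨E, hE⟩ := exists_isDiv hdim h0 hN he'
  obtain ⟨hb, hT⟩ := isDiv_of_iso k hdim φ (isBase_tensor he he') (isDiv_tensor hdim hL hN he he' hD hE)
  have ho : IsBase (Coh.structureModule X) (ParaFLib.oneG (genericPoint X)) := ParaFLib.bijective_oneG _
  obtain ⟨a, ha⟩ := ho.2 (stalkLin φ.hom (genericPoint X) (tensorBase e e'))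
  have ha0 : (a : X.functionField) ≠ 0 := by
    rintro rfl
    have h2 : (1 : X.presheaf.stalk (genericPoint X)) = 0 := hb.1 (by
      show _ • _ = _ • _
      rw [← ha]
      show (1 : X.presheaf.stalk (genericPoint X)) • ((0 : X.presheaf.stalk (genericPoint X)) • _) =
        (0 : X.presheaf.stalk (genericPoint X)) • ((0 : X.presheaf.stalk (genericPoint X)) • _)
      rw [zero_smul, smul_zero, smul_zero])
    exact one_ne_zero h2
  have h1 := (isDiv_smul hdim h0 ho (isDiv_structure hdim) (a := a) ha0).2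
  rw [show ((a : X.presheaf.stalk (genericPoint X)) • ParaFLib.oneG (genericPoint X)) =
    stalkLin φ.hom (genericPoint X) (tensorBase e e') from ha] at h1
  have h2 := isDiv_unique hdim hT h1
  rw [zero_add] at h2
  obtain ⟨h3, h4⟩ := isDiv_smul hdim h0 he' hE (a := (a : X.functionField)⁻¹) (inv_ne_zero ha0)
  refine ⟨_, h3, ?_⟩
  rwa [FF.div_inv hK, show E + -FunFld.div k (a : X.functionField) = -D by rw [← h2]; abel] at h4

/-- Every divisor is the divisor of a rational section of an invertible module. -/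
theorem exists_module (D : FunFld.Divisor k X.functionField) :
    ∃ (L : X.Modules) (e : L.presheaf.stalk (genericPoint X)), PicF.IsInvertible L ∧ IsBase L e ∧ IsDiv k hdim L e D := by
  let S : AddSubgroup (FunFld.Divisor k X.functionField) :=
    { carrier := {D | ∃ (L : X.Modules) (e : L.presheaf.stalk (genericPoint X)),
        PicF.IsInvertible L ∧ IsBase L e ∧ IsDiv k hdim L e D}
      zero_mem' := ⟨_, _, ParaFLib.isInvertible_structureModule, ParaFLib.bijective_oneG _, isDiv_structure hdim⟩
      add_mem' := by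
        rintro D E ⟨L, e, hL, he, hD⟩ ⟨M, e', hM, he', hE⟩
        exact ⟨_, _, AmpleLib.isInvertible_tensor hL hM, isBase_tensor he he', isDiv_tensor hdim hL hM he he' hD hE⟩
      neg_mem' := by
        rintro D ⟨L, e, hL, he, hD⟩
        obtain ⟨N, hN, ⟨φ⟩⟩ := AmpleEmb.exists_isInverseOf hL
        obtain ⟨e', he', hD'⟩ := exists_isDiv_inverse hdim h0 hL hN φ he hD
        exact ⟨N, e', hN, he', hD'⟩ }
  have h1 : ∀ P : FunFld.Place k X.functionField, Finsupp.single P (1 : ℤ) ∈ S := fun P => by
    obtain ⟨x, hx, rfl⟩ := placeOf_surjective hdim P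
    obtain ⟨P', -, e, hP', -, -, he, hD⟩ := exists_pointModule k hdim hx
    exact neg_mem_iff.1 (show -Finsupp.single (placeOf k hdim x hx) (1 : ℤ) ∈ S from ⟨P', e, hP', he, hD⟩)
  suffices h : D ∈ S from h
  induction D using Finsupp.induction_linear with
  | zero => exact S.zero_mem
  | add _ _ ha hb => exact S.add_mem ha hb
  | single P n =>
    rw [show Finsupp.single P n = n • Finsupp.single P (1 : ℤ) by simp]
    exact S.zsmul_mem (h1 P) n

/-- Isomorphic modules have linearly equivalent divisors. -/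
theorem sub_mem_prinDivs_of_iso {L M : X.Modules} (φ : L ≅ M) {e : L.presheaf.stalk (genericPoint X)}
    (he : IsBase L e) {D : FunFld.Divisor k X.functionField} (hD : IsDiv k hdim L e D)
    {e' : M.presheaf.stalk (genericPoint X)} (he' : IsBase M e') {E : FunFld.Divisor k X.functionField}
    (hE : IsDiv k hdim M e' E) : D - E ∈ FunFld.prinDivs k X.functionField := by
  have hK := isFunctionField k hdim h0
  obtain ⟨hb, hT⟩ := isDiv_of_iso k hdim φ he hD
  obtain ⟨a, ha⟩ := he'.2 (stalkLin φ.hom (genericPoint X) e)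
  have ha0 : (a : X.functionField) ≠ 0 := by
    rintro rfl
    have h2 : (1 : X.presheaf.stalk (genericPoint X)) = 0 := hb.1 (by
      show _ • _ = _ • _
      rw [← ha]
      show (1 : X.presheaf.stalk (genericPoint X)) • ((0 : X.presheaf.stalk (genericPoint X)) • _) =
        (0 : X.presheaf.stalk (genericPoint X)) • ((0 : X.presheaf.stalk (genericPoint X)) • _)
      rw [zero_smul, smul_zero, smul_zero])
    exact one_ne_zero h2
  have h1 := (isDiv_smul hdim h0 he' hE (a := a) ha0).2
  rw [show ((a : X.presheaf.stalk (genericPoint X)) • e') = stalkLin φ.hom (genericPoint X) e from ha] at h1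
  rw [isDiv_unique hdim hT h1, add_sub_cancel_left]
  exact (FF.mem_prinDivs_iff hK).2 ⟨a, ha0, rfl⟩

/-- Invertible modules with linearly equivalent divisors are isomorphic. -/
theorem nonempty_iso_of_sub_mem_prinDivs {L M : X.Modules} (hL : PicF.IsInvertible L) (hM : PicF.IsInvertible M)
    {e : L.presheaf.stalk (genericPoint X)} (he : IsBase L e) {D : FunFld.Divisor k X.functionField}
    (hD : IsDiv k hdim L e D) {e' : M.presheaf.stalk (genericPoint X)} (he' : IsBase M e')
    {E : FunFld.Divisor k X.functionField} (hE : IsDiv k hdim M e' E)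
    (h : E - D ∈ FunFld.prinDivs k X.functionField) : Nonempty (L ≅ M) := by
  have hK := isFunctionField k hdim h0
  obtain ⟨N, hN, ⟨φ⟩⟩ := AmpleEmb.exists_isInverseOf hL
  obtain ⟨eN, heN, hDN⟩ := exists_isDiv_inverse hdim h0 hL hN φ he hD
  have hT := AmpleLib.isInvertible_tensor hM hN
  have hb := isBase_tensor he' heN
  have hDT := isDiv_tensor hdim hM hN he' heN hE hDN
  rw [← sub_eq_add_neg] at hDT
  have hh0 : Module.finrank k (Coh.HH X (CohB1.tensorMod M N) 0) = 1 := by
    rw [finrank_H0_eq_ell hdim hT hb hDT, FF.ell_congr hK (D := E - D) (E := 0) (by rw [zero_sub]; exact neg_mem h),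
      FF.ell_zero hK]
  haveI : Nontrivial (Coh.HH X (CohB1.tensorMod M N) 0) := Module.nontrivial_of_finrank_eq_succ hh0
  obtain ⟨s, hs⟩ := CurveLib.exists_hom_ne_zero (CohB1.tensorMod M N)
  haveI : IsIso s := (CurveLib.deg_le_of_ne_zero (k := k) hdim.le ParaFLib.isInvertible_structureModule hT hs).2 (by
    rw [CurveLib.deg_structureModule, (genus_and_deg hdim h0 hT hb hDT).2, FF.deg_eq_zero_of_mem_prinDivs hK h])
  exact ⟨((AmpleLib.unitR L).symm ≪≫ AmpleLib.tIso (Iso.refl L) (asIso s) ≪≫
    AmpleLib.comm L _ ≪≫ AmpleLib.assoc M N L ≪≫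
    AmpleLib.tIso (Iso.refl M) (AmpleLib.comm N L ≪≫ φ) ≪≫ AmpleLib.unitR M)⟩

/-- The class of a module with given divisor. -/
def clDiv (D : FunFld.Divisor k X.functionField) : PicF.Cl X := PicF.cl (exists_module hdim h0 D).choose

/-- Line bundles of degree `m` are parametrised by the divisor classes of degree zero. -/
theorem nonempty_picDeg_equiv {D₁ : FunFld.Divisor k X.functionField} (h₁ : D₁.deg = 1) (m : ℤ) :
    Nonempty (FF.Cl0 k X.functionField ≃ {c : PicF.Cl X // ∃ L : X.Modules, PicF.cl L = c ∧ PicF.IsInvertible L ∧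
      Curv2.deg k X L 1 = m}) := by
  have hK := isFunctionField k hdim h0
  have hspec := fun D => (exists_module hdim h0 D).choose_spec
  have hdeg : ∀ c : FF.Cl0 k X.functionField, (FF.rep c + m • D₁).deg = m := fun c => by
    rw [FF.deg_add, FF.deg_rep c, FF.deg_smul, h₁, mul_one, zero_add]
  refine ⟨Equiv.ofBijective (fun c => ⟨clDiv hdim h0 (FF.rep c + m • D₁), ?_⟩) ⟨?_, ?_⟩⟩
  · obtain ⟨e, hi, he, hD⟩ := hspec (FF.rep c + m • D₁)
    exact ⟨_, rfl, hi, by rw [(genus_and_deg hdim h0 hi he hD).2, hdeg]⟩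
  · intro c c' h
    obtain ⟨e, hi, he, hD⟩ := hspec (FF.rep c + m • D₁)
    obtain ⟨e', hi', he', hD'⟩ := hspec (FF.rep c' + m • D₁)
    have h' : PicF.cl (exists_module hdim h0 (FF.rep c + m • D₁)).choose =
        PicF.cl (exists_module hdim h0 (FF.rep c' + m • D₁)).choose := congrArg Subtype.val h
    obtain ⟨φ⟩ := nonempty_iso_of_cl_eq h'
    have hsub := sub_mem_prinDivs_of_iso hdim h0 φ he hD he' hD'
    rw [add_sub_add_right_eq_sub] at hsub
    exact (QuotientAddGroup.out_eq' c).symm.trans ((FF.rep_eq_iff c' _).2 hsub)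
  · rintro ⟨_, L, rfl, hL, hd⟩
    obtain ⟨e, he⟩ := exists_base hL
    obtain ⟨D, hD⟩ := exists_isDiv hdim h0 hL he
    have hDdeg : D.deg = m := by rw [← (genus_and_deg hdim h0 hL he hD).2, hd]
    have hker : D - m • D₁ ∈ (FunFld.degHom k X.functionField).ker := by
      rw [AddMonoidHom.mem_ker, FF.degHom_apply, FF.deg_sub, FF.deg_smul, h₁, hDdeg, mul_one, sub_self]
    refine ⟨QuotientAddGroup.mk ⟨_, hker⟩, Subtype.ext (Quot.sound ?_)⟩
    obtain ⟨e', hi', he', hD'⟩ := hspec (FF.rep (QuotientAddGroup.mk ⟨_, hker⟩) + m • D₁)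
    refine nonempty_iso_of_sub_mem_prinDivs hdim h0 hi' hL he' hD' he hD ?_
    have := (FF.rep_eq_iff (QuotientAddGroup.mk ⟨_, hker⟩) ⟨_, hker⟩).1 rfl
    rw [sub_sub, add_comm] at this
    exact this

/-- All `Pic^m` have the class number as cardinality. -/
theorem picDeg_card [Finite k] (m : ℤ) :
    Finite {c : PicF.Cl X // ∃ L : X.Modules, PicF.cl L = c ∧ PicF.IsInvertible L ∧ Curv2.deg k X L 1 = m} ∧
    Nonempty {c : PicF.Cl X // ∃ L : X.Modules, PicF.cl L = c ∧ PicF.IsInvertible L ∧ Curv2.deg k X L 1 = m} ∧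
    Nat.card {c : PicF.Cl X // ∃ L : X.Modules, PicF.cl L = c ∧ PicF.IsInvertible L ∧ Curv2.deg k X L 1 = m} =
      FunFld.classNum k X.functionField := by
  have hK := isFunctionField k hdim h0
  haveI := FF.finite_Cl0 hK
  obtain ⟨D₁, h₁⟩ := FF.exists_deg_eq_one hK
  obtain ⟨e⟩ := nonempty_picDeg_equiv hdim h0 h₁ m
  exact ⟨Finite.of_equiv _ e, Nonempty.map e inferInstance, (Nat.card_congr e).symm.trans rfl⟩

end Groth.Agent.CurveFF
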