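import Groth.Agent.CurveFF.Pic
import Groth.Agent.CurveFF.Duality

/-!
# The ideal sheaf of a closed point as a module with divisor
-/

set_option autoImplicit false
set_option backward.isDefEq.respectTransparency false
set_option maxHeartbeats 1600000
set_option linter.style.haveILetI false

universe u

open CategoryTheory CategoryTheory.Limits AlgebraicGeometry TopologicalSpace Opposite IsLocalRing
open Groth.Agent.PullbackMod Groth.Agent.DCohLib
open scoped WithZero TensorProduct

noncomputable section

namespace Groth.Agent.CurveFF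

attribute [local instance] Curv2.stalkAlgebra

variable {k : Type u} [Field k] {X : Scheme.{u}} [X.Over (Spec (CommRingCat.of k))]
  [IsProper (X ↘ Spec (CommRingCat.of k))] [IsIntegral X] [VBLib.IsRegCurve X]
  (hdim : topologicalKrullDim X = 1)
include hdim


variable (k) in
include k in
/-- The ideal of a closed point is invertible, with divisor minus the point. -/
theorem isDiv_pointIdeal {x : X} (hx : IsClosed ({x} : Set X)) :
    PicF.IsInvertible (ClSub.idealMod (Scheme.IdealSheafData.vanishingIdeal (⟨{x}, hx⟩ : Closeds X))) ∧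
      ∃ e, IsBase (ClSub.idealMod (Scheme.IdealSheafData.vanishingIdeal (⟨{x}, hx⟩ : Closeds X))) e ∧
        IsDiv k hdim (ClSub.idealMod (Scheme.IdealSheafData.vanishingIdeal (⟨{x}, hx⟩ : Closeds X))) e
          (-Finsupp.single (placeOf k hdim x hx) 1) := by
  classical
  haveI := EulerIneqLib.isNoetherian_proper (X := X) k
  let J := Scheme.IdealSheafData.vanishingIdeal (⟨{x}, hx⟩ : Closeds X)
  let η := genericPoint X
  let i := ClSub.idealModι J
  haveI hmono : Mono i := by show Mono (ClSub.idealModι J); unfold ClSub.idealModι; infer_instance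
  have hinj : ∀ y, Function.Injective (stalkLin i y) := fun y => (mono_iff_stalk _).1 inferInstance y
  obtain ⟨hJx, hJy⟩ := stalkIdeal_point hx
  have hxη : x ≠ η := ne_generic hdim hx
  have himg : ∀ (y : X) (r : X.presheaf.stalk y),
      (∃ n, stalkLin i y n = r • ParaFLib.oneG y) ↔ r ∈ IntMult.stalkIdeal J y :=
    fun y r => HilbObsLib.mem_range_idealModι J y r
  have hbij : Function.Bijective (stalkLin i η) := by
    refine ⟨hinj η, fun z => ?_⟩
    obtain ⟨r, rfl⟩ := (ParaFLib.bijective_oneG η).2 z
    exact (himg η r).2 (by rw [hJy η (Ne.symm hxη)]; trivial)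
  have hP : PicF.IsInvertible (ClSub.idealMod J) := by
    have hK := RefOne.isCoh_idealMod J
    have hKf := VBLib.rank_of_mono i hK (CurveLib.isFinLocFreeOfRank_one (ParaFLib.isInvertible_structureModule (X := X)))
    have h1 : VBLib.grk (ClSub.idealMod J) = 1 := by
      rw [VBLib.grk, (LinearEquiv.ofBijective (stalkLin i η) hbij).finrank_eq]
      exact (LinearEquiv.ofBijective (LinearMap.toSpanSingleton (X.presheaf.stalk η) _ (ParaFLib.oneG η))
        (ParaFLib.bijective_oneG η)).finrank_eq.symm.trans (Module.finrank_self _)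
    rw [h1] at hKf
    exact VBLib.isInvertible_of_rank hKf
  let E := Equiv.ofBijective _ hbij
  let e := E.symm (ParaFLib.oneG η)
  have he1 : stalkLin i η e = ParaFLib.oneG η := E.apply_symm_apply _
  have heB : IsBase (ClSub.idealMod J) e := by
    refine (Function.Bijective.of_comp_iff' hbij _).1 ?_
    show Function.Bijective fun r : X.presheaf.stalk η => stalkLin i η (r • e)
    simp only [map_smul, he1]
    exact ParaFLib.bijective_oneG η
  have hspec : ∀ y n, stalkLin i η (spec (ClSub.idealMod J) y n) = spec (Coh.structureModule X) y (stalkLin i y n) := by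
    intro y n
    obtain ⟨U, hU, m, rfl⟩ := TopCat.Presheaf.exists_germ_eq (ClSub.idealMod J).presheaf n
    rw [spec_germ _ hU (generic_mem hU), stalkLin_germ, stalkLin_germ, spec_germ _ hU (generic_mem hU)]
  have hin : ∀ (y : X) (f : X.functionField), InStalk (ClSub.idealMod J) e y f ↔
      ∃ r ∈ IntMult.stalkIdeal J y, algebraMap (X.presheaf.stalk y) X.functionField r = f := by
    intro y f
    constructor
    · rintro ⟨n, hn⟩
      have h1 := congrArg (stalkLin i η) hn
      rw [hspec, map_smul, he1] at h1
      obtain ⟨r, hr⟩ := (ParaFLib.bijective_oneG y).2 (stalkLin i y n)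
      refine ⟨r, (himg y r).1 ⟨n, hr.symm⟩, (ParaFLib.bijective_oneG η).1 ?_⟩
      show _ • ParaFLib.oneG η = _ • ParaFLib.oneG η
      rw [← h1, ← hr, spec_smul, ParaFLib.oneG, ParaFLib.oneG, spec_germ _ (U := ⊤) trivial trivial]
    · rintro ⟨r, hr, rfl⟩
      obtain ⟨n, hn⟩ := (himg y r).2 hr
      refine ⟨n, hbij.1 ?_⟩
      rw [hspec, hn, spec_smul, map_smul, he1, ParaFLib.oneG, ParaFLib.oneG, spec_germ _ (U := ⊤) trivial trivial]
  refine ⟨hP, e, heB, fun y hy f => ?_⟩
  rw [hin, Finsupp.neg_apply]
  rcases eq_or_ne y x with rfl | hne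
  · haveI := isDVR k hdim hy
    rw [Finsupp.single_eq_same, hJx]
    constructor
    · rintro ⟨r, hr, rfl⟩
      have h1 := (IsDedekindDomain.HeightOneSpectrum.valuation_lt_one_iff_mem (K := X.functionField)
        (IsDiscreteValuationRing.maximalIdeal (X.presheaf.stalk y)) r).2 hr
      rcases eq_or_ne (algebraMap (X.presheaf.stalk y) X.functionField r) 0 with h0 | h0
      · rw [h0, map_zero]; exact zero_le'
      · have h2 : (placeOf k hdim y hy).1 (algebraMap (X.presheaf.stalk y) X.functionField r) < WithZero.exp 0 := by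
          rw [WithZero.exp_zero]; exact h1
        rw [FF.v_eq_exp _ h0, WithZero.exp_lt_exp] at h2
        rw [FF.v_eq_exp _ h0, WithZero.exp_le_exp]
        omega
    · intro hf
      have h1 : (placeOf k hdim y hy).1 f ≤ 1 := hf.trans (by rw [← WithZero.exp_zero, WithZero.exp_le_exp]; norm_num)
      obtain ⟨r, rfl⟩ := (placeOf_le_one_iff hdim hy f).1 h1
      refine ⟨r, (IsDedekindDomain.HeightOneSpectrum.valuation_lt_one_iff_mem (K := X.functionField)
        (IsDiscreteValuationRing.maximalIdeal (X.presheaf.stalk y)) r).1 (lt_of_le_of_lt hf ?_), rfl⟩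
      rw [← WithZero.exp_zero, WithZero.exp_lt_exp]
      norm_num
  · have hne' : placeOf k hdim x hx ≠ placeOf k hdim y hy := fun h => hne (placeOf_injective hdim hy hx h.symm)
    rw [Finsupp.single_eq_of_ne' hne', hJy y hne, neg_zero, WithZero.exp_zero, placeOf_le_one_iff]
    exact ⟨fun ⟨r, _, h⟩ => ⟨r, h⟩, fun ⟨r, h⟩ => ⟨r, trivial, h⟩⟩

end Groth.Agent.CurveFF
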