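import Groth.Agent.CurveFF.Sections
import Groth.Agent.CurveFF.Point2
import Groth.Agent.CurveFF.PointIdeal
import Groth.Agent.FF.AlgClosed
import Groth.Agent.RelVALib.Curve

/-!
# Very ampleness and global generation on a curve through dimensions of sections
-/

set_option autoImplicit false
set_option backward.isDefEq.respectTransparency false
set_option backward.isDefEq.respectTransparency.types false
set_option linter.style.haveILetI false
set_option maxHeartbeats 1000000

universe u

open CategoryTheory CategoryTheory.Limits AlgebraicGeometry TopologicalSpace Opposite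
open Groth.Agent.PullbackMod Groth.Agent.DCohLib Groth.Agent.ParaFLib Groth.Agent.AmpleLib Groth.Agent.RelVALib
open scoped WithZero

noncomputable section

namespace Groth.Agent.CurveFF.VeryAmple

open Groth.Agent.CurveFF

attribute [local instance] Curv2.stalkAlgebra
attribute [local instance high] FunFld.Place.algRes

variable {k : Type u} [Field k] {X : Scheme.{u}} [X.Over (Spec (CommRingCat.of k))]
  [IsProper (X ↘ Spec (CommRingCat.of k))] [IsIntegral X] [VBLib.IsRegCurve X]
  (hdim : topologicalKrullDim X = 1)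
include hdim

/-- Powers of the maximal ideal of a closed point are cut out by the place. -/
theorem val_le_exp_iff {x : X} (hx : IsClosed ({x} : Set X)) (w : X.presheaf.stalk x) (n : ℕ) :
    (placeOf k hdim x hx).1 (algebraMap (X.presheaf.stalk x) X.functionField w) ≤ WithZero.exp (-(n : ℤ)) ↔
      w ∈ IsLocalRing.maximalIdeal (X.presheaf.stalk x) ^ n := by
  haveI := isDVR k hdim hx
  show (IsDiscreteValuationRing.maximalIdeal (X.presheaf.stalk x)).valuation X.functionField _ ≤ _ ↔ _
  rw [IsDedekindDomain.HeightOneSpectrum.valuation_of_algebraMap,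
    IsDedekindDomain.HeightOneSpectrum.intValuation_le_pow_iff_mem]
  rfl

variable [IsAlgClosed k] {L : X.Modules} (hL : PicF.IsInvertible L) {e : L.presheaf.stalk (genericPoint X)}
  (he : IsBase L e) {D : FunFld.Divisor k X.functionField} (hD : IsDiv k hdim L e D)
include hL he hD

/-- The order of vanishing of a section is that of its coordinate. -/
theorem germ_mem_pow_iff {x : X} (hx : IsClosed ({x} : Set X)) (σ : Γ(L, ⊤)) {f : X.functionField}
    (hσ : L.presheaf.germ ⊤ (genericPoint X) trivial σ = (f : X.presheaf.stalk (genericPoint X)) • e) (n : ℕ) :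
    L.presheaf.germ ⊤ x trivial σ ∈ IsLocalRing.maximalIdeal (X.presheaf.stalk x) ^ n •
        (⊤ : Submodule (X.presheaf.stalk x) (L.presheaf.stalk x)) ↔
      (placeOf k hdim x hx).1 f ≤ WithZero.exp (D (placeOf k hdim x hx) - n) := by
  obtain ⟨g, hg⟩ := exists_stalk_gen hL x
  obtain ⟨w, hw⟩ := hg.2 (L.presheaf.germ ⊤ x trivial σ)
  change w • g = _ at hw
  obtain ⟨G, hG, hvG⟩ := exists_coord_of_gen hdim hL he hD hx hg
  have h := congrArg (spec L x) hw
  rw [spec_germ L (U := ⊤) trivial trivial, hσ, spec_smul, hG, smul_smul] at h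
  have hf : algebraMap (X.presheaf.stalk x) X.functionField w * (G : X.functionField) = f := he.1 h
  rw [← hw, smul_sum_mem hg, ← val_le_exp_iff (k := k) hdim hx, ← hf, map_mul, hvG, sub_eq_neg_add, WithZero.exp_add,
    mul_le_mul_iff_left₀ WithZero.exp_pos]

omit [IsAlgClosed k] in
theorem exists_coord (σ : Γ(L, ⊤)) : ∃ f ∈ FunFld.L D,
    L.presheaf.germ ⊤ (genericPoint X) trivial σ = (f : X.presheaf.stalk (genericPoint X)) • e := by
  obtain ⟨f, hf⟩ := he.2 (L.presheaf.germ ⊤ (genericPoint X) trivial σ)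
  refine ⟨f, fun P => ?_, hf.symm⟩
  obtain ⟨x, hx, rfl⟩ := placeOf_surjective hdim P
  exact (hD x hx f).1 ⟨L.presheaf.germ ⊤ x trivial σ, (spec_germ L (U := ⊤) trivial trivial σ).trans hf.symm⟩

omit [IsAlgClosed k] in
theorem exists_sec {f : X.functionField} (hf : f ∈ FunFld.L D) : ∃ σ : Γ(L, ⊤),
    L.presheaf.germ ⊤ (genericPoint X) trivial σ = (f : X.presheaf.stalk (genericPoint X)) • e := by
  refine exists_section hL (e := e) f fun z => ?_
  by_cases hz : IsClosed ({z} : Set X)
  · exact (hD z hz f).2 (hf _)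
  · obtain rfl := eq_generic_of_not_closed k hdim hz
    refine ⟨(f : X.presheaf.stalk (genericPoint X)) • e, ?_⟩
    exact congr($(TopCat.Presheaf.stalkSpecializes_refl L.presheaf (genericPoint X)) _)

omit hL he hD in
theorem ell_le_succ (D : FunFld.Divisor k X.functionField) (P : FunFld.Place k X.functionField) :
    FunFld.ell D ≤ FunFld.ell (D - Finsupp.single P 1) + 1 := by
  have hK := isFunctionField k hdim (h0_eq_one k hdim)
  have h := FF.ell_sub_le hK (sub_le_self D (Finsupp.single_nonneg.2 zero_le_one) : D - Finsupp.single P 1 ≤ D)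
  rw [FF.deg_sub, FF.deg_single_ac hK] at h
  omega

/-- A section vanishing at one point but not to the next order at another. -/
theorem ell_drop_of_section {x y : X} (hx : IsClosed ({x} : Set X)) (hy : IsClosed ({y} : Set X)) {σ : Γ(L, ⊤)}
    (h1 : L.presheaf.germ ⊤ x trivial σ ∈ IsLocalRing.maximalIdeal (X.presheaf.stalk x) •
      (⊤ : Submodule (X.presheaf.stalk x) (L.presheaf.stalk x)))
    (h2 : y ≠ x → L.presheaf.germ ⊤ y trivial σ ∉ IsLocalRing.maximalIdeal (X.presheaf.stalk y) •
      (⊤ : Submodule (X.presheaf.stalk y) (L.presheaf.stalk y)))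
    (h3 : y = x → L.presheaf.germ ⊤ x trivial σ ∉ IsLocalRing.maximalIdeal (X.presheaf.stalk x) ^ 2 •
      (⊤ : Submodule (X.presheaf.stalk x) (L.presheaf.stalk x))) :
    FunFld.ell (D - Finsupp.single (placeOf k hdim x hx) 1 - Finsupp.single (placeOf k hdim y hy) 1) <
      FunFld.ell (D - Finsupp.single (placeOf k hdim x hx) 1) := by
  classical
  have hK := isFunctionField k hdim (h0_eq_one k hdim)
  obtain ⟨f, hfD, hf⟩ := exists_coord hdim hL he hD σ
  set P := placeOf k hdim x hx
  set Q := placeOf k hdim y hy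
  have hxP : P.1 f ≤ WithZero.exp (D P - 1) := by
    have := (germ_mem_pow_iff hdim hL he hD hx σ hf 1).1 (by rwa [pow_one])
    exact_mod_cast this
  have hmem : f ∈ FunFld.L (D - Finsupp.single P 1) := fun R => by
    rcases eq_or_ne R P with rfl | hR
    · rwa [Finsupp.sub_apply, Finsupp.single_eq_same]
    · rw [Finsupp.sub_apply, Finsupp.single_eq_of_ne hR, sub_zero]; exact hfD R
  have hnot : f ∉ FunFld.L (D - Finsupp.single P 1 - Finsupp.single Q 1) := fun hf' => by
    have hQ := hf' Q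
    rcases eq_or_ne y x with hyx | hyx
    · subst hyx
      refine h3 rfl ((germ_mem_pow_iff hdim hL he hD hx σ hf 2).2 ?_)
      refine le_trans hQ (WithZero.exp_le_exp.2 (le_of_eq ?_))
      simp only [Finsupp.sub_apply, P, Q, Finsupp.single_eq_same]
      push_cast
      ring
    · refine h2 hyx ?_
      have hQP : Q ≠ P := fun h => hyx (placeOf_injective hdim hy hx h)
      rw [Finsupp.sub_apply, Finsupp.sub_apply, Finsupp.single_eq_of_ne hQP, sub_zero, Finsupp.single_eq_same] at hQ
      have := (germ_mem_pow_iff hdim hL he hD hy σ hf 1).2 (by exact_mod_cast hQ)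
      rwa [pow_one] at this
  haveI := FF.finite_L hK (D - Finsupp.single P 1)
  exact Submodule.finrank_lt_finrank_of_lt (lt_of_le_of_ne
    (FF.L_mono (sub_le_self _ (Finsupp.single_nonneg.2 zero_le_one))) fun h => hnot (h ▸ hmem))

/-- Numerical drops give separating sections. -/
theorem exists_sep {x y : X} (hx : IsClosed ({x} : Set X)) (hy : IsClosed ({y} : Set X))
    (h : FunFld.ell (D - Finsupp.single (placeOf k hdim x hx) 1 - Finsupp.single (placeOf k hdim y hy) 1) <
      FunFld.ell (D - Finsupp.single (placeOf k hdim x hx) 1)) :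
    ∃ σ : Γ(L, ⊤),
      L.presheaf.germ ⊤ x trivial σ ∈ IsLocalRing.maximalIdeal (X.presheaf.stalk x) •
        (⊤ : Submodule (X.presheaf.stalk x) (L.presheaf.stalk x)) ∧
      (y ≠ x → L.presheaf.germ ⊤ y trivial σ ∉ IsLocalRing.maximalIdeal (X.presheaf.stalk y) •
        (⊤ : Submodule (X.presheaf.stalk y) (L.presheaf.stalk y))) ∧
      (y = x → L.presheaf.germ ⊤ x trivial σ ∉ IsLocalRing.maximalIdeal (X.presheaf.stalk x) ^ 2 •
        (⊤ : Submodule (X.presheaf.stalk x) (L.presheaf.stalk x))) := by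
  classical
  set P := placeOf k hdim x hx
  set Q := placeOf k hdim y hy
  obtain ⟨f, hfP, hfQ⟩ : ∃ f, f ∈ FunFld.L (D - Finsupp.single P 1) ∧
      f ∉ FunFld.L (D - Finsupp.single P 1 - Finsupp.single Q 1) := by
    by_contra hne
    push Not at hne
    haveI := FF.finite_L (isFunctionField k hdim (h0_eq_one k hdim)) (D - Finsupp.single P 1 - Finsupp.single Q 1)
    exact h.not_ge (Submodule.finrank_mono hne)
  have hfD : f ∈ FunFld.L D := FF.L_mono (sub_le_self _ (Finsupp.single_nonneg.2 zero_le_one)) hfP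
  obtain ⟨σ, hσ⟩ := exists_sec hdim hL he hD hfD
  refine ⟨σ, ?_, fun hyx hv => hfQ fun R => ?_, fun hyx hv => hfQ fun R => ?_⟩
  · have h1 := hfP P
    rw [Finsupp.sub_apply, Finsupp.single_eq_same] at h1
    have := (germ_mem_pow_iff hdim hL he hD hx σ hσ 1).2 (by exact_mod_cast h1)
    rwa [pow_one] at this
  · rcases eq_or_ne R Q with rfl | hR
    · have := (germ_mem_pow_iff hdim hL he hD hy σ hσ 1).1 (by rwa [pow_one])
      have hQP : Q ≠ P := fun h => hyx (placeOf_injective hdim hy hx h)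
      rw [Finsupp.sub_apply, Finsupp.sub_apply, Finsupp.single_eq_of_ne hQP, sub_zero, Finsupp.single_eq_same]
      exact_mod_cast this
    · rw [Finsupp.sub_apply, Finsupp.single_eq_of_ne hR, sub_zero]; exact hfP R
  · subst hyx
    rcases eq_or_ne R P with rfl | hR
    · have := (germ_mem_pow_iff hdim hL he hD hx σ hσ 2).1 hv
      refine le_trans this (WithZero.exp_le_exp.2 (le_of_eq ?_))
      simp only [Finsupp.sub_apply, P, Q, Finsupp.single_eq_same]
      push_cast
      ring
    · rw [Finsupp.sub_apply, show Q = P from rfl, Finsupp.single_eq_of_ne hR, sub_zero]; exact hfP R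

/-- A section not vanishing at a point. -/
theorem ell_lt_of_section {x : X} (hx : IsClosed ({x} : Set X)) {σ : Γ(L, ⊤)}
    (h : L.presheaf.germ ⊤ x trivial σ ∉ IsLocalRing.maximalIdeal (X.presheaf.stalk x) •
      (⊤ : Submodule (X.presheaf.stalk x) (L.presheaf.stalk x))) :
    FunFld.ell (D - Finsupp.single (placeOf k hdim x hx) 1) < FunFld.ell D := by
  classical
  obtain ⟨f, hfD, hf⟩ := exists_coord hdim hL he hD σ
  haveI := FF.finite_L (isFunctionField k hdim (h0_eq_one k hdim)) D
  refine Submodule.finrank_lt_finrank_of_lt (lt_of_le_of_ne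
    (FF.L_mono (sub_le_self _ (Finsupp.single_nonneg.2 zero_le_one))) fun heq => h ?_)
  have hmem : f ∈ FunFld.L (D - Finsupp.single (placeOf k hdim x hx) 1) := by rw [heq]; exact hfD
  have h1 := hmem (placeOf k hdim x hx)
  rw [Finsupp.sub_apply, Finsupp.single_eq_same] at h1
  have := (germ_mem_pow_iff hdim hL he hD hx σ hf 1).2 (by exact_mod_cast h1)
  rwa [pow_one] at this

omit [IsAlgClosed k] in
/-- Sections of the twist by the ideal of a point. -/
theorem finrank_point {x : X} (hx : IsClosed ({x} : Set X)) :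
    Module.finrank k (Coh.HH X (CohB1.tensorMod L
      (ClSub.idealMod (Scheme.IdealSheafData.vanishingIdeal (⟨{x}, hx⟩ : Closeds X)))) 0) =
      FunFld.ell (D - Finsupp.single (placeOf k hdim x hx) 1) := by
  obtain ⟨hI, e', he', hE⟩ := isDiv_pointIdeal k hdim hx
  rw [finrank_H0_eq_ell hdim (AmpleLib.isInvertible_tensor hL hI) (isBase_tensor he he')
    (isDiv_tensor hdim hL hI he he' hD hE), ← sub_eq_add_neg]

omit [IsAlgClosed k] in
/-- Sections of the twist by the ideals of two points. -/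
theorem finrank_two_points {x y : X} (hx : IsClosed ({x} : Set X)) (hy : IsClosed ({y} : Set X)) :
    Module.finrank k (Coh.HH X (CohB1.tensorMod L (CohB1.tensorMod
      (ClSub.idealMod (Scheme.IdealSheafData.vanishingIdeal (⟨{x}, hx⟩ : Closeds X)))
      (ClSub.idealMod (Scheme.IdealSheafData.vanishingIdeal (⟨{y}, hy⟩ : Closeds X))))) 0) =
      FunFld.ell (D - Finsupp.single (placeOf k hdim x hx) 1 - Finsupp.single (placeOf k hdim y hy) 1) := by
  obtain ⟨hI, e', he', hE⟩ := isDiv_pointIdeal k hdim hx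
  obtain ⟨hJ, e'', he'', hF⟩ := isDiv_pointIdeal k hdim hy
  rw [finrank_H0_eq_ell hdim (AmpleLib.isInvertible_tensor hL (AmpleLib.isInvertible_tensor hI hJ))
    (isBase_tensor he (isBase_tensor he' he''))
    (isDiv_tensor hdim hL (AmpleLib.isInvertible_tensor hI hJ) he (isBase_tensor he' he'') hD
      (isDiv_tensor hdim hI hJ he' he'' hE hF))]
  congr 1
  abel

omit he hD in
/-- Globally generated modules have sections not vanishing at each point. -/
theorem exists_nonvanishing (hg : Curv2.IsGloballyGenerated L) (x : X) : ∃ σ : Γ(L, ⊤),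
    L.presheaf.germ ⊤ x trivial σ ∉ IsLocalRing.maximalIdeal (X.presheaf.stalk x) •
      (⊤ : Submodule (X.presheaf.stalk x) (L.presheaf.stalk x)) := by
  obtain ⟨τ, hτ⟩ := AmpleLib.exists_genLocus_of_isGloballyGenerated hL hg x
  refine ⟨sec τ, fun hmem => ?_⟩
  rw [mem_genLocus_iff hL] at hτ
  have h := (smul_sum_mem (m := IsLocalRing.maximalIdeal (X.presheaf.stalk x)) hτ 1).1
    (by rwa [one_smul])
  exact h isUnit_one

omit he hD in
/-- Separating sections give an embedding by the sections. -/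
theorem exists_embedding_of_sep (hg : Curv2.IsGloballyGenerated L) (hne : 0 < Module.finrank k (Coh.HH X L 0))
    (hsep : ∀ (x y : X), IsClosed ({x} : Set X) → IsClosed ({y} : Set X) → ∃ σ : Γ(L, ⊤),
      L.presheaf.germ ⊤ x trivial σ ∈ IsLocalRing.maximalIdeal (X.presheaf.stalk x) •
        (⊤ : Submodule (X.presheaf.stalk x) (L.presheaf.stalk x)) ∧
      (y ≠ x → L.presheaf.germ ⊤ y trivial σ ∉ IsLocalRing.maximalIdeal (X.presheaf.stalk y) •
        (⊤ : Submodule (X.presheaf.stalk y) (L.presheaf.stalk y))) ∧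
      (y = x → L.presheaf.germ ⊤ x trivial σ ∉ IsLocalRing.maximalIdeal (X.presheaf.stalk x) ^ 2 •
        (⊤ : Submodule (X.presheaf.stalk x) (L.presheaf.stalk x)))) :
    ∃ (n : ℕ) (i : X ⟶ CohB1.ProjSpace n k), IsClosedImmersion i ∧
      i ≫ CohB1.ProjSpace.toSpec n k = X ↘ Spec (CommRingCat.of k) ∧
      Nonempty ((Scheme.Modules.pullback i).obj (Twist.twistProjSpace n k 1) ≅ L) := by
  classical
  set pX := X ↘ Spec (CommRingCat.of k) with hpX
  haveI := EulerIneqLib.isNoetherian_proper (X := X) k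
  haveI := EulerIneqLib.finite_HH (k := k) (CurveLib.isCoh_of_isInvertible hL) 0
  obtain ⟨n, hn⟩ := Nat.exists_eq_succ_of_ne_zero hne.ne'
  let b := Module.finBasisOfFinrankEq k (Coh.HH X L 0) hn
  let s : Fin (n + 1) → (Coh.structureModule X ⟶ L) := fun a => secHom L (CurveLib.secOf L (b a))
  have hspan : ∀ σ : Γ(L, ⊤), ∃ c : Fin (n + 1) → k, σ = lin pX s c := fun σ => by
    refine ⟨fun a => b.repr ((CurveLib.secOf L).symm σ) a, ?_⟩
    conv_lhs => rw [← (CurveLib.secOf L).apply_symm_apply σ, ← b.sum_repr ((CurveLib.secOf L).symm σ), map_sum]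
    refine Finset.sum_congr rfl fun a _ => ?_
    rw [sec_secHom]
    exact CurveLib.secOf_smul (k := k) L _ _
  have hcov : ∀ x, ∃ a, x ∈ CohB1.genLocus L (s a) := by
    intro x
    obtain ⟨σ, hσ⟩ := exists_nonvanishing hdim hL hg x
    by_contra hno
    push Not at hno
    obtain ⟨c, rfl⟩ := hspan σ
    refine hσ ?_
    rw [lin, map_sum]
    refine Submodule.sum_mem _ fun a _ => ?_
    rw [germ_smul']
    refine Submodule.smul_mem _ _ ?_
    obtain ⟨g, hg'⟩ := exists_stalk_gen hL x
    obtain ⟨r, hr⟩ := hg'.2 (L.presheaf.germ ⊤ x trivial (sec (s a)))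
    change r • g = _ at hr
    rw [← hr, smul_sum_mem hg']
    intro hu
    refine hno a ?_
    rw [mem_genLocus_iff hL, ← hr, bijective_smul_iff hg']
    exact hu
  obtain ⟨F, hFU, hFg, hFt⟩ := GenMorph.exists_ratioFamily hL s hcov
  let φ : k →+* Γ(X, ⊤) := ProjUP.toGlobal pX
  let f := GenMorph.toProj φ F
  have hf : f ≫ CohB1.ProjSpace.toSpec n k = pX := GenMorph.toProj_toSpec φ F pX rfl
  have hD' : ∀ j P, f P ∈ ClImmLib.D (k := k) j ↔ P ∈ F.U j := fun j P => by
    rw [← GenMorph.preimage_basicOpen φ F j]; rfl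
  have hcomb : ∀ (c : Fin (n + 1) → k) (j : Fin (n + 1)) (P : X) (hP : f P ∈ ClImmLib.D (k := k) j),
      ∃ w : X.presheaf.stalk P, (ClImmLib.LF f).presheaf.germ ⊤ P trivial (ClImmLib.comb pX f c) = w • ClImmLib.gen f j P hP ∧
        L.presheaf.germ ⊤ P trivial (lin pX s c) = w • L.presheaf.germ ⊤ P trivial (sec (s j)) := by
    intro c j P hP
    refine ⟨_, ClImmLib.germ_comb hf c j P hP, (germ_lin pX s c j (F.t j) (hFt j) P ((hD' j P).1 hP)).trans ?_⟩
    rw [map_sum]
    congr 1
    refine Finset.sum_congr rfl fun a _ => ?_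
    rw [map_mul]
    congr 1
    · rw [ClImmLib.cst, RingHom.comp_apply, Scheme.Hom.germ_stalkMap_apply]
      show X.presheaf.germ ⊤ P trivial (ProjUP.toGlobal pX (c a)) =
        X.presheaf.germ ⊤ P trivial (f.appTop (ProjUP.toGlobal (CohB1.ProjSpace.toSpec n k) (c a)))
      congr 1
      rw [← hf]
      rfl
    · rw [ClImmLib.ρ, Scheme.Hom.germ_stalkMap_apply, Scheme.Hom.app_eq_appLE]
      have h := congrArg (X.presheaf.germ (F.U j) P ((hD' j P).1 hP)) (GenMorph.toProj_appLE_ratio φ F j a)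
      refine h.symm.trans ?_
      rw [Scheme.Hom.appLE, Scheme.Hom.appLE, ConcreteCategory.comp_apply, ConcreteCategory.comp_apply,
        TopCat.Presheaf.germ_res_apply, TopCat.Presheaf.germ_res_apply]
      rfl
  have hgenj : ∀ j P, P ∈ F.U j →
      Function.Bijective fun r : X.presheaf.stalk P => r • L.presheaf.germ ⊤ P trivial (sec (s j)) :=
    fun j P h => (mem_genLocus_iff hL).1 ((hFU j).le h)
  haveI : IsClosedImmersion f := by
    refine ClImmLib.isClosedImmersion_of_sep hf (fun P Q hP hQ hPQ => ?_) fun P hP => ?_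
    · obtain ⟨σ, h1, h2, -⟩ := hsep P Q hP hQ
      obtain ⟨c, rfl⟩ := hspan σ
      refine ⟨c, Or.inl ⟨?_, fun hv => h2 (Ne.symm hPQ) ?_⟩⟩
      · obtain ⟨j, hj⟩ := ClImmLib.exists_mem_D (f P)
        obtain ⟨w, hw1, hw2⟩ := hcomb c j P hj
        rw [hw2, smul_sum_mem (hgenj j P ((hD' j P).1 hj))] at h1
        rwa [hw1, ClImmLib.vanish, smul_sum_mem (ClImmLib.bijective_gen f j P hj)]
      · obtain ⟨j, hj⟩ := ClImmLib.exists_mem_D (f Q)
        obtain ⟨w, hw1, hw2⟩ := hcomb c j Q hj
        rw [hw1, ClImmLib.vanish, smul_sum_mem (ClImmLib.bijective_gen f j Q hj)] at hv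
        rwa [hw2, smul_sum_mem (hgenj j Q ((hD' j Q).1 hj))]
    · obtain ⟨σ, h1, -, h3⟩ := hsep P P hP hP
      obtain ⟨c, rfl⟩ := hspan σ
      obtain ⟨j, hj⟩ := ClImmLib.exists_mem_D (f P)
      obtain ⟨w, hw1, hw2⟩ := hcomb c j P hj
      rw [hw2, smul_sum_mem (hgenj j P ((hD' j P).1 hj))] at h1
      have hw2' := h3 rfl
      rw [hw2, smul_sum_mem (hgenj j P ((hD' j P).1 hj))] at hw2'
      haveI := CurveFF.isDVR k hdim hP
      have hspanw : IsLocalRing.maximalIdeal (X.presheaf.stalk P) ≤ Ideal.span {w} := by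
        obtain ⟨ϖ, hϖ⟩ := IsDiscreteValuationRing.exists_irreducible (X.presheaf.stalk P)
        rw [hϖ.maximalIdeal_eq] at h1 ⊢
        obtain ⟨b, rfl⟩ := Ideal.mem_span_singleton.1 h1
        have hb : IsUnit b := by
          by_contra hb
          refine hw2' ?_
          rw [pow_two, hϖ.maximalIdeal_eq]
          exact Ideal.mul_mem_mul (Ideal.mem_span_singleton_self ϖ)
            (by rw [← hϖ.maximalIdeal_eq]; exact hb)
        rw [Ideal.span_singleton_mul_right_unit hb]
      refine le_trans (Submodule.smul_le.2 fun r hr v _ => ?_) le_sup_left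
      obtain ⟨b, rfl⟩ := Ideal.mem_span_singleton.1 (hspanw hr)
      obtain ⟨q, rfl⟩ := (ClImmLib.bijective_gen f j P hj).2 v
      rw [smul_smul, mul_assoc, mul_comm, ← smul_smul, ← hw1]
      refine Submodule.smul_mem _ _ (Submodule.subset_span ⟨c, rfl, ?_⟩)
      rw [hw1, ClImmLib.vanish, smul_sum_mem (ClImmLib.bijective_gen f j P hj)]
      exact h1
  obtain ⟨θ⟩ := GenMorph.nonempty_iso_pullback_twistOne φ F s
    (fun i => AmpleEmb.gen_resT_of_mem hL _ (hFU i).symm) hFt
  exact ⟨n, f, inferInstance, hf, ⟨θ.symm⟩⟩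

omit he hD in
/-- An embedding by sections separates points and tangent vectors. -/
theorem sep_of_embedding {n : ℕ} (i : X ⟶ CohB1.ProjSpace n k) [IsClosedImmersion i]
    (hi : i ≫ CohB1.ProjSpace.toSpec n k = X ↘ Spec (CommRingCat.of k))
    (θ : (Scheme.Modules.pullback i).obj (Twist.twistProjSpace n k 1) ≅ L) :
    (∀ x : X, ∃ σ : Γ(L, ⊤), L.presheaf.germ ⊤ x trivial σ ∉ IsLocalRing.maximalIdeal (X.presheaf.stalk x) •
      (⊤ : Submodule (X.presheaf.stalk x) (L.presheaf.stalk x))) ∧
    ∀ (x y : X), IsClosed ({x} : Set X) → IsClosed ({y} : Set X) → ∃ σ : Γ(L, ⊤),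
      L.presheaf.germ ⊤ x trivial σ ∈ IsLocalRing.maximalIdeal (X.presheaf.stalk x) •
        (⊤ : Submodule (X.presheaf.stalk x) (L.presheaf.stalk x)) ∧
      (y ≠ x → L.presheaf.germ ⊤ y trivial σ ∉ IsLocalRing.maximalIdeal (X.presheaf.stalk y) •
        (⊤ : Submodule (X.presheaf.stalk y) (L.presheaf.stalk y))) ∧
      (y = x → L.presheaf.germ ⊤ x trivial σ ∉ IsLocalRing.maximalIdeal (X.presheaf.stalk x) ^ 2 •
        (⊤ : Submodule (X.presheaf.stalk x) (L.presheaf.stalk x))) := by
  classical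
  set pX := X ↘ Spec (CommRingCat.of k)
  have htr : ∀ (x : X) (I : Ideal (X.presheaf.stalk x)) (t : Γ(ClImmLib.LF i, ⊤)),
      L.presheaf.germ ⊤ x trivial (θ.hom.app ⊤ t) ∈ I • (⊤ : Submodule (X.presheaf.stalk x) (L.presheaf.stalk x)) ↔
        (ClImmLib.LF i).presheaf.germ ⊤ x trivial t ∈ I •
          (⊤ : Submodule (X.presheaf.stalk x) ((ClImmLib.LF i).presheaf.stalk x)) := fun x I t => by
    have hb : Function.Bijective (stalkLin θ.hom x) := (isIso_iff_stalk θ.hom).1 inferInstance x
    rw [← stalkLin_germ θ.hom,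
      ← LinearMap.range_eq_top.2 hb.2, LinearMap.range_eq_map, ← Submodule.map_smul'']
    exact ⟨fun ⟨z, hz, h⟩ => hb.1 h ▸ hz, fun h => Submodule.mem_map_of_mem h⟩
  refine ⟨fun x => ?_, fun x y hx hy => ?_⟩
  · obtain ⟨j, hj⟩ := ClImmLib.exists_mem_D (i x)
    refine ⟨θ.hom.app ⊤ (ClImmLib.comb pX i (Pi.single j 1)), fun h => ?_⟩
    have h2 := (ClImmLib.mem_vanish_iff hi (Pi.single j 1) j x hj).1 ((htr x _ _).1 h)
    refine h2 ?_
    rw [Finset.sum_eq_single j (fun a _ ha => by rw [Pi.single_eq_of_ne ha, map_zero, zero_mul])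
      (fun h => absurd (Finset.mem_univ j) h), Pi.single_eq_same, map_one, ClImmLib.ρ_self, one_mul]
    exact isUnit_one
  rcases eq_or_ne y x with rfl | hyx
  · haveI := CurveFF.isDVR k hdim hy
    obtain ⟨j, hj⟩ := ClImmLib.exists_mem_D (i y)
    have hg := ClImmLib.bijective_gen i j y hj
    obtain ⟨v, ⟨c, rfl, hc⟩, hv⟩ : ∃ v, (∃ c : Fin (n + 1) → k,
        v = (ClImmLib.LF i).presheaf.germ ⊤ y trivial (ClImmLib.comb pX i c) ∧ v ∈ ClImmLib.vanish i y) ∧
        v ∉ IsLocalRing.maximalIdeal (X.presheaf.stalk y) ^ 2 •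
          (⊤ : Submodule (X.presheaf.stalk y) ((ClImmLib.LF i).presheaf.stalk y)) := by
      by_contra hno
      push Not at hno
      have hle := (ClImmLib.sepTan_of_closedImmersion hi y hy).trans
        (sup_le (Submodule.span_le.2 fun v hv => hno v hv) le_rfl)
      obtain ⟨ϖ, hϖ⟩ := IsDiscreteValuationRing.exists_irreducible (X.presheaf.stalk y)
      have h1 := hle (Submodule.smul_mem_smul (show ϖ ∈ IsLocalRing.maximalIdeal _ from hϖ.not_isUnit)
        (Submodule.mem_top (x := ClImmLib.gen i j y hj)))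
      rw [smul_sum_mem hg, pow_two, hϖ.maximalIdeal_eq, Ideal.span_singleton_mul_span_singleton,
        Ideal.mem_span_singleton] at h1
      obtain ⟨q, hq⟩ := h1
      exact hϖ.not_isUnit (IsUnit.of_mul_eq_one q (mul_left_cancel₀ hϖ.ne_zero (by rw [mul_one, ← mul_assoc]; exact hq.symm)))
    exact ⟨θ.hom.app ⊤ (ClImmLib.comb pX i c), (htr _ _ _).2 hc, fun h => absurd rfl h,
      fun _ h => hv ((htr _ _ _).1 h)⟩
  · obtain ⟨c, hc1, hc2⟩ := ClImmLib.sepPts_of_closedImmersion hi x y hx hy (Ne.symm hyx)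
    exact ⟨θ.hom.app ⊤ (ClImmLib.comb pX i c), (htr _ _ _).2 hc1, fun _ h => hc2 ((htr _ _ _).1 h),
      fun h => absurd h hyx⟩

/-- The criterion for global generation. -/
theorem globallyGenerated_iff :
    Curv2.IsGloballyGenerated L ↔ ∀ (P : X) (hP : IsClosed ({P} : Set X)),
      FunFld.ell (D - Finsupp.single (placeOf k hdim P hP) 1) + 1 = FunFld.ell D := by
  refine ⟨fun hg P hP => ?_, fun h => isGloballyGenerated_of_ell hdim (h0_eq_one k hdim) hL he hD fun P => ?_⟩
  · obtain ⟨σ, hσ⟩ := exists_nonvanishing hdim hL hg P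
    have h1 := ell_lt_of_section hdim hL he hD hP hσ
    have h2 := ell_le_succ hdim D (placeOf k hdim P hP)
    omega
  · obtain ⟨x, hx, rfl⟩ := placeOf_surjective hdim P
    have := h x hx
    omega

/-- The criterion for very ampleness. -/
theorem veryAmple_iff :
    (∃ (n : ℕ) (i : X ⟶ CohB1.ProjSpace n k), IsClosedImmersion i ∧
      i ≫ CohB1.ProjSpace.toSpec n k = X ↘ Spec (CommRingCat.of k) ∧
      Nonempty ((Scheme.Modules.pullback i).obj (Twist.twistProjSpace n k 1) ≅ L)) ↔
    ∀ (P Q : X) (hP : IsClosed ({P} : Set X)) (hQ : IsClosed ({Q} : Set X)),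
      FunFld.ell (D - Finsupp.single (placeOf k hdim P hP) 1 - Finsupp.single (placeOf k hdim Q hQ) 1) + 2 =
        FunFld.ell D := by
  constructor
  · rintro ⟨n, i, hi, hi', ⟨θ⟩⟩ P Q hP hQ
    haveI := hi
    obtain ⟨hnv, hsep⟩ := sep_of_embedding hdim hL i hi' θ
    obtain ⟨σ, h1, h2, h3⟩ := hsep P Q hP hQ
    obtain ⟨τ, hτ⟩ := hnv P
    have a1 := ell_drop_of_section hdim hL he hD hP hQ h1 h2 h3
    have a2 := ell_lt_of_section hdim hL he hD hP hτ
    have b1 := ell_le_succ hdim D (placeOf k hdim P hP)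
    have b2 := ell_le_succ hdim (D - Finsupp.single (placeOf k hdim P hP) 1) (placeOf k hdim Q hQ)
    omega
  · intro h
    have hdrop : ∀ (P Q : X) (hP : IsClosed ({P} : Set X)) (hQ : IsClosed ({Q} : Set X)),
        FunFld.ell (D - Finsupp.single (placeOf k hdim P hP) 1) + 1 = FunFld.ell D ∧
        FunFld.ell (D - Finsupp.single (placeOf k hdim P hP) 1 - Finsupp.single (placeOf k hdim Q hQ) 1) <
          FunFld.ell (D - Finsupp.single (placeOf k hdim P hP) 1) := fun P Q hP hQ => by
      have := h P Q hP hQ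
      have b1 := ell_le_succ hdim D (placeOf k hdim P hP)
      have b2 := ell_le_succ hdim (D - Finsupp.single (placeOf k hdim P hP) 1) (placeOf k hdim Q hQ)
      omega
    refine exists_embedding_of_sep hdim hL ((globallyGenerated_iff hdim hL he hD).2 fun P hP => (hdrop P P hP hP).1)
      ?_ fun x y hx hy => exists_sep hdim hL he hD hx hy (hdrop x y hx hy).2
    haveI := EulerIneqLib.isNoetherian_proper (X := X) k
    obtain ⟨y, -, hy⟩ := (isClosed_univ (X := X)).exists_closed_singleton Set.univ_nonempty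
    rw [finrank_H0_eq_ell hdim hL he hD]
    have := h y y hy hy
    omega

end Groth.Agent.CurveFF.VeryAmple
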