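import Groth.Agent.CurveFF.Duality
import Groth.Agent.FF.Clifford
import Groth.Agent.FF.Canonical
import Groth.Agent.AmpleEmb.Generated

/-!
# Global generation and Clifford's inequality
-/

set_option autoImplicit false
set_option backward.isDefEq.respectTransparency false
set_option maxHeartbeats 800000
set_option linter.style.haveILetI false

universe u

open CategoryTheory CategoryTheory.Limits AlgebraicGeometry TopologicalSpace Opposite
open scoped WithZero

noncomputable section

namespace Groth.Agent.CurveFF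

attribute [local instance] Curv2.stalkAlgebra
attribute [local instance high] FunFld.Place.algRes

variable {k : Type u} [Field k] {X : Scheme.{u}} [X.Over (Spec (CommRingCat.of k))]
  [IsProper (X ↘ Spec (CommRingCat.of k))] [IsIntegral X] [VBLib.IsRegCurve X]
  (hdim : topologicalKrullDim X = 1)

omit [IsProper (X ↘ Spec (CommRingCat.of k))] [VBLib.IsRegCurve X] [X.Over (Spec (CommRingCat.of k))] in
theorem spec_injective {L : X.Modules} (hL : PicF.IsInvertible L) (x : X) : Function.Injective (spec L x) := by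
  obtain ⟨W, t, hx, ht⟩ := ParaFLib.exists_gen_nhd hL x
  intro a b h
  obtain ⟨r, rfl⟩ := (ht.bijective_germ x hx).2 a
  obtain ⟨s, rfl⟩ := (ht.bijective_germ x hx).2 b
  simp only [spec_smul, spec_germ L hx (generic_mem hx)] at h
  rw [IsFractionRing.injective (X.presheaf.stalk x) X.functionField
    ((ht.bijective_germ (genericPoint X) (generic_mem hx)).1 h)]

include hdim

theorem isGloballyGenerated_of_ell (h0 : Module.finrank k (Coh.HH X (Coh.structureModule X) 0) = 1) {L : X.Modules}
    (hL : PicF.IsInvertible L) {e : L.presheaf.stalk (genericPoint X)} (he : IsBase L e)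
    {D : FunFld.Divisor k X.functionField} (hD : IsDiv k hdim L e D)
    (h : ∀ P, FunFld.ell (D - Finsupp.single P 1) < FunFld.ell D) : Curv2.IsGloballyGenerated L := by
  classical
  have hK := isFunctionField k hdim h0
  refine AmpleEmb.isGloballyGenerated_of_span (ι := Γ(L, ⊤)) id fun x => ?_
  rw [eq_top_iff]
  intro z _
  haveI := EulerIneqLib.isNoetherian_proper (X := X) k
  by_cases hx : IsClosed ({x} : Set X)
  · set P := placeOf k hdim x hx
    obtain ⟨f, hfD, hfP⟩ : ∃ f, f ∈ FunFld.L D ∧ f ∉ FunFld.L (D - Finsupp.single P 1) := by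
      by_contra hne
      push Not at hne
      haveI := FF.finite_L hK (D - Finsupp.single P 1)
      exact (h P).not_ge (Submodule.finrank_mono hne)
    obtain ⟨σ, hσ⟩ := exists_section hL (e := e) f fun y => by
      by_cases hy : IsClosed ({y} : Set X)
      · exact (hD y hy f).2 (hfD _)
      · obtain rfl := eq_generic_of_not_closed k hdim hy
        refine ⟨(f : X.presheaf.stalk (genericPoint X)) • e, ?_⟩
        exact congr($(TopCat.Presheaf.stalkSpecializes_refl L.presheaf (genericPoint X)) _)
    have hf : P.1 f = WithZero.exp (D P) := by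
      have hf0 : f ≠ 0 := fun h0 => hfP (h0 ▸ zero_mem _)
      refine le_antisymm (hfD P) ?_
      by_contra hlt
      refine hfP fun Q => ?_
      rcases eq_or_ne Q P with rfl | hQ
      · rw [(FF.ord_eq_iff _ hf0).1 rfl, not_le, WithZero.exp_lt_exp] at hlt
        rw [(FF.ord_eq_iff _ hf0).1 rfl, Finsupp.sub_apply, Finsupp.single_eq_same, WithZero.exp_le_exp]
        omega
      · rw [Finsupp.sub_apply, Finsupp.single_eq_of_ne hQ, sub_zero]
        exact hfD Q
    obtain ⟨g, hg⟩ := he.2 (spec L x z)
    have hgP := (hD x hx g).1 ⟨z, hg.symm⟩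
    obtain ⟨r, hr⟩ := (placeOf_le_one_iff hdim hx (g / f : X.functionField)).1 (by
      rw [map_div₀]
      exact (div_le_one₀ (hf ▸ WithZero.exp_pos)).2 (hf ▸ hgP))
    have hf0 : f ≠ 0 := fun h0 => by rw [h0, map_zero] at hf; exact WithZero.exp_ne_zero hf.symm
    have hz : z = r • L.presheaf.germ ⊤ x trivial σ := spec_injective hL x (by
      rw [spec_smul, spec_germ L (U := ⊤) trivial trivial, hσ, smul_smul, ← hg]
      refine congrArg (· • e) ?_
      show (g : X.functionField) = algebraMap (X.presheaf.stalk x) X.functionField r * f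
      rw [hr, div_mul_cancel₀ _ hf0])
    rw [hz]
    exact Submodule.smul_mem _ _ (Submodule.subset_span ⟨σ, rfl⟩)
  · obtain rfl := eq_generic_of_not_closed k hdim hx
    obtain ⟨P₀⟩ : Nonempty (FunFld.Place k X.functionField) := by
      obtain ⟨y, -, hy⟩ := (isClosed_univ (X := X)).exists_closed_singleton Set.univ_nonempty
      exact ⟨placeOf k hdim y hy⟩
    obtain ⟨f, hf0, hfD⟩ := FF.exists_ne_zero_of_ell_pos (D := D) ((Nat.zero_le _).trans_lt (h P₀))
    obtain ⟨σ, hσ⟩ := exists_section hL (e := e) f fun y => by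
      by_cases hy : IsClosed ({y} : Set X)
      · exact (hD y hy f).2 (hfD _)
      · obtain rfl := eq_generic_of_not_closed k hdim hy
        refine ⟨(f : X.presheaf.stalk (genericPoint X)) • e, ?_⟩
        exact congr($(TopCat.Presheaf.stalkSpecializes_refl L.presheaf (genericPoint X)) _)
    obtain ⟨g, rfl⟩ := he.2 z
    have : (g : X.presheaf.stalk (genericPoint X)) • e =
        ((g : X.functionField) / f : X.functionField) • L.presheaf.germ ⊤ (genericPoint X) trivial σ := by
      rw [hσ]
      show _ = (((g : X.functionField) / f : X.functionField) : X.presheaf.stalk (genericPoint X)) • _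
      rw [smul_smul]
      exact congrArg (· • e) (div_mul_cancel₀ (g : X.functionField) hf0).symm
    show (g : X.presheaf.stalk (genericPoint X)) • e ∈ _
    rw [this]
    exact Submodule.smul_mem _ _ (Submodule.subset_span ⟨σ, rfl⟩)

/-- Modules of degree at least `2g` are globally generated. -/
theorem isGloballyGenerated_of_deg (h0 : Module.finrank k (Coh.HH X (Coh.structureModule X) 0) = 1) {L : X.Modules}
    (hL : PicF.IsInvertible L) (hdeg : 2 * (Curv2.genus k X : ℤ) ≤ Curv2.deg k X L 1) :
    Curv2.IsGloballyGenerated L := by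
  have hK := isFunctionField k hdim h0
  obtain ⟨e, he⟩ := exists_base hL
  obtain ⟨D, hD⟩ := exists_isDiv hdim h0 hL he
  obtain ⟨hg, hd⟩ := genus_and_deg hdim h0 hL he hD
  obtain ⟨C, hC⟩ := FF.exists_canonical hK
  obtain ⟨hC1, hC2⟩ := FF.canonical_deg hK hC
  refine isGloballyGenerated_of_ell hdim h0 hL he hD fun P => ?_
  have h1 := FF.ell_of_deg_large hK (D := D) (by omega)
  have h2 := FF.riemann_roch hK hC (D - Finsupp.single P 1)
  have hP := FF.deg_pos hK P
  have h3 : (C - (D - Finsupp.single P (1 : ℤ))).deg ≤ (P.deg : ℤ) - 2 := by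
    rw [FF.deg_sub, FF.deg_sub, FF.deg_single, one_mul]
    omega
  have h4 : FunFld.ell (C - (D - Finsupp.single P (1 : ℤ))) < P.deg := by
    rcases lt_or_ge (C - (D - Finsupp.single P (1 : ℤ))).deg 0 with hneg | hneg
    · rw [FF.ell_eq_zero_of_deg_neg hK hneg]; exact hP
    · rcases Nat.eq_zero_or_pos (FunFld.ell (C - (D - Finsupp.single P (1 : ℤ)))) with hz | hz
      · omega
      · obtain ⟨z, hz0, hzL⟩ := FF.exists_ne_zero_of_ell_pos hz
        have h5 := FF.ell_le_deg_add_one hK (FF.le_add_div_of_mem_L hK hz0 hzL)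
        rw [FF.ell_add_div hK _ hz0, FF.deg_add, FF.deg_div hK, add_zero] at h5
        omega
  rw [FF.deg_sub, FF.deg_single, one_mul] at h2
  omega

variable [IsAlgClosed k]

variable (k) in
include k in
theorem omega_globallyGenerated (hg : 1 ≤ Curv2.genus k X) : Curv2.IsGloballyGenerated (om k X) := by
  have h0 := h0_eq_one k hdim
  obtain ⟨hΩ, e, C, he, hD, hC⟩ := omega_canonical (k := k) hdim
  rw [genus_eq hdim h0] at hg
  exact isGloballyGenerated_of_ell hdim h0 hΩ he hD fun P => FF.ell_canonical_sub_single (isFF k hdim) hg hC P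

/-- Clifford's inequality. -/
theorem clifford {L : X.Modules} (hL : PicF.IsInvertible L) (h1 : 0 ≤ Curv2.deg k X L 1)
    (h2 : Curv2.deg k X L 1 ≤ 2 * (Curv2.genus k X : ℤ)) :
    2 * (Module.finrank k (Coh.HH X L 0) : ℤ) ≤ Curv2.deg k X L 1 + 2 := by
  have h0 := h0_eq_one k hdim
  obtain ⟨e, he⟩ := exists_base hL
  obtain ⟨D, hD⟩ := exists_isDiv hdim h0 hL he
  obtain ⟨hg, hd⟩ := genus_and_deg hdim h0 hL he hD
  rw [finrank_H0_eq_ell hdim hL he hD, hd]
  exact FF.clifford (isFF k hdim) (hd ▸ h1) (by rw [← hg, ← hd]; exact h2)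

omit [VBLib.IsRegCurve X] [IsAlgClosed k] in
/-- Modules with sections have nonnegative degree. -/
theorem deg_nonneg_of_section {L : X.Modules} (hL : PicF.IsInvertible L) (h : Nontrivial (Coh.HH X L 0)) :
    0 ≤ Curv2.deg k X L 1 := by
  obtain ⟨s, hs⟩ := CurveLib.exists_hom_ne_zero L
  have := (CurveLib.deg_le_of_ne_zero (k := k) hdim.le ParaFLib.isInvertible_structureModule hL hs).1
  rwa [CurveLib.deg_structureModule] at this

omit [VBLib.IsRegCurve X] [IsAlgClosed k] in
/-- A proper invertible submodule with sections has smaller degree. -/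
theorem deg_lt_of_mono {M L : X.Modules} (hM : PicF.IsInvertible M) (hL : PicF.IsInvertible L) (ι : M ⟶ L) [Mono ι]
    (hι : ¬ IsIso ι) : Curv2.deg k X M 1 < Curv2.deg k X L 1 := by
  have h0 : ι ≠ 0 := by
    rintro rfl
    have hz : 𝟙 M = 0 := by rw [← cancel_mono (0 : M ⟶ L)]; simp
    obtain ⟨e, he⟩ := exists_base hM
    obtain ⟨U, hU, m, rfl⟩ := TopCat.Presheaf.exists_germ_eq M.presheaf e
    have h2 : M.presheaf.germ U (genericPoint X) hU m = 0 := by
      have h3 : (𝟙 M : M ⟶ M).app U m = (0 : M ⟶ M).app U m := by rw [hz]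
      exact (congrArg (M.presheaf.germ U (genericPoint X) hU) (h3 : m = 0)).trans (map_zero _)
    exact one_ne_zero (α := X.presheaf.stalk (genericPoint X)) (he.1 (by
      show _ • _ = _ • _
      rw [h2, smul_zero, smul_zero]))
  obtain ⟨h1, h2⟩ := CurveLib.deg_le_of_ne_zero (k := k) hdim.le hM hL h0
  exact lt_of_le_of_ne h1 fun h => hι (h2 h)

end Groth.Agent.CurveFF
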