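import Groth.Agent.CurveFF.Sections
import Groth.Agent.CurveFF.Pencil
import Groth.Prelude.Def_LinSer

/-!
# Linear series on regular curves
-/

set_option autoImplicit false
set_option backward.isDefEq.respectTransparency false
set_option maxHeartbeats 800000
set_option linter.style.haveILetI false

universe u

open CategoryTheory AlgebraicGeometry TopologicalSpace

noncomputable section

namespace Groth.Agent.CurveFF

attribute [local instance] Curv2.stalkAlgebra
attribute [local instance high] FunFld.Place.algRes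

variable {k : Type u} [Field k] {X : Scheme.{u}} [X.Over (Spec (CommRingCat.of k))]

theorem secOf_sum {L : X.Modules} {n : ℕ} (c : Fin n → k) (w : Fin n → Coh.HH X L 0) :
    CurveLib.secOf L (∑ i, c i • w i) =
      ∑ i, (Coh.toGlobal (X ↘ Spec (CommRingCat.of k)) (c i)) • (show LinSer.Sect X L from CurveLib.secOf L (w i)) := by
  rw [map_sum]
  exact Finset.sum_congr rfl fun i _ => CurveLib.secOf_smul (k := k) L (c i) (w i)

/-- Independent sections bound `h⁰` from below. -/
theorem le_finrank_H0_of_linIndep [IsProper (X ↘ Spec (CommRingCat.of k))] {L : X.Modules} (hL : PicF.IsInvertible L)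
    {n : ℕ} {s : Fin n → LinSer.Sect X L} (hs : LinSer.LinIndep k X L s) :
    n ≤ Module.finrank k (Coh.HH X L 0) := by
  haveI := EulerIneqLib.isNoetherian_proper (X := X) k
  haveI := EulerIneqLib.finite_HH (k := k) (CurveLib.isCoh_of_isInvertible hL) 0
  let w : Fin n → Coh.HH X L 0 := fun i => (CurveLib.secOf L).symm (s i)
  have hw : LinearIndependent k w := Fintype.linearIndependent_iff.2 fun c hc i => by
    refine congrFun (hs c ?_) i
    have h := congrArg (CurveLib.secOf L) hc
    rw [secOf_sum, map_zero] at h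
    exact (Finset.sum_congr rfl fun j _ => congrArg _ ((CurveLib.secOf L).apply_symm_apply (s j)).symm).trans h
  simpa using hw.fintype_card_le_finrank

/-- Sections forming a series exist whenever `h⁰` is large enough. -/
theorem exists_linIndep {L : X.Modules} {n : ℕ} (hn : n ≤ Module.finrank k (Coh.HH X L 0)) :
    ∃ s : Fin n → LinSer.Sect X L, LinSer.LinIndep k X L s := by
  obtain ⟨w, hw⟩ := exists_linearIndependent_of_le_finrank hn
  refine ⟨fun i => CurveLib.secOf L (w i), fun c hc => funext fun i => Fintype.linearIndependent_iff.1 hw c ?_ i⟩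
  refine (CurveLib.secOf L).injective ?_
  rw [secOf_sum, map_zero]
  exact hc

variable [IsAlgClosed k] [IsProper (X ↘ Spec (CommRingCat.of k))] [IsIntegral X] [VBLib.IsRegCurve X]
  (hdim : topologicalKrullDim X = 1)
include hdim

/-- Uniqueness of the `g¹₂`. -/
theorem g12_iso (hg : 2 ≤ Curv2.genus k X) {M M' : X.Modules} (hM : PicF.IsInvertible M) (hM' : PicF.IsInvertible M')
    (hd : Curv2.deg k X M 1 = 2) (hd' : Curv2.deg k X M' 1 = 2) (h : 2 ≤ Module.finrank k (Coh.HH X M 0))
    (h' : 2 ≤ Module.finrank k (Coh.HH X M' 0)) : Nonempty (M ≅ M') := by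
  have h0 := h0_eq_one k hdim
  obtain ⟨e, he⟩ := exists_base hM
  obtain ⟨D, hD⟩ := exists_isDiv hdim h0 hM he
  obtain ⟨e', he'⟩ := exists_base hM'
  obtain ⟨D', hD'⟩ := exists_isDiv hdim h0 hM' he'
  obtain ⟨hgen, hdd⟩ := genus_and_deg hdim h0 hM he hD
  obtain ⟨-, hdd'⟩ := genus_and_deg hdim h0 hM' he' hD'
  rw [finrank_H0_eq_ell hdim hM he hD] at h
  rw [finrank_H0_eq_ell hdim hM' he' hD'] at h'
  exact nonempty_iso_of_sub_mem_prinDivs hdim h0 hM hM' he hD he' hD'
    (g12_unique (isFF k hdim) (hgen ▸ hg) (by rw [← hdd', hd']) (by rw [← hdd, hd]) h' h)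

/-- A module attaining Clifford's bound away from the extremes gives a `g¹₂`. -/
theorem exists_g12 {L : X.Modules} (hL : PicF.IsInvertible L) (h1 : 0 < Curv2.deg k X L 1)
    (h2 : Curv2.deg k X L 1 < 2 * (Curv2.genus k X : ℤ) - 2)
    (h : Curv2.deg k X L 1 + 2 ≤ 2 * (Module.finrank k (Coh.HH X L 0) : ℤ)) :
    ∃ (N : X.Modules) (t : Fin 2 → LinSer.Sect X N), LinSer.IsLinSer k X N 2 1 t := by
  have h0 := h0_eq_one k hdim
  obtain ⟨e, he⟩ := exists_base hL
  obtain ⟨D, hD⟩ := exists_isDiv hdim h0 hL he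
  obtain ⟨hgen, hdd⟩ := genus_and_deg hdim h0 hL he hD
  rw [finrank_H0_eq_ell hdim hL he hD] at h
  obtain ⟨E, hE, hEl⟩ := exists_g12_of_clifford_eq (isFF k hdim) D.deg.toNat (D := D) (by omega) (by omega)
    (by omega) (by omega)
  obtain ⟨N, eN, hN, heN, hDN⟩ := exists_module hdim h0 E
  obtain ⟨s, hs⟩ := exists_linIndep (k := k) (L := N) (n := 2) (by rwa [finrank_H0_eq_ell hdim hN heN hDN])
  exact ⟨N, s, hN, by rw [(genus_and_deg hdim h0 hN heN hDN).2, hE]; rfl, hs⟩

end Groth.Agent.CurveFF

namespace Groth.Agent.CurveFF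

variable {k : Type u} [Field k] {X : Scheme.{u}} [X.Over (Spec (CommRingCat.of k))]
  [IsProper (X ↘ Spec (CommRingCat.of k))] [IsIntegral X]

omit [X.Over (Spec (CommRingCat.of k))] [IsProper (X ↘ Spec (CommRingCat.of k))] in
/-- Tensoring with an invertible module keeps a nonzero section nonzero. -/
theorem mulS_ne_zero {A T : X.Modules} (hA : PicF.IsInvertible A) (hT : PicF.IsInvertible T)
    {t : Coh.structureModule X ⟶ T} (ht : t ≠ 0) : CurveLib.mulS A t ≠ 0 := by
  intro h
  refine ht ?_
  let η := genericPoint X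
  obtain ⟨a, ha⟩ := exists_base hA
  have h1 : ∀ z, PullbackMod.stalkLin (CurveLib.mulS A t) η z = 0 := fun z => by
    obtain ⟨U, hU, m, rfl⟩ := TopCat.Presheaf.exists_germ_eq (CohB1.tensorMod A (Coh.structureModule X)).presheaf z
    show PullbackMod.stalkLin (CurveLib.mulS A t) η ((CohB1.tensorMod A (Coh.structureModule X)).presheaf.germ U η hU m) = 0
    exact (PullbackMod.stalkLin_germ (CurveLib.mulS A t) η hU m).trans (by rw [h]; exact map_zero _)
  have h2 : a ⊗ₜ[X.presheaf.stalk η] PullbackMod.stalkLin t η (ParaFLib.oneG η) = 0 := by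
    have h3 := h1 (DCohLib.stalkTensor η A (Coh.structureModule X) (a ⊗ₜ ParaFLib.oneG η))
    rw [DCohLib.stalkTensor_natural_right, LinearMap.lTensor_tmul] at h3
    exact (DCohLib.stalkTensor η A T).injective (h3.trans (map_zero _).symm)
  let E := LinearEquiv.ofBijective (LinearMap.toSpanSingleton (X.presheaf.stalk η) (A.presheaf.stalk η) a) ha
  have h4 : PullbackMod.stalkLin t η (ParaFLib.oneG η) = 0 := by
    have := congrArg (TensorProduct.lid (X.presheaf.stalk η) (T.presheaf.stalk η) ∘ TensorProduct.map E.symm.toLinearMap LinearMap.id) h2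
    have ea : E.symm a = 1 := E.injective (by rw [LinearEquiv.apply_symm_apply]; show a = (1 : X.presheaf.stalk η) • a; exact (one_smul _ a).symm)
    simpa [ea] using this
  rw [← AmpleLib.secHom_sec t, CurveLib.stalkLin_secHom] at h4
  have h5 : AmpleLib.sec t = 0 := ParaFLib.eq_zero_of_germ_generic hT _ fun _ => h4
  rw [← AmpleLib.secHom_sec t, h5]
  exact DCohLib.hom_unit_ext ((AmpleLib.sec_secHom _).trans rfl)

variable (k) in
include k in
/-- If `L ⊗ N⁻¹` has a section then `N` embeds in `L`. -/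
theorem exists_mono_of_section {N M L : X.Modules} (hdim : topologicalKrullDim X ≤ 1) (hN : PicF.IsInvertible N)
    (hM : PicF.IsInvertible M) (hL : PicF.IsInvertible L) (φ : CohB1.tensorMod N M ≅ Coh.structureModule X)
    [Nontrivial (Coh.HH X (CohB1.tensorMod M L) 0)] : ∃ ι : N ⟶ L, Mono ι := by
  have hT := AmpleLib.isInvertible_tensor hM hL
  obtain ⟨t, ht⟩ := CurveLib.exists_hom_ne_zero (CohB1.tensorMod M L)
  let α := (AmpleLib.unitR N).symm
  let β : CohB1.tensorMod N (CohB1.tensorMod M L) ≅ L :=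
    (AmpleLib.assoc N M L).symm ≪≫ AmpleLib.tIso φ (Iso.refl L) ≪≫ AmpleLib.unitL L
  refine ⟨α.hom ≫ CurveLib.mulS N t ≫ β.hom, ?_⟩
  have hne : CurveLib.mulS N t ≠ 0 := mulS_ne_zero hN hT ht
  obtain ⟨-, -, -, -, hm⟩ := CurveLib.deg_eq_add_coker (k := k) hdim (AmpleLib.isInvertible_tensor hN ParaFLib.isInvertible_structureModule)
    (AmpleLib.isInvertible_tensor hN hT) hne
  haveI := hm
  infer_instance

end Groth.Agent.CurveFF
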