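import Groth.Agent.CurveFF.Sect
import Groth.Agent.DimFormulaLib.LocalDim
import Groth.Agent.S10970

/-!
# Divisors of rational sections; the function field
-/

set_option autoImplicit false
set_option backward.isDefEq.respectTransparency false
set_option maxHeartbeats 800000
set_option linter.style.haveILetI false

universe u

open CategoryTheory AlgebraicGeometry TopologicalSpace Opposite IsLocalRing
open scoped WithZero IntermediateField

noncomputable section

namespace Groth.Agent.CurveFF

attribute [local instance] Curv2.stalkAlgebra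
attribute [local instance high] FunFld.Place.algRes

variable {k : Type u} [Field k] {X : Scheme.{u}} [X.Over (Spec (CommRingCat.of k))]
  [IsProper (X ↘ Spec (CommRingCat.of k))] [IsIntegral X]

theorem inStalk_structure_iff (x : X) (f : X.functionField) :
    InStalk (Coh.structureModule X) (ParaFLib.oneG (genericPoint X)) x f ↔
      f ∈ Set.range (algebraMap (X.presheaf.stalk x) X.functionField) := by
  rw [inStalk_iff (ParaFLib.bijective_oneG _) (ParaFLib.gen_one ⊤) (W := ⊤) trivial (a := 1) (one_smul _ _).symm]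
  simp only [mul_one, Set.mem_range]

variable [VBLib.IsRegCurve X] (hdim : topologicalKrullDim X = 1)
include hdim

variable (k) in
/-- The function field of a regular proper curve with constants `k` is a function field of one variable. -/
theorem isFunctionField (h0 : Module.finrank k (Coh.HH X (Coh.structureModule X) 0) = 1) :
    FunFld.IsFunctionField k X.functionField := by
  classical
  haveI := EulerIneqLib.isNoetherian_proper (X := X) k
  have hsp : Module.finrank k (sectSpace k (Coh.structureModule X) (ParaFLib.oneG (genericPoint X))) = 1 :=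
    (finrank_H0_eq k ParaFLib.isInvertible_structureModule (ParaFLib.bijective_oneG _)).symm.trans h0
  have hone : (1 : X.functionField) ∈ sectSpace k (Coh.structureModule X) (ParaFLib.oneG (genericPoint X)) :=
    fun x => (inStalk_structure_iff x 1).2 ⟨1, map_one _⟩
  have hclosed : ∀ y : X.functionField, IsAlgebraic k y → y ∈ Set.range (algebraMap k X.functionField) := by
    intro y hy
    have hmem : y ∈ sectSpace k (Coh.structureModule X) (ParaFLib.oneG (genericPoint X)) := fun x => by
      rw [inStalk_structure_iff]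
      haveI := (isNormalScheme (X := X) x).1
      haveI := (isNormalScheme (X := X) x).2
      exact IsIntegrallyClosed.isIntegral_iff.1 (hy.isIntegral.tower_top (A := X.presheaf.stalk x))
    obtain ⟨c, hc⟩ := (finrank_eq_one_iff_of_nonzero' (⟨1, hone⟩ : sectSpace k (Coh.structureModule X) _)
      (fun h => one_ne_zero (congrArg Subtype.val h))).1 hsp ⟨y, hmem⟩
    exact ⟨c, by rw [Algebra.algebraMap_eq_smul_one]; exact congrArg Subtype.val hc⟩
  obtain ⟨x, -, hx⟩ := (isClosed_univ (X := X)).exists_closed_singleton Set.univ_nonempty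
  obtain ⟨U, hU, hxU, -⟩ := exists_isAffineOpen_mem_and_subset (x := x) (U := (⊤ : X.Opens)) trivial
  haveI : Nonempty U := ⟨⟨x, hxU⟩⟩
  let A := Γ(X, U)
  let φ : k →+* A := (X.presheaf.map (homOfLE (le_top : U ≤ ⊤)).op).hom.comp
    (Coh.toGlobal (X ↘ Spec (CommRingCat.of k)))
  letI : Algebra k A := φ.toAlgebra
  haveI : IsScalarTower k A X.functionField := IsScalarTower.of_algebraMap_eq fun c =>
    (TopCat.Presheaf.germ_res_apply X.presheaf _ _ _ _).symm
  haveI : IsFractionRing A X.functionField := functionField_isFractionRing_of_isAffineOpen X U hU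
  haveI : Algebra.FiniteType k A := by
    have h := HasRingHomProperty.appLE (P := @LocallyOfFiniteType) (X ↘ Spec (CommRingCat.of k)) inferInstance
      ⟨⊤, isAffineOpen_top _⟩ ⟨U, hU⟩ le_top
    have h2 : ((((X ↘ Spec (CommRingCat.of k)).appLE ⊤ U le_top).hom).comp
        (Scheme.ΓSpecIso (CommRingCat.of k)).inv.hom).FiniteType :=
      h.comp (RingHom.FiniteType.of_surjective _ (Scheme.ΓSpecIso (CommRingCat.of k)).symm.commRingCatIsoToRingEquiv.surjective)
    exact RingHom.finiteType_algebraMap.1 h2
  have hdA : ringKrullDim A = 1 := by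
    have h1 : ringKrullDim A ≤ 1 := by
      rw [← PrimeSpectrum.topologicalKrullDim_eq_ringKrullDim, ← hdim]
      exact hU.fromSpec.isOpenEmbedding.isInducing.topologicalKrullDim_le
    refine le_antisymm h1 ?_
    have hd := dim_stalk hdim hx
    letI := TopCat.Presheaf.algebra_section_stalk X.presheaf (⟨x, hxU⟩ : U)
    haveI := hU.isLocalization_stalk ⟨x, hxU⟩
    rw [← hd]
    rw [IsLocalization.AtPrime.ringKrullDim_eq_height (hU.primeIdealOf ⟨x, hxU⟩).asIdeal (X.presheaf.stalk x)]
    exact Ideal.height_le_ringKrullDim_of_ne_top (Ideal.IsPrime.ne_top inferInstance)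
  obtain ⟨m, hm, hmd, -⟩ := RegLocLib.affine_domain_dim k A
  rw [hdA] at hmd
  have hm1 : m = 1 := by exact_mod_cast hmd.symm
  have htr : Algebra.trdeg k X.functionField = 1 := by
    rw [← DimFormulaLib.trdeg_eq_of_isFractionRing (k := k) (D := A) (K := X.functionField),
      DimFormulaLib.trdeg_eq_of_isFractionRing (k := k) (D := A) (K := FractionRing A), hm, hm1, Nat.cast_one]
  haveI : Algebra.EssFiniteType A X.functionField := Algebra.EssFiniteType.of_isLocalization _ (nonZeroDivisors A)
  haveI : Algebra.EssFiniteType k X.functionField := Algebra.EssFiniteType.comp k A X.functionField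
  obtain ⟨s, hs⟩ := exists_isTranscendenceBasis k X.functionField
  have hc : Cardinal.mk s = 1 := hs.cardinalMk_eq_trdeg.trans htr
  obtain ⟨⟨t, rfl⟩⟩ : Nonempty {t // s = {t}} := by
    obtain ⟨⟨t, ht⟩⟩ : Nonempty {t // s = {t}} := by
      obtain ⟨t, ht⟩ := Set.exists_eq_singleton_iff_nonempty_subsingleton.2
        ⟨Set.nonempty_coe_sort.1 (Cardinal.mk_ne_zero_iff.1 (by rw [hc]; exact one_ne_zero)),
          Set.subsingleton_coe _ |>.1 (Cardinal.le_one_iff_subsingleton.1 hc.le)⟩
      exact ⟨⟨t, ht⟩⟩
    exact ⟨⟨t, ht⟩⟩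
  refine ⟨⟨t, hs.1.transcendental ⟨t, rfl⟩, ?_⟩, hclosed⟩
  haveI : Algebra.IsAlgebraic k⟮t⟯ X.functionField := by
    have h := hs.isAlgebraic_field
    rwa [Subtype.range_coe] at h
  haveI : Algebra.EssFiniteType k⟮t⟯ X.functionField := Algebra.EssFiniteType.of_comp k k⟮t⟯ X.functionField
  exact Algebra.finite_of_essFiniteType_of_isAlgebraic

variable (k) in
/-- `D` is the divisor of the rational section `e`. -/
def IsDiv (L : X.Modules) (e : L.presheaf.stalk (genericPoint X)) (D : FunFld.Divisor k X.functionField) : Prop :=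
  ∀ (x : X) (hx : IsClosed ({x} : Set X)) (f : X.functionField),
    InStalk L e x f ↔ (placeOf k hdim x hx).1 f ≤ WithZero.exp (D (placeOf k hdim x hx))

theorem isDiv_structure : IsDiv k hdim (Coh.structureModule X) (ParaFLib.oneG (genericPoint X)) 0 := fun x hx f => by
  rw [inStalk_structure_iff, Finsupp.coe_zero, Pi.zero_apply, WithZero.exp_zero, placeOf_le_one_iff]

theorem exists_isDiv (h0 : Module.finrank k (Coh.HH X (Coh.structureModule X) 0) = 1) {L : X.Modules}
    (hL : PicF.IsInvertible L) {e : L.presheaf.stalk (genericPoint X)} (he : IsBase L e) :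
    ∃ D, IsDiv k hdim L e D := by
  classical
  have hK := isFunctionField k hdim h0
  haveI := EulerIneqLib.isNoetherian_proper (X := X) k
  have hW : ∀ x : X, ∃ (W : X.Opens) (_ : x ∈ W) (a : X.functionField), a ≠ 0 ∧
      ∀ y ∈ W, ∀ (hy : IsClosed ({y} : Set X)) (f : X.functionField),
        InStalk L e y f ↔ (placeOf k hdim y hy).1 f ≤ (placeOf k hdim y hy).1 a := by
    intro x
    obtain ⟨W, t, hxW, ht⟩ := ParaFLib.exists_gen_nhd hL x
    obtain ⟨a, ha0, ha⟩ := exists_inStalk_iff he ht hxW
    refine ⟨W, hxW, a, ha0, fun y hyW hy f => ?_⟩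
    rw [inStalk_iff he ht hyW ha f]
    have hva : (placeOf k hdim y hy).1 a ≠ 0 := (map_ne_zero _).2 ha0
    constructor
    · rintro ⟨r, rfl⟩
      rw [map_mul]
      exact mul_le_of_le_one_left' ((placeOf_le_one_iff hdim hy _).2 ⟨r, rfl⟩)
    · intro hf
      obtain ⟨r, hr⟩ := (placeOf_le_one_iff hdim hy (f / a)).1 (by
        rw [map_div₀, div_le_one₀ (zero_lt_iff.2 hva)]; exact hf)
      exact ⟨r, by rw [hr, div_mul_cancel₀ _ ha0]⟩
  choose W hxW a ha0 ha using hW
  obtain ⟨S, hS⟩ := (isCompact_univ (X := X)).elim_finite_subcover (fun x => (W x : Set X)) (fun x => (W x).isOpen)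
    fun x _ => Set.mem_iUnion.2 ⟨x, hxW x⟩
  let pe := placeEquiv k hdim
  let g : FunFld.Place k X.functionField → ℤ := fun P => -P.ord (a (pe.symm P).1)
  have hg : ∀ (P : FunFld.Place k X.functionField) (x : X), (pe.symm P).1 ∈ W x → g P = -P.ord (a x) := by
    intro P x hx
    have hP : placeOf k hdim (pe.symm P).1 (pe.symm P).2 = P := pe.apply_symm_apply P
    have h1 := ha _ _ (hxW (pe.symm P).1) (pe.symm P).2
    have h2 := ha x _ hx (pe.symm P).2
    rw [hP] at h1 h2
    have h3 : P.1 (a (pe.symm P).1) = P.1 (a x) :=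
      le_antisymm ((h2 _).1 ((h1 _).2 le_rfl)) ((h1 _).1 ((h2 _).2 le_rfl))
    show -P.ord _ = -P.ord _
    rw [FunFld.Place.ord, FunFld.Place.ord, h3]
  have hfin : (Function.support g).Finite := by
    refine (S.finite_toSet.biUnion fun x _ => Groth.Agent.S10970.result k X.functionField hK (a x)).subset ?_
    intro P hP
    obtain ⟨x, hxS, hx⟩ := Set.mem_iUnion₂.1 (hS (Set.mem_univ (pe.symm P).1))
    rw [Function.mem_support, hg P x hx] at hP
    exact Set.mem_biUnion (Finset.mem_coe.2 hxS) (show P.ord (a x) ≠ 0 by simpa using hP)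
  refine ⟨Finsupp.ofSupportFinite g hfin, fun x hx f => ?_⟩
  rw [ha x x (hxW x) hx f, Finsupp.ofSupportFinite_coe,
    hg (placeOf k hdim x hx) x (by rw [show pe.symm (placeOf k hdim x hx) = ⟨x, hx⟩ from pe.symm_apply_apply ⟨x, hx⟩]; exact hxW x),
    ← FF.v_eq_exp _ (ha0 x)]

/-- The dimension of global sections is the dimension of the Riemann–Roch space. -/
theorem finrank_H0_eq_ell {L : X.Modules} (hL : PicF.IsInvertible L) {e : L.presheaf.stalk (genericPoint X)}
    (he : IsBase L e) {D : FunFld.Divisor k X.functionField} (hD : IsDiv k hdim L e D) :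
    Module.finrank k (Coh.HH X L 0) = FunFld.ell D := by
  rw [finrank_H0_eq k hL he, FunFld.ell]
  refine LinearEquiv.finrank_eq (LinearEquiv.ofEq _ _ (Submodule.ext fun f => ⟨fun hf P => ?_, fun hf x => ?_⟩))
  · obtain ⟨x, hx, rfl⟩ := placeOf_surjective hdim P
    exact (hD x hx f).1 (hf x)
  · by_cases hx : IsClosed ({x} : Set X)
    · exact (hD x hx f).2 (hf _)
    · obtain rfl := eq_generic_of_not_closed k hdim hx
      refine ⟨(f : X.presheaf.stalk (genericPoint X)) • e, ?_⟩
      exact congr($(TopCat.Presheaf.stalkSpecializes_refl L.presheaf (genericPoint X)) _)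

end Groth.Agent.CurveFF
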