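import Groth.Agent.CurveFF.DoubleDelta
import Groth.Agent.CurveFF.GenEtale
import Groth.Agent.CurveFF.LinSer
import Groth.Agent.S3572
import Groth.Agent.S6579
import Groth.Agent.S0219
import Groth.Agent.S2158
import Groth.Agent.S9370
import Groth.Agent.EtAlgEasy.OmegaSeq
import Groth.Agent.OmegaUnivLib.Univ
import Groth.Agent.ProjSmoothLib.Basic

/-!
# The double cover of the line defined by a function of degree two
-/

set_option autoImplicit false
set_option backward.isDefEq.respectTransparency false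
set_option maxHeartbeats 1600000
set_option linter.style.haveILetI false

universe u

open CategoryTheory Limits AlgebraicGeometry TopologicalSpace
open scoped WithZero IntermediateField

noncomputable section

namespace Groth.Agent.CurveFF

attribute [local instance] Curv2.stalkAlgebra Curv2.resAlgebra
attribute [local instance high] FunFld.Place.algRes

/-- A function of degree two on a curve of positive genus defines a separable double cover of the line,
and lies in the image of the function field of the line. -/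
theorem exists_double_cover_range {k : Type u} [Field k] {X : Scheme.{u}} [X.Over (Spec (CommRingCat.of k))]
    [IsIntegral X] (hdX : topologicalKrullDim X = 1) [IsProper (X ↘ Spec (CommRingCat.of k))]
    [Smooth (X ↘ Spec (CommRingCat.of k))]
    (hX0 : Module.finrank k (Coh.HH X (Coh.structureModule X) 0) = 1) (hg : 1 ≤ Curv2.genus k X)
    {x : X.functionField} (hx : Transcendental k x) (hdeg : Module.finrank k⟮x⟯ X.functionField = 2) :
    ∃ f : X ⟶ CohB1.ProjSpace 1 k, f ≫ CohB1.ProjSpace.toSpec 1 k = X ↘ (Spec (CommRingCat.of k)) ∧ IsFinite f ∧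
        f (genericPoint X) = genericPoint (CohB1.ProjSpace 1 k) ∧
        (∃ z, (f.stalkMap (genericPoint X)).hom z = x) ∧
        f.residueDegree (genericPoint X) = 2 ∧
        letI := (f.residueFieldMap (genericPoint X)).hom.toAlgebra
        Algebra.IsSeparable ((CohB1.ProjSpace 1 k).residueField (f (genericPoint X))) (X.residueField (genericPoint X)) := by
  classical
  haveI := Groth.Agent.EulerIneqLib.isNoetherian_proper (X := X) k
  haveI := Groth.Agent.VBLib.isRegCurve_of_smooth (X := X) k hdX.le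
  have hK := isFunctionField k hdX hX0
  let η := genericPoint X
  have hdx := delta_ne_zero_of_finrank_two (X := X) hdX hX0 hg hx hdeg
  have hx0 : x ≠ 0 := fun h => hx (h ▸ isAlgebraic_zero)
  let D := Groth.Agent.FF.zeros (k := k) x⁻¹
  have hdD : D.deg = 2 := by
    rw [Groth.Agent.FF.deg_zeros hK (fun h => hx (by simpa using h.inv)), Groth.Agent.FF.adjoin_inv, hdeg]; rfl
  have hDQ : ∀ Q, D Q = max (-Q.ord x) 0 := fun Q => by
    rw [Groth.Agent.FF.zeros_apply hK, Groth.Agent.FF.ord_inv]
  obtain ⟨O, hO, -⟩ : ∃ O : X, IsClosed ({O} : Set X) ∧ True := by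
    obtain ⟨Q, -⟩ := Groth.Agent.FF.exists_zero hK hx
    obtain ⟨z, hz, -⟩ := placeOf_surjective hdX Q
    exact ⟨z, hz, trivial⟩
  -- the pencil
  obtain ⟨L, e, hL, he, hD⟩ := exists_module hdX hX0 D
  have hdL : Curv2.deg k X L 1 = 2 := by
    rw [(genus_and_deg hdX hX0 hL he hD).2, hdD]
  let F : Fin (1 + 1) → X.functionField := ![1, x]
  have hFL : ∀ j, F j ∈ FunFld.L D := by
    intro j
    fin_cases j
    · exact Groth.Agent.FF.one_mem_L (Groth.Agent.FF.zeros_nonneg _)
    · exact (Groth.Agent.FF.mem_L_iff_ord hx0).2 fun Q => by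
        rw [hDQ]; show 0 ≤ Q.ord x + _; omega
  have hstalk : ∀ (j : Fin (1 + 1)) (z : X), InStalk L e z (F j) := by
    intro j z
    by_cases hz : IsClosed ({z} : Set X)
    · exact (hD z hz _).2 (hFL j _)
    · obtain rfl := eq_generic_of_not_closed k hdX hz
      refine ⟨(F j : X.presheaf.stalk (genericPoint X)) • e, ?_⟩
      exact congr($(TopCat.Presheaf.stalkSpecializes_refl L.presheaf (genericPoint X)) _)
  choose σ hσ using fun j => exists_section hL (F j) (hstalk j)
  have hspecσ : ∀ (z : X) j, spec L z (L.presheaf.germ ⊤ z trivial (σ j)) = (F j : X.presheaf.stalk η) • e :=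
    fun z j => (spec_germ L (U := ⊤) trivial trivial _).trans (hσ j)
  have hgen : ProjUP.GeneratedBy L σ := by
    intro z
    rw [eq_top_iff]
    rintro w -
    obtain ⟨f, hf⟩ := he.2 (spec L z w)
    have hw : InStalk L e z f := ⟨w, hf.symm⟩
    have key : ∀ j : Fin (1 + 1), (∃ r, algebraMap (X.presheaf.stalk z) X.functionField r * F j = f) →
        w ∈ Submodule.span (X.presheaf.stalk z) (Set.range fun i => L.presheaf.germ ⊤ z trivial (σ i)) := by
      rintro j ⟨r, hr⟩
      have : w = r • L.presheaf.germ ⊤ z trivial (σ j) := spec_injective hL z (by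
        rw [spec_smul, hspecσ, smul_smul, ← hf]
        exact congrArg (fun t : X.functionField => (t : X.presheaf.stalk η) • e) hr.symm)
      rw [this]
      exact Submodule.smul_mem _ _ (Submodule.subset_span ⟨j, rfl⟩)
    by_cases hz : IsClosed ({z} : Set X)
    · have hb := (hD z hz f).1 hw
      rcases eq_or_ne (D (placeOf k hdX z hz)) 0 with hzP | hzP
      · refine key 0 ?_
        rw [hzP, WithZero.exp_zero] at hb
        obtain ⟨r, hr⟩ := (placeOf_le_one_iff hdX hz f).1 hb
        exact ⟨r, by rw [hr]; exact mul_one f⟩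
      · refine key 1 ?_
        have hzD := hDQ (placeOf k hdX z hz)
        have hxv : (placeOf k hdX z hz).1 x = WithZero.exp (D (placeOf k hdX z hz)) := by
          rw [Groth.Agent.FF.v_eq_exp _ hx0, hzD]; congr 1; omega
        obtain ⟨r, hr⟩ := (placeOf_le_one_iff hdX hz (f / x)).1 (by
          rw [map_div₀, hxv, div_le_one₀ WithZero.exp_pos]
          exact hb)
        exact ⟨r, by rw [hr]; exact div_mul_cancel₀ f hx0⟩
    · obtain rfl := eq_generic_of_not_closed k hdX hz
      refine key 0 ⟨f, ?_⟩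
      rw [show F 0 = 1 from rfl, mul_one]
      exact congr($(TopCat.Presheaf.stalkSpecializes_refl X.presheaf (genericPoint X)) _)
  obtain ⟨φ, hφ, τ, hτ⟩ := Groth.Agent.S3572.result 1 (X ↘ Spec (CommRingCat.of k)) L hL σ hgen
  have hli : LinSer.LinIndep k X L σ := by
    intro c hc
    have h1 := congrArg (L.presheaf.germ ⊤ η trivial) hc
    rw [Fin.sum_univ_two, map_add, map_zero, Groth.Agent.ParaFLib.germ_smul', Groth.Agent.ParaFLib.germ_smul', hσ, hσ, smul_smul, smul_smul] at h1
    rw [← add_smul] at h1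
    have h2 : algebraMap k X.functionField (c 0) * F 0 + algebraMap k X.functionField (c 1) * F 1 = 0 :=
      he.1 (h1.trans (zero_smul _ _).symm)
    have hc1 : c 1 = 0 := by
      by_contra h
      have h3 : x = algebraMap k X.functionField (-(c 0) / c 1) := by
        rw [map_div₀, map_neg, eq_div_iff ((map_ne_zero _).2 h)]
        simp [F] at h2
        linear_combination h2
      exact hx (h3 ▸ isAlgebraic_algebraMap _)
    have hc0 : c 0 = 0 := by simpa [F, hc1] using h2
    funext j
    fin_cases j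
    · exact hc0
    · exact hc1
  let α : (Scheme.Modules.pullback φ).obj (Twist.twistProjSpace 1 k 1) ⟶ L := τ.hom
  have hdich := Groth.Agent.S6579.result k X hdX (fun z => Groth.Agent.CurveLib.isRegularLocalRing_stalk_of_smooth (k := k) z)
    2 L σ ⟨hL, hdL, hli⟩ φ α ⟨hφ, fun j => hτ j⟩
  have hnp : ¬ ∃ p : CohB1.ProjSpace 1 k, IsClosed ({p} : Set (CohB1.ProjSpace 1 k)) ∧ Set.range φ ⊆ {p} := by
    rcases hdich with h | h
    · exact h.1
    · exact absurd hX0 h.2
  haveI : IsIntegral (CohB1.ProjSpace 1 k) := Groth.Agent.REqLib.isIntegral_projSpace 1 k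
  haveI : IsProper (CohB1.ProjSpace 1 k ↘ Spec (CommRingCat.of k)) :=
    inferInstanceAs (IsProper (CohB1.ProjSpace.toSpec 1 k))
  have hdP : topologicalKrullDim (CohB1.ProjSpace 1 k) = 1 := by exact_mod_cast Groth.Agent.S10829.result k 1
  have hncl : ¬ IsClosed ({φ η} : Set (CohB1.ProjSpace 1 k)) := fun hcl => hnp ⟨_, hcl, by
    rintro _ ⟨z, rfl⟩
    have h : φ η ⤳ φ z := ((genericPoint_spec X).specializes (y := z) trivial).map φ.continuous
    exact hcl.closure_eq.le h.mem_closure⟩
  have hgenP := eq_generic_of_not_closed k (X := CohB1.ProjSpace 1 k) hdP hncl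
  haveI : IsSeparated (CohB1.ProjSpace.toSpec 1 k) := inferInstance
  haveI : IsFinite φ := by
    refine Groth.Agent.S0219.result k X (CohB1.ProjSpace 1 k) (X ↘ Spec (CommRingCat.of k)) (CohB1.ProjSpace.toSpec 1 k) φ hφ hdX.le fun Z hZ _ => ?_
    obtain rfl : Z = Set.univ := by
      rw [irreducibleComponents_eq_singleton] at hZ
      exact hZ
    refine Set.nontrivial_of_mem_mem_ne ⟨O, trivial, rfl⟩ ⟨η, trivial, rfl⟩ fun h => hncl ?_
    haveI : IsProper (φ ≫ CohB1.ProjSpace.toSpec 1 k) := by rw [hφ]; infer_instance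
    haveI : IsProper φ := IsProper.of_comp φ (CohB1.ProjSpace.toSpec 1 k)
    rw [← h, ← Set.image_singleton]
    exact φ.isClosedMap _ hO
  -- a coordinate
  have hcov : φ η ∈ ⨆ a, Groth.Agent.AmpleEmb.stdOpen 1 k a := by
    rw [Groth.Agent.AmpleEmb.iSup_stdOpen]; trivial
  obtain ⟨j, hj⟩ := TopologicalSpace.Opens.mem_iSup.1 hcov
  let g : CohB1.polyGrading 1 k 1 := ⟨MvPolynomial.X j, MvPolynomial.isHomogeneous_X k j⟩
  let a : CohB1.polyGrading 1 k 1 := ⟨MvPolynomial.X (1 - j), MvPolynomial.isHomogeneous_X k (1 - j)⟩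
  let V := Proj.basicOpen (CohB1.polyGrading 1 k) g.1
  let U := φ ⁻¹ᵁ V
  have hηU : η ∈ U := hj
  let r := Groth.Agent.ProjCoh.ratioSec (CohB1.polyGrading 1 k) g a
  let b : Γ(X, U) := φ.app V r
  have hb := Groth.Agent.ProjUPLib.appLE_ratio_smul φ g a (U := U) le_rfl
  replace hb : b • Groth.Agent.AmpleLib.resT (Groth.Agent.ProjUPLib.pForm φ g) U = Groth.Agent.AmpleLib.resT (Groth.Agent.ProjUPLib.pForm φ a) U := by
    rw [Scheme.Hom.appLE_eq_app] at hb
    exact hb
  have hbF : X.presheaf.germ U η hηU b * F j = F (1 - j) := by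
    have h1 := congrArg (α.app U) hb
    rw [Scheme.Modules.Hom.app_smul] at h1
    have hres : ∀ i : Fin (1 + 1), α.app U (Groth.Agent.AmpleLib.resT (Groth.Agent.ProjUPLib.pForm φ
        (⟨MvPolynomial.X i, MvPolynomial.isHomogeneous_X k i⟩ : CohB1.polyGrading 1 k 1)) U) =
        Groth.Agent.AmpleLib.resT (σ i) U := fun i =>
      (ConcreteCategory.congr_hom (α.mapPresheaf.naturality (homOfLE (le_top : U ≤ ⊤)).op) _).trans
        (congrArg (fun t => L.presheaf.map (homOfLE (le_top : U ≤ ⊤)).op t) (hτ i))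
    rw [hres j, hres (1 - j)] at h1
    have h2 := congrArg (L.presheaf.germ U η hηU) h1
    rw [Groth.Agent.ParaFLib.germ_smul', Groth.Agent.AmpleLib.resT, Groth.Agent.AmpleLib.resT,
      TopCat.Presheaf.germ_res_apply, TopCat.Presheaf.germ_res_apply, hσ, hσ, smul_smul] at h2
    exact he.1 h2
  refine ⟨φ, hφ, inferInstance, hgenP, ?_, ?_, ?_⟩
  rotate_left
  · have h1 := Groth.Agent.S7640.result k X (CohB1.ProjSpace 1 k) hdX hdP φ hφ hgenP 1 _
      (Groth.Agent.CurveLib.isFinLocFreeOfRank_one (Groth.Agent.AmpleEmb.isInvertible_twistOne 1 k))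
    rw [Groth.Agent.S6579.deg_twist_one, mul_one, Groth.Agent.CurveLib.deg_iso (k := k) τ 1, hdL] at h1
    exact_mod_cast h1.symm
  rotate_left
  · have hmem : ∀ {z : X.functionField}, z = X.presheaf.germ U η hηU b →
        ∃ w, (φ.stalkMap η).hom w = z := fun {z} hz =>
      ⟨(CohB1.ProjSpace 1 k).presheaf.germ V (φ η) hηU r, by
        rw [hz]; exact Scheme.Hom.germ_stalkMap_apply φ V η hηU r⟩
    rcases (by decide : ∀ i : Fin (1 + 1), i = 0 ∨ i = 1) j with rfl | rfl
    · simp [F] at hbF
      exact hmem hbF.symm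
    · simp [F] at hbF
      obtain ⟨w, hw⟩ := hmem (z := x⁻¹) (inv_eq_of_mul_eq_one_left (G := X.functionField) hbF)
      letI := (GenEtale.isField_stalk hgenP).toField
      exact ⟨w⁻¹, by rw [map_inv₀, hw, inv_inv]⟩
  -- separability
  let gY := CohB1.ProjSpace.toSpec 1 k
  have hΩX : PicF.IsInvertible (Omega.sheaf (φ ≫ gY)) := by rw [hφ]; exact omega_invertible_of_smooth k hdX hX0
  obtain ⟨c₁, hc₁, -⟩ := Groth.Agent.S9370.result gY (φ ≫ gY) φ (𝟙 _) (by simp) _ _ (Groth.Agent.OmegaUnivLib.isUniversal_dOmega gY)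
    _ _ (Groth.Agent.OmegaUnivLib.isUniversal_dOmega (φ ≫ gY))
  obtain ⟨c₂, hc₂, -⟩ := Groth.Agent.S9370.result (φ ≫ gY) φ (𝟙 X) gY (by simp) _ _ (Groth.Agent.OmegaUnivLib.isUniversal_dOmega (φ ≫ gY))
    _ _ (Groth.Agent.OmegaUnivLib.isUniversal_dOmega φ)
  obtain ⟨w, hepi, hex⟩ := Groth.Agent.EtAlgEasy.OmegaSeq.exact_comp φ gY (Groth.Agent.OmegaUnivLib.isUniversal_dOmega gY)
    (Groth.Agent.OmegaUnivLib.isUniversal_dOmega (φ ≫ gY)) c₁ hc₁ (Groth.Agent.OmegaUnivLib.isUniversal_dOmega φ) c₂ hc₂
  haveI := hepi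
  have hdb : delta (k := k) η (X.presheaf.germ U η hηU b) ≠ 0 := by
    intro h
    rcases (by decide : ∀ i : Fin (1 + 1), i = 0 ∨ i = 1) j with rfl | rfl
    · simp [F] at hbF
      rw [← hbF] at hdx
      exact hdx h
    · simp [F] at hbF
      refine hdx ?_
      have h1 := delta_mul (k := k) η (X.presheaf.germ U η hηU b) (x : X.presheaf.stalk η)
      rw [h, smul_zero, add_zero] at h1
      have h3 : delta (k := k) η ((X.presheaf.germ U η hηU b : X.presheaf.stalk η) * (x : X.presheaf.stalk η)) = 0 := by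
        rw [show (X.presheaf.germ U η hηU b : X.presheaf.stalk η) * (x : X.presheaf.stalk η) = 1 from hbF,
          show (1 : X.presheaf.stalk η) = Curv2.stalkMap k X η 1 from (map_one _).symm, delta_const]
      rw [h3] at h1
      have hbne : (X.presheaf.germ U η hηU b : X.functionField) ≠ 0 := left_ne_zero_of_mul (b := x)
        (by rw [hbF]; exact one_ne_zero)
      exact (hbne.isUnit.smul_eq_zero).1 h1.symm
  have hne : c₁ ≠ 0 := by
    intro h0
    have h2 : OmegaSh.dSect (φ ≫ gY) U b = 0 := by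
      have h1 := hc₁ V r
      rw [h0] at h1
      exact (h1.symm.trans (by rfl))
    have h4 : ∀ (f : X ⟶ Spec (CommRingCat.of k)), φ ≫ gY = f → OmegaSh.dSect f U b = 0 := by
      rintro _ rfl; exact h2
    refine hdb ?_
    rw [delta_germ (k := k) hηU b, h4 _ hφ]
    exact map_zero _
  have hzero : Subsingleton ((Omega.sheaf φ).presheaf.stalk η) := by
    obtain ⟨e1, he1⟩ := exists_base hΩX
    have hP1 : PicF.IsInvertible ((Scheme.Modules.pullback φ).obj (Omega.sheaf gY)) := by
      refine Groth.Agent.AmpleLib.isInvertible_pullback φ ?_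
      haveI : Smooth (CohB1.ProjSpace 1 k ↘ Spec (CommRingCat.of k)) :=
        Groth.Agent.ProjSmoothLib.smooth_toSpec 1 k
      haveI := Groth.Agent.VBLib.isRegCurve_of_smooth (X := CohB1.ProjSpace 1 k) k hdP.le
      have hP0 : Module.finrank k (Coh.HH (CohB1.ProjSpace 1 k) (Coh.structureModule (CohB1.ProjSpace 1 k)) 0) = 1 := by
        let ψ : Coh.structureModule (CohB1.ProjSpace 1 k) ≅ Twist.twistProjSpace 1 k 0 :=
          @asIso _ _ _ _ (Groth.Agent.ProjCoh.unitToTwist (CohB1.polyGrading 1 k)) Groth.Agent.ProjCoh.isIso_unitToTwist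
        rw [Groth.Agent.ShBCLib.finrank_HH_iso (K := k) ψ 0]
        obtain ⟨E⟩ := Groth.Agent.ProjTwist.nonempty_H0 1 k 0
        exact E.finrank_eq.trans ((Groth.Agent.S4466.finrank_forms k 1 0).trans (by simp))
      exact omega_invertible_of_smooth k hdP hP0
    haveI hmono := (Groth.Agent.CurveLib.deg_eq_add_coker (k := k) hdX.le hP1 hΩX hne).2.2.2.2
    have hnot := Groth.Agent.CurveLib.genericPoint_notMem_support hP1 hΩX hne
    have hsub : Subsingleton ((cokernel c₁).presheaf.stalk η) := by_contra hnot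
    let ψ : cokernel c₁ ≅ Omega.sheaf φ := (cokernelIsCokernel _).coconePointUniqueUpToIso hex.gIsCokernel
    have hψ := (Groth.Agent.PullbackMod.isIso_iff_stalk ψ.hom).1 inferInstance η
    exact hψ.2.subsingleton
  exact ((Groth.Agent.S2158.result φ η).1 hzero).2.2

/-- A function of degree two on a curve of positive genus defines a separable double cover of the line. -/
theorem exists_double_cover {k : Type u} [Field k] {X : Scheme.{u}} [X.Over (Spec (CommRingCat.of k))]
    [IsIntegral X] (hdX : topologicalKrullDim X = 1) [IsProper (X ↘ Spec (CommRingCat.of k))]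
    [Smooth (X ↘ Spec (CommRingCat.of k))]
    (hX0 : Module.finrank k (Coh.HH X (Coh.structureModule X) 0) = 1) (hg : 1 ≤ Curv2.genus k X)
    {x : X.functionField} (hx : Transcendental k x) (hdeg : Module.finrank k⟮x⟯ X.functionField = 2) :
    ∃ f : X ⟶ CohB1.ProjSpace 1 k, f ≫ CohB1.ProjSpace.toSpec 1 k = X ↘ (Spec (CommRingCat.of k)) ∧ IsFinite f ∧
        f.residueDegree (genericPoint X) = 2 ∧
        letI := (f.residueFieldMap (genericPoint X)).hom.toAlgebra
        Algebra.IsSeparable ((CohB1.ProjSpace 1 k).residueField (f (genericPoint X))) (X.residueField (genericPoint X)) := by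
  obtain ⟨f, hf, hfin, -, -, h⟩ := exists_double_cover_range hdX hX0 hg hx hdeg
  exact ⟨f, hf, hfin, h⟩

/-- A function of degree two on a curve of positive genus is separating. -/
theorem isSeparable_of_finrank_two {k : Type u} [Field k] {X : Scheme.{u}} [X.Over (Spec (CommRingCat.of k))]
    [IsIntegral X] (hdX : topologicalKrullDim X = 1) [IsProper (X ↘ Spec (CommRingCat.of k))]
    [Smooth (X ↘ Spec (CommRingCat.of k))]
    (hX0 : Module.finrank k (Coh.HH X (Coh.structureModule X) 0) = 1) (hg : 1 ≤ Curv2.genus k X)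
    {x : X.functionField} (hx : Transcendental k x) (hdeg : Module.finrank k⟮x⟯ X.functionField = 2) :
    Algebra.IsSeparable k⟮x⟯ X.functionField := by
  obtain ⟨f, hf, hfin, hgenP, ⟨z, hz⟩, hrd, hsep⟩ := exists_double_cover_range hdX hX0 hg hx hdeg
  haveI := hfin
  haveI : IsIntegral (CohB1.ProjSpace 1 k) := REqLib.isIntegral_projSpace 1 k
  haveI := GenEtale.surjective_of_generic f hgenP
  letI := NormHomLib.ffAlg f
  haveI := GenEtale.isSeparable_functionField f hsep
  have hfr := (GenEtale.residueDegree_eq_finrank f).symm.trans hrd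
  let ψ : (CohB1.ProjSpace 1 k).functionField →+* X.functionField := (NormHomLib.ffMap f).hom
  have hst : ∀ a, ∃ a', ψ a' = (f.stalkMap (genericPoint X)).hom a := fun a => by
    obtain ⟨a', ha⟩ := (((CohB1.ProjSpace 1 k).presheaf.stalkCongr
      (Inseparable.of_eq (NormHomLib.map_genericPoint f))).commRingCatIsoToRingEquiv.symm).surjective a
    exact ⟨a', congrArg (f.stalkMap (genericPoint X)).hom ha⟩
  have hconst : ∀ c : k, ∃ a', ψ a' = algebraMap k X.functionField c := fun c => by
    obtain ⟨a', ha⟩ := hst ((CohB1.ProjSpace 1 k).presheaf.germ ⊤ (f (genericPoint X)) trivial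
      (Coh.toGlobal (CohB1.ProjSpace.toSpec 1 k) c))
    refine ⟨a', ha.trans ?_⟩
    rw [Scheme.Hom.germ_stalkMap_apply f ⊤ (genericPoint X) trivial]
    refine congrArg (X.presheaf.germ ⊤ (genericPoint X) trivial) ?_
    conv_rhs => rw [← hf]
    rfl
  obtain ⟨a₀, ha₀⟩ := hst z
  rw [hz] at ha₀
  -- the image of the function field of the line is a subfield containing `k(x)`
  let E : IntermediateField k X.functionField :=
    ψ.fieldRange.toIntermediateField fun c => hconst c
  letI : Algebra k⟮x⟯ X.functionField := IntermediateField.toAlgebra _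
  have hle : k⟮x⟯ ≤ E := IntermediateField.adjoin_simple_le_iff.2 ⟨a₀, ha₀⟩
  let eψ : (CohB1.ProjSpace 1 k).functionField ≃+* E := RingEquiv.ofBijective ψ.rangeRestrictFieldEquiv.toRingHom
    ψ.rangeRestrictFieldEquiv.bijective
  have hcomm : (algebraMap E X.functionField).comp eψ.toRingHom =
      (RingEquiv.refl X.functionField).toRingHom.comp (algebraMap (CohB1.ProjSpace 1 k).functionField X.functionField) :=
    RingHom.ext fun _ => rfl
  haveI : Algebra.IsSeparable E X.functionField := Algebra.IsSeparable.of_equiv_equiv eψ (RingEquiv.refl _) hcomm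
  have hE : Module.finrank E X.functionField = 2 :=
    (Algebra.finrank_eq_of_equiv_equiv eψ (RingEquiv.refl _) hcomm).symm.trans hfr
  haveI : FiniteDimensional k⟮x⟯ X.functionField := Module.finite_of_finrank_eq_succ hdeg
  have heq : k⟮x⟯ = E := IntermediateField.eq_of_le_of_finrank_eq' hle (hdeg.trans hE.symm)
  rw [heq]
  infer_instance

end Groth.Agent.CurveFF
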