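import Groth.Agent.FF.Clifford
import Groth.Agent.FF.Misc
import Groth.Agent.FF.Quadratic

/-!
# Quadratic extensions of `k(x)` all of whose squares lie in `k(x)`

Over every finite place the ring of integers is generated by one element `y`, and over infinity by `y / x ^ m`.
-/

set_option autoImplicit false
set_option linter.style.haveILetI false

universe u

noncomputable section

namespace Groth.Agent.CurveFF.DStruct

open FunFld Polynomial
open scoped WithZero IntermediateField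

variable {k K : Type u} [Field k] [Field K] [Algebra k K] {x : K}

lemma aeval_mem (p : k[X]) : aeval x p ∈ k⟮x⟯ :=
  IntermediateField.algebra_adjoin_le_adjoin k _ (aeval_mem_adjoin_singleton k x)

lemma aeval_ne_zero (hx : Transcendental k x) {p : k[X]} (hp : p ≠ 0) : aeval x p ≠ 0 :=
  fun h => hx ⟨p, hp, h⟩

lemma exists_frac (hx : Transcendental k x) {r : K} (hr : r ∈ k⟮x⟯) :
    ∃ u w : k[X], w ≠ 0 ∧ r = aeval x u / aeval x w := by
  obtain ⟨u, w, rfl⟩ := (IntermediateField.mem_adjoin_simple_iff k r).1 hr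
  rcases eq_or_ne w 0 with rfl | hw
  · exact ⟨0, 1, one_ne_zero, by simp⟩
  · exact ⟨u, w, hw, rfl⟩

lemma v_aeval_le_one {Q : Place k K} (hQ : Q.1 x ≤ 1) (p : k[X]) : Q.1 (aeval x p) ≤ 1 := by
  induction p using Polynomial.induction_on' with
  | add p q hp hq => rw [map_add]; exact (Q.1.map_add _ _).trans (max_le hp hq)
  | monomial n c =>
    rw [aeval_monomial, map_mul, map_pow]
    exact mul_le_one' (Q.2.1 c) (pow_le_one₀ zero_le hQ)

lemma v_aeval_le_pow {Q : Place k K} (hQ : 1 ≤ Q.1 x) {p : k[X]} {d : ℕ} (hp : p.natDegree ≤ d) :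
    Q.1 (aeval x p) ≤ Q.1 x ^ d := by
  rw [aeval_eq_sum_range' (Nat.lt_succ_of_le hp)]
  refine Q.1.map_sum_le fun i hi => (FF.v_smul_le Q _ _).trans ?_
  rw [map_pow]
  exact pow_le_pow_right₀ hQ (Nat.lt_succ_iff.1 (Finset.mem_range.1 hi))

lemma v_aeval_eq {Q : Place k K} (hQ : 1 < Q.1 x) {p : k[X]} (hp : p ≠ 0) :
    Q.1 (aeval x p) = Q.1 x ^ p.natDegree := by
  have hlead : Q.1 (algebraMap k K p.leadingCoeff * x ^ p.natDegree) = Q.1 x ^ p.natDegree := by
    rw [map_mul, FF.v_algebraMap Q (leadingCoeff_ne_zero.2 hp), one_mul, map_pow]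
  conv_lhs => rw [← eraseLead_add_C_mul_X_pow p]
  rw [map_add, map_mul, aeval_C, map_pow, aeval_X]
  rcases eq_or_ne p.eraseLead 0 with h | h
  · rw [h, map_zero, zero_add, hlead]
  · rw [Q.1.map_add_eq_of_lt_right ?_, hlead]
    have hd : p.eraseLead.natDegree < p.natDegree :=
      (eraseLead_natDegree_lt_or_eraseLead_eq_zero p).resolve_right h
    rw [hlead]
    exact (v_aeval_le_pow hQ.le le_rfl).trans_lt (pow_lt_pow_right₀ hQ hd)

lemma exists_irreducible {Q : Place k K} {w : k[X]} (hw : w ≠ 0) (h : Q.1 (aeval x w) < 1) :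
    ∃ π : k[X], Irreducible π ∧ Q.1 (aeval x π) < 1 := by
  induction w using WfDvdMonoid.induction_on_irreducible with
  | zero => exact absurd rfl hw
  | unit u hu =>
    obtain ⟨c, hc, rfl⟩ := Polynomial.isUnit_iff.1 hu
    rw [aeval_C, FF.v_algebraMap Q hc.ne_zero] at h
    exact absurd h (lt_irrefl _)
  | mul a i ha hi ih =>
    rw [map_mul, map_mul] at h
    by_cases hi' : Q.1 (aeval x i) < 1
    · exact ⟨i, hi, hi'⟩
    · refine ih ha (lt_of_not_ge fun h1 => not_le.2 h ?_)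
      exact one_le_mul (not_lt.1 hi') h1

lemma v_eq_one_of_not_dvd {Q : Place k K} (hQ : Q.1 x ≤ 1) {π : k[X]} (hπ : Irreducible π)
    (h : Q.1 (aeval x π) < 1) {p : k[X]} (hp : ¬ π ∣ p) : Q.1 (aeval x p) = 1 := by
  refine le_antisymm (v_aeval_le_one hQ p) (not_lt.1 fun hlt => ?_)
  obtain ⟨r, s, hrs⟩ := (hπ.coprime_iff_not_dvd).2 hp
  have h1 := congrArg (fun t => Q.1 (aeval x t)) hrs
  simp only [map_add, map_mul, map_one] at h1
  have key : Q.1 (aeval x r * aeval x π + aeval x s * aeval x p) < 1 := by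
    refine (Q.1.map_add _ _).trans_lt (max_lt ?_ ?_)
    · rw [map_mul]; exact mul_lt_one_of_nonneg_of_lt_one_right (v_aeval_le_one hQ r) zero_le h
    · rw [map_mul]; exact mul_lt_one_of_nonneg_of_lt_one_right (v_aeval_le_one hQ s) zero_le hlt
  exact key.ne h1

/-- A nonzero element of `k(x)` is a power of `π` times a fraction prime to `π`. -/
lemma exists_split (hx : Transcendental k x) {π : k[X]} (hπ : Irreducible π) {r : K} (hr : r ∈ k⟮x⟯) (h0 : r ≠ 0) :
    ∃ (i j : ℕ) (u w : k[X]), ¬ π ∣ u ∧ ¬ π ∣ w ∧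
      r = aeval x (π ^ i * u) / aeval x (π ^ j * w) := by
  obtain ⟨u₀, w₀, hw₀, rfl⟩ := exists_frac hx hr
  have hu₀ : u₀ ≠ 0 := fun h => h0 (by simp [h])
  obtain ⟨i, u, hu, rfl⟩ := WfDvdMonoid.max_power_factor hu₀ hπ
  obtain ⟨j, w, hw, rfl⟩ := WfDvdMonoid.max_power_factor hw₀ hπ
  exact ⟨i, j, u, w, hu, hw, rfl⟩

lemma v_split {Q : Place k K} (hQ : Q.1 x ≤ 1) {π : k[X]} (hπ : Irreducible π) (h : Q.1 (aeval x π) < 1)
    {i j : ℕ} {u w : k[X]} (hu : ¬ π ∣ u) (hw : ¬ π ∣ w) :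
    Q.1 (aeval x (π ^ i * u) / aeval x (π ^ j * w)) = Q.1 (aeval x π) ^ i / Q.1 (aeval x π) ^ j := by
  rw [map_div₀, map_mul, map_mul, map_mul, map_mul, map_pow, map_pow, map_pow, map_pow,
    v_eq_one_of_not_dvd hQ hπ h hu, v_eq_one_of_not_dvd hQ hπ h hw, mul_one, mul_one]

lemma v_le_one_of_sq {Q Q' : Place k K} (hsq : ∀ z : K, z ^ 2 ∈ k⟮x⟯)
    (h : ∀ r ∈ k⟮x⟯, Q.1 r ≤ 1 → Q'.1 r ≤ 1) : Q = Q' := by
  refine FF.place_eq_of_le Q fun z hz => ?_
  have h1 := h _ (hsq z) (by rw [map_pow]; exact pow_le_one₀ zero_le hz)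
  rw [map_pow] at h1
  exact (pow_le_one_iff two_ne_zero).1 h1

/-- The place above infinity is unique. -/
lemma infinity_unique (hx : Transcendental k x) (hsq : ∀ z : K, z ^ 2 ∈ k⟮x⟯) {Q Q' : Place k K}
    (hQ : 1 < Q.1 x) (hQ' : 1 < Q'.1 x) : Q = Q' := by
  refine v_le_one_of_sq hsq fun r hr h => ?_
  obtain ⟨u, w, hw, rfl⟩ := exists_frac hx hr
  rcases eq_or_ne u 0 with rfl | hu
  · simp
  rw [map_div₀, v_aeval_eq hQ hu, v_aeval_eq hQ hw, div_le_one₀ (pow_pos (zero_lt_one.trans hQ) _)] at h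
  rw [map_div₀, v_aeval_eq hQ' hu, v_aeval_eq hQ' hw, div_le_one₀ (pow_pos (zero_lt_one.trans hQ') _)]
  exact pow_le_pow_right₀ hQ'.le ((pow_le_pow_iff_right₀ hQ).1 h)

/-- The place above a finite place is unique. -/
lemma finite_unique (hx : Transcendental k x) (hsq : ∀ z : K, z ^ 2 ∈ k⟮x⟯) {Q Q' : Place k K}
    {π : k[X]} (hπ : Irreducible π) (hQ : Q.1 x ≤ 1) (hQ' : Q'.1 x ≤ 1)
    (h : Q.1 (aeval x π) < 1) (h' : Q'.1 (aeval x π) < 1) : Q = Q' := by
  refine v_le_one_of_sq hsq fun r hr hr1 => ?_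
  rcases eq_or_ne r 0 with rfl | h0
  · simp
  obtain ⟨i, j, u, w, hu, hw, rfl⟩ := exists_split hx hπ hr h0
  have hpos : ∀ R : Place k K, 0 < R.1 (aeval x π) := fun R =>
    zero_lt_iff.2 (R.1.ne_zero_iff.2 (aeval_ne_zero hx hπ.ne_zero))
  rw [v_split hQ hπ h hu hw, div_le_one₀ (pow_pos (hpos Q) _), pow_le_pow_iff_right_of_lt_one₀ (hpos Q) h] at hr1
  rw [v_split hQ' hπ h' hu hw, div_le_one₀ (pow_pos (hpos Q') _), pow_le_pow_iff_right_of_lt_one₀ (hpos Q') h']
  exact hr1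

/-- The structure of `K` over `k(x)`. -/
theorem double_structure (hK : IsFunctionField k K) (hx : Transcendental k x)
    (hdeg : Module.finrank k⟮x⟯ K = 2) (hsq : ∀ z : K, z ^ 2 ∈ k⟮x⟯) :
    ∃ (y : K) (P : Place k K) (m : ℕ), 1 ≤ m ∧ y ∉ k⟮x⟯ ∧ 1 < P.1 x ∧ P.1 (y / x ^ m) ≤ 1 ∧
      (∀ Q : Place k K, Q ≠ P → Q.1 y ≤ 1 ∧
        ∀ f : K, Q.1 f ≤ 1 → ∃ a ∈ k⟮x⟯, ∃ b ∈ k⟮x⟯, f = a + b * y ∧ Q.1 b ≤ 1) ∧
      (∀ f : K, P.1 f ≤ 1 → ∃ a ∈ k⟮x⟯, ∃ b ∈ k⟮x⟯, f = a + b * (y / x ^ m) ∧ P.1 b ≤ 1) := by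
  classical
  have hx0 : x ≠ 0 := fun h => hx (h ▸ isAlgebraic_zero)
  obtain ⟨P, hP'⟩ := FF.exists_zero hK (x := x⁻¹) (fun h => hx (by simpa using h.inv))
  have hPx : 1 < P.1 x := by
    rwa [map_inv₀, inv_lt_one₀ (zero_lt_iff.2 (P.1.ne_zero_iff.2 hx0))] at hP'
  have hfin : ∀ {Q : Place k K}, Q ≠ P → Q.1 x ≤ 1 := fun {Q} hQ =>
    not_lt.1 fun h => hQ (infinity_unique hx hsq h hPx)
  set M : Set K := {z | z ∉ k⟮x⟯ ∧ ∀ Q : Place k K, Q.1 x ≤ 1 → Q.1 z ≤ 1} with hM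
  -- regular functions outside `k(x)` exist
  have hne : M.Nonempty := by
    obtain ⟨z, hz⟩ : ∃ z : K, z ∉ k⟮x⟯ := by
      by_contra h
      push Not at h
      have htop : k⟮x⟯ = ⊤ := eq_top_iff.2 fun z _ => h z
      have : Module.finrank k⟮x⟯ K = 1 := by rw [htop]; exact IntermediateField.finrank_top
      omega
    obtain ⟨u, w, hw, huw⟩ := exists_frac hx (hsq z)
    refine ⟨z * aeval x w, fun h => hz ?_, fun Q hQ => ?_⟩
    · have := div_mem h (aeval_mem (x := x) w)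
      rwa [mul_div_cancel_right₀ _ (aeval_ne_zero hx hw)] at this
    · refine (pow_le_one_iff two_ne_zero).1 ?_
      rw [← map_pow, mul_pow, huw, sq (aeval x w), ← mul_assoc, div_mul_cancel₀ _ (aeval_ne_zero hx hw), map_mul]
      exact mul_le_one' (v_aeval_le_one hQ u) (v_aeval_le_one hQ w)
  -- one of them has a minimal pole at infinity
  have hM0 : ∀ z ∈ M, z ≠ 0 ∧ P.ord z < 0 := by
    rintro z ⟨hz, hzr⟩
    have hz0 : z ≠ 0 := fun h => hz (h ▸ zero_mem _)
    refine ⟨hz0, not_le.1 fun hle => hz ?_⟩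
    have h0 : z ∈ L (0 : Divisor k K) := fun Q => by
      rw [Finsupp.coe_zero, Pi.zero_apply, WithZero.exp_zero]
      rcases eq_or_ne Q P with rfl | hQ
      · exact (FF.v_le_one_iff _ hz0).2 hle
      · exact hzr Q (hfin hQ)
    obtain ⟨c, rfl⟩ := Submodule.mem_one.1 (FF.L_zero_le hK h0)
    exact IntermediateField.algebraMap_mem _ c
  obtain ⟨y, hy, hy_min⟩ : ∃ y ∈ M, ∀ z ∈ M, (-P.ord y).toNat ≤ (-P.ord z).toNat := by
    have hex : ∃ n, ∃ z ∈ M, (-P.ord z).toNat = n := ⟨_, _, hne.some_mem, rfl⟩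
    obtain ⟨y, hy, hn⟩ := Nat.find_spec hex
    exact ⟨y, hy, fun z hz => hn ▸ Nat.find_min' hex ⟨z, hz, rfl⟩⟩
  have hy0 := hM0 y hy
  have hYgt : 1 < P.1 y := not_le.1 fun h => not_le.2 hy0.2 ((FF.v_le_one_iff P hy0.1).1 h)
  have hmin : ∀ z ∈ M, P.1 y ≤ P.1 z := by
    intro z hz
    have h := hy_min z hz
    rw [FF.v_eq_exp P hy0.1, FF.v_eq_exp P (hM0 z hz).1, WithZero.exp_le_exp]
    have := (hM0 z hz).2
    omega
  -- the exponent at infinity
  have hexm : ∃ m : ℕ, P.1 y ≤ P.1 x ^ m := by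
    refine ⟨(-P.ord y).toNat, ?_⟩
    have hX : (1 : ℤ) ≤ -P.ord x := by
      have h1 : P.1 x = WithZero.exp (-P.ord x) := FF.v_eq_exp P hx0
      rw [h1, ← WithZero.exp_zero, WithZero.exp_lt_exp] at hPx
      omega
    rw [← map_pow, FF.v_eq_exp P hy0.1, FF.v_eq_exp P (pow_ne_zero _ hx0), FF.ord_pow, WithZero.exp_le_exp]
    nlinarith [hy0.2, Int.toNat_of_nonneg (show 0 ≤ -P.ord y by omega)]
  set m := Nat.find hexm with hmdef
  have hm : P.1 y ≤ P.1 x ^ m := Nat.find_spec hexm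
  have hm1 : 1 ≤ m := Nat.one_le_iff_ne_zero.2 fun h => by
    rw [h, pow_zero] at hm; exact not_le.2 hYgt hm
  have hm' : P.1 x ^ (m - 1) < P.1 y := not_le.1 (Nat.find_min hexm (by omega))
  have hXm : 0 < P.1 x ^ m := pow_pos (zero_lt_one.trans hPx) m
  have hy' : P.1 (y / x ^ m) ≤ 1 := by rw [map_div₀, map_pow, div_le_one₀ hXm]; exact hm
  have hyF : y ∉ k⟮x⟯ := hy.1
  have hrep : ∀ f : K, ∃ a ∈ k⟮x⟯, ∃ b ∈ k⟮x⟯, f = a + b * y := by
    intro f
    obtain ⟨a, b, hab⟩ := FF.Quad.exists_repr (K := k⟮x⟯) (K' := K) hdeg (s := y)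
      (fun ⟨c, hc⟩ => hyF (hc ▸ c.2)) f
    exact ⟨a.1, a.2, b.1, b.2, hab⟩
  refine ⟨y, P, m, hm1, hyF, hPx, hy', fun Q hQP => ⟨hy.2 Q (hfin hQP), fun f hf => ?_⟩, fun f hf => ?_⟩
  · -- a finite place
    have hQ := hfin hQP
    obtain ⟨a, ha, b, hb, rfl⟩ := hrep f
    refine ⟨a, ha, b, hb, rfl, not_lt.1 fun hb1 => ?_⟩
    have hb0 : b ≠ 0 := fun h => by rw [h, map_zero] at hb1; exact not_lt.2 zero_le hb1
    obtain ⟨π, hπ, hπQ⟩ : ∃ π : k[X], Irreducible π ∧ Q.1 (aeval x π) < 1 := by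
      obtain ⟨u, w, hw, rfl⟩ := exists_frac hx hb
      refine exists_irreducible hw ?_
      rw [map_div₀, one_lt_div₀ (zero_lt_iff.2 (Q.1.ne_zero_iff.2 (aeval_ne_zero hx hw)))] at hb1
      exact hb1.trans_le (v_aeval_le_one hQ u)
    set c := Q.1 (aeval x π)
    have hc0 : 0 < c := zero_lt_iff.2 (Q.1.ne_zero_iff.2 (aeval_ne_zero hx hπ.ne_zero))
    -- `a / b + y` is divisible by `π`
    have hclose : Q.1 (a / b + y) ≤ c := by
      have h1 : Q.1 b⁻¹ ≤ c := by
        obtain ⟨i, j, u, w, hu, hw, rfl⟩ := exists_split hx hπ hb hb0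
        rw [v_split hQ hπ hπQ hu hw, one_lt_div₀ (pow_pos hc0 _)] at hb1
        rw [map_inv₀, v_split hQ hπ hπQ hu hw, inv_div, div_le_iff₀ (pow_pos hc0 _), ← pow_succ']
        exact pow_le_pow_of_le_one zero_le hπQ.le ((pow_lt_pow_iff_right_of_lt_one₀ hc0 hπQ).1 hb1)
      calc Q.1 (a / b + y) = Q.1 (a + b * y) * Q.1 b⁻¹ := by
            rw [← map_mul]; congr 1; field_simp
        _ ≤ 1 * c := mul_le_mul' hf h1
        _ = c := one_mul c
    have ha' : Q.1 (a / b) ≤ 1 := by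
      have := (Q.1.map_sub (a / b + y) y).trans (max_le (hclose.trans hπQ.le) (hy.2 Q hQ))
      rwa [add_sub_cancel_right] at this
    obtain ⟨α, β, hβ, hαβ⟩ : ∃ α β : k[X], ¬ π ∣ β ∧ a / b = aeval x α / aeval x β := by
      rcases eq_or_ne (a / b) 0 with h0 | h0
      · exact ⟨0, 1, fun h => hπ.not_isUnit (isUnit_of_dvd_one h), by simp [h0]⟩
      obtain ⟨i, j, u, w, hu, hw, heq⟩ := exists_split hx hπ (div_mem ha hb) h0
      rw [heq, v_split hQ hπ hπQ hu hw, div_le_one₀ (pow_pos hc0 _), pow_le_pow_iff_right_of_lt_one₀ hc0 hπQ] at ha'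
      refine ⟨π ^ (i - j) * u, w, hw, ?_⟩
      rw [heq, show π ^ i * u = π ^ j * (π ^ (i - j) * u) by rw [← mul_assoc, ← pow_add, Nat.add_sub_cancel' ha'],
        map_mul (aeval x) (π ^ j), map_mul (aeval x) (π ^ j) w,
        mul_div_mul_left _ _ (aeval_ne_zero hx (pow_ne_zero _ hπ.ne_zero))]
    obtain ⟨r, s, hrs⟩ := ((hπ.coprime_iff_not_dvd).2 hβ).symm
    set a₀ := (r * α) % π
    have hdiff : Q.1 (aeval x a₀ - a / b) ≤ c := by
      have h2 : r * α = π * ((r * α) / π) + a₀ := (EuclideanDomain.div_add_mod _ _).symm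
      have h3 := congrArg (aeval x) h2
      have h4 := congrArg (aeval x) hrs
      simp only [map_add, map_mul, map_one] at h3 h4
      have hβ0 : aeval x β ≠ 0 := aeval_ne_zero hx (fun h => hβ (h ▸ dvd_zero π))
      have h5 : a / b * aeval x β = aeval x α := by rw [hαβ, div_mul_cancel₀ _ hβ0]
      rw [show aeval x a₀ - a / b = aeval x π * (-(aeval x ((r * α) / π)) - a / b * aeval x s) by
        linear_combination a / b * h4 - h3 - aeval x r * h5, map_mul]
      exact mul_le_of_le_one_right zero_le ((Q.1.map_sub _ _).trans (max_le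
        (by rw [Valuation.map_neg]; exact v_aeval_le_one hQ _)
        (by rw [map_mul]; exact mul_le_one' (by rw [hαβ, map_div₀, v_eq_one_of_not_dvd hQ hπ hπQ hβ, div_one]; exact v_aeval_le_one hQ α) (v_aeval_le_one hQ s))))
    have hπd : 1 ≤ π.natDegree := hπ.natDegree_pos
    have hπ0 := aeval_ne_zero hx hπ.ne_zero
    set z := (aeval x a₀ + y) / aeval x π with hz
    have hzM : z ∈ M := by
      refine ⟨fun h => hyF ?_, fun Q' hQ' => ?_⟩
      · have := sub_mem (mul_mem h (aeval_mem (x := x) π)) (aeval_mem (x := x) a₀)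
        rwa [hz, div_mul_cancel₀ _ hπ0, add_sub_cancel_left] at this
      · rw [hz, map_div₀]
        rcases lt_or_ge (Q'.1 (aeval x π)) 1 with h | h
        · obtain rfl := finite_unique hx hsq hπ hQ' hQ h hπQ
          rw [div_le_one₀ hc0, show aeval x a₀ + y = (aeval x a₀ - a / b) + (a / b + y) by ring]
          exact (Q'.1.map_add _ _).trans (max_le hdiff hclose)
        · rw [le_antisymm (v_aeval_le_one hQ' π) h, div_one]
          exact (Q'.1.map_add _ _).trans (max_le (v_aeval_le_one hQ' a₀) (hy.2 Q' hQ'))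
    refine not_lt.2 (hmin z hzM) ?_
    have hpd : 0 < P.1 x ^ π.natDegree := pow_pos (zero_lt_one.trans hPx) _
    rw [hz, map_div₀, v_aeval_eq hPx hπ.ne_zero, div_lt_iff₀ hpd]
    refine (P.1.map_add _ _).trans_lt (max_lt ?_ ?_)
    · rcases eq_or_ne a₀ 0 with h | h
      · rw [h, map_zero, map_zero]; exact mul_pos (zero_lt_one.trans hYgt) hpd
      · have hd : a₀.natDegree ≤ π.natDegree :=
          Polynomial.natDegree_le_natDegree (EuclideanDomain.mod_lt (r * α) hπ.ne_zero).le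
        calc P.1 (aeval x a₀) ≤ P.1 x ^ π.natDegree := v_aeval_le_pow hPx.le hd
          _ = 1 * P.1 x ^ π.natDegree := (one_mul _).symm
          _ < P.1 y * P.1 x ^ π.natDegree := mul_lt_mul_of_pos_right hYgt hpd
    · exact lt_mul_of_one_lt_right (zero_lt_one.trans hYgt) (one_lt_pow₀ hPx (by omega))
  · -- infinity
    obtain ⟨a, ha, b₀, hb₀, rfl⟩ := hrep f
    set y' := y / x ^ m with hy'def
    have hxm : x ^ m ≠ 0 := pow_ne_zero _ hx0
    set b := b₀ * x ^ m with hbdef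
    have hb : b ∈ k⟮x⟯ := mul_mem hb₀ (pow_mem (IntermediateField.mem_adjoin_simple_self k x) m)
    have hby : b₀ * y = b * y' := by rw [hbdef, hy'def]; field_simp
    rw [hby] at hf ⊢
    refine ⟨a, ha, b, hb, rfl, not_lt.1 fun hb1 => ?_⟩
    have hb0 : b ≠ 0 := fun h => by rw [h, map_zero] at hb1; exact not_lt.2 zero_le hb1
    have hbinv : P.1 b⁻¹ ≤ (P.1 x)⁻¹ := by
      obtain ⟨u, w, hw, heq⟩ := exists_frac hx hb
      have hu : u ≠ 0 := fun h => hb0 (by simp [heq, h])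
      rw [heq, map_div₀, v_aeval_eq hPx hu, v_aeval_eq hPx hw, one_lt_div₀ (pow_pos (zero_lt_one.trans hPx) _),
        pow_lt_pow_iff_right₀ hPx] at hb1
      rw [map_inv₀, heq, map_div₀, v_aeval_eq hPx hu, v_aeval_eq hPx hw]
      gcongr
      · exact zero_lt_one.trans hPx
      rw [le_div_iff₀ (pow_pos (zero_lt_one.trans hPx) _), ← pow_succ']
      exact pow_le_pow_right₀ hPx.le hb1
    have hclose : P.1 (a / b + y') ≤ (P.1 x)⁻¹ :=
      calc P.1 (a / b + y') = P.1 (a + b * y') * P.1 b⁻¹ := by rw [← map_mul]; congr 1; field_simp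
        _ ≤ 1 * (P.1 x)⁻¹ := mul_le_mul' hf hbinv
        _ = _ := one_mul _
    have hX1 : (P.1 x)⁻¹ ≤ 1 := (inv_le_one₀ (zero_lt_one.trans hPx)).2 hPx.le
    have ha' : P.1 (a / b) ≤ 1 := by
      have := (P.1.map_sub (a / b + y') y').trans (max_le (hclose.trans hX1) hy')
      rwa [add_sub_cancel_right] at this
    -- its value at infinity
    obtain ⟨c, hc⟩ : ∃ c : k, P.1 (a / b - algebraMap k K c) ≤ (P.1 x)⁻¹ := by
      obtain ⟨u, w, hw, heq⟩ := exists_frac hx (div_mem ha hb)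
      have hw0 := aeval_ne_zero hx hw
      rcases eq_or_ne u 0 with hu | hu
      · exact ⟨0, by simp [heq, hu]⟩
      rw [heq, map_div₀, v_aeval_eq hPx hu, v_aeval_eq hPx hw, div_le_one₀ (pow_pos (zero_lt_one.trans hPx) _),
        pow_le_pow_iff_right₀ hPx] at ha'
      refine ⟨u.coeff w.natDegree / w.leadingCoeff, ?_⟩
      set c := u.coeff w.natDegree / w.leadingCoeff
      have e : a / b - algebraMap k K c = aeval x (u - C c * w) / aeval x w := by
        rw [heq, map_sub, map_mul, aeval_C]; field_simp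
      rw [e, map_div₀, v_aeval_eq hPx hw, div_le_iff₀ (pow_pos (zero_lt_one.trans hPx) _)]
      rcases eq_or_ne (u - C c * w) 0 with h0 | h0
      · rw [h0, map_zero, map_zero]; exact zero_le
      have hlt : (u - C c * w).natDegree < w.natDegree := by
        refine lt_of_le_of_ne ((natDegree_sub_le _ _).trans (max_le ha' (natDegree_C_mul_le c w))) fun h => ?_
        have h1 : (u - C c * w).leadingCoeff = 0 := by
          rw [leadingCoeff, h, coeff_sub, coeff_C_mul, coeff_natDegree,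
            div_mul_cancel₀ _ (leadingCoeff_ne_zero.2 hw), sub_self]
        exact h0 (leadingCoeff_eq_zero.1 h1)
      rw [v_aeval_eq hPx h0, le_inv_mul_iff₀ (zero_lt_one.trans hPx), ← pow_succ']
      exact pow_le_pow_right₀ hPx.le hlt
    set z := y + algebraMap k K c * x ^ m with hz
    have hzM : z ∈ M := by
      refine ⟨fun h => hyF ?_, fun Q hQ => ?_⟩
      · have := sub_mem h (mul_mem (IntermediateField.algebraMap_mem k⟮x⟯ c)
          (pow_mem (IntermediateField.mem_adjoin_simple_self k x) m))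
        rwa [hz, add_sub_cancel_right] at this
      · refine (Q.1.map_add _ _).trans (max_le (hy.2 Q hQ) ?_)
        rw [map_mul, map_pow]
        exact mul_le_one' (Q.2.1 c) (pow_le_one₀ zero_le hQ)
    refine not_lt.2 (hmin z hzM) ?_
    have e : z = x ^ m * ((a / b + y') - (a / b - algebraMap k K c)) := by rw [hz, hy'def]; field_simp; ring
    calc P.1 z ≤ P.1 x ^ m * (P.1 x)⁻¹ := by
          rw [e, map_mul, map_pow]
          exact mul_le_mul_of_nonneg_left ((P.1.map_sub _ _).trans (max_le hclose hc)) zero_le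
      _ = P.1 x ^ (m - 1) := by
          conv_lhs => rw [show m = m - 1 + 1 by omega, pow_succ]
          rw [mul_inv_cancel_right₀ (zero_lt_one.trans hPx).ne']
      _ < P.1 y := hm'

end Groth.Agent.CurveFF.DStruct
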