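import Groth.Agent.CurveFF.CanGen
import Groth.Agent.CurveFF.Omega
import Groth.Agent.CurveFF.DoubleStruct

/-!
# A degree two function on a curve of positive genus has nonzero differential
-/

set_option autoImplicit false
set_option backward.isDefEq.respectTransparency false
set_option maxHeartbeats 800000
set_option linter.style.haveILetI false

universe u

open CategoryTheory AlgebraicGeometry TopologicalSpace
open scoped WithZero IntermediateField

noncomputable section

namespace Groth.Agent.CurveFF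

attribute [local instance] Curv2.stalkAlgebra
attribute [local instance high] FunFld.Place.algRes

section FFLemmas

open FunFld

variable {k K : Type u} [Field k] [Field K] [Algebra k K]

/-- For positive genus a nonconstant member of the space of an effective divisor of degree two
generates a subfield of index two. -/
theorem finrank_eq_two_of_mem_L (hK : IsFunctionField k K) (hg : 1 ≤ genus k K) {D : Divisor k K}
    (hD0 : 0 ≤ D) (hD2 : D.deg = 2) {x : K} (hxD : x ∈ L D) (hx : Transcendental k x) :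
    Module.finrank k⟮x⟯ K = 2 := by
  have hx0 : x ≠ 0 := fun h => hx (h ▸ isAlgebraic_zero)
  have hx' : Transcendental k x⁻¹ := fun h => hx (by simpa using h.inv)
  have hle : FF.zeros (k := k) x⁻¹ ≤ D := fun Q => by
    rw [FF.zeros_apply hK, FF.ord_inv]
    have := (FF.mem_L_iff_ord hx0).1 hxD Q
    have := hD0 Q
    simp only [Finsupp.coe_zero, Pi.zero_apply] at this
    omega
  have hd := FF.deg_zeros hK hx'
  rw [FF.adjoin_inv] at hd
  have h2 := FF.deg_mono hle
  rw [hd, hD2] at h2
  haveI := FF.finiteDimensional_adjoin hK hx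
  have hpos : 0 < Module.finrank k⟮x⟯ K := Module.finrank_pos
  by_contra hne
  have h1 : Module.finrank k⟮x⟯ K = 1 := by omega
  set E := FF.zeros (k := k) x⁻¹
  have hE1 : E.deg = 1 := by rw [hd, h1]; rfl
  set n : ℕ := 2 * genus k K
  have hnE : ((n : ℤ) • E).deg = n := by rw [FF.deg_smul, hE1, mul_one]
  have hell := FF.ell_of_deg_large hK (D := (n : ℤ) • E) (by rw [hnE]; omega)
  rw [hnE] at hell
  haveI := FF.finite_L hK ((n : ℤ) • E)
  have hmem : ∀ i : Fin (n + 1), x ^ (i : ℕ) ∈ L ((n : ℤ) • E) := fun i =>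
    FF.L_mono (show ((i : ℕ) : ℤ) • E ≤ (n : ℤ) • E from fun Q => by
      simp only [Finsupp.smul_apply, smul_eq_mul]
      exact mul_le_mul_of_nonneg_right (by omega) (FF.zeros_nonneg x⁻¹ Q)) (FF.mem_L_zeros_inv hK hx0 i)
  have hli : LinearIndependent k (fun i : Fin (n + 1) => x ^ (i : ℕ)) := by
    have h := ((Polynomial.basisMonomials k).linearIndependent.map' (Polynomial.aeval x).toLinearMap
      (LinearMap.ker_eq_bot.2 (transcendental_iff_injective.1 hx))).comp (fun i : Fin (n + 1) => (i : ℕ)) Fin.val_injective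
    rw [show (fun i : Fin (n + 1) => x ^ (i : ℕ)) =
      ((Polynomial.aeval x).toLinearMap ∘ Polynomial.basisMonomials k) ∘ fun i : Fin (n + 1) => (i : ℕ) from
        funext fun i => by simp [Polynomial.aeval_monomial]]
    exact h
  have hcard := (LinearIndependent.of_comp (L ((n : ℤ) • E)).subtype
    (v := fun i => (⟨_, hmem i⟩ : L ((n : ℤ) • E))) hli).fintype_card_le_finrank
  rw [Fintype.card_fin] at hcard
  change n + 1 ≤ ell _ at hcard
  omega

end FFLemmas

variable {k : Type u} [Field k] {X : Scheme.{u}} [X.Over (Spec (CommRingCat.of k))]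
  [IsProper (X ↘ Spec (CommRingCat.of k))] [IsIntegral X] [VBLib.IsRegCurve X] [Smooth (X ↘ Spec (CommRingCat.of k))]
  (hdim : topologicalKrullDim X = 1) (h0 : Module.finrank k (Coh.HH X (Coh.structureModule X) 0) = 1)
include hdim h0

/-- On a curve of positive genus, a function of degree two has nonzero differential. -/
theorem delta_ne_zero_of_finrank_two (hg : 1 ≤ Curv2.genus k X) {x : X.functionField} (hx : Transcendental k x)
    (hdeg : Module.finrank k⟮x⟯ X.functionField = 2) :
    delta (k := k) (genericPoint X) x ≠ 0 := by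
  classical
  intro hdx
  have hK := isFunctionField k hdim h0
  let η := genericPoint X
  let δ : X.functionField → (om k X).presheaf.stalk η := fun z => delta (k := k) η z
  have hadd : ∀ a b, δ (a + b) = δ a + δ b := delta_add η
  have hmul : ∀ a b : X.functionField, δ (a * b) =
      (a : X.presheaf.stalk η) • δ b + (b : X.presheaf.stalk η) • δ a := delta_mul η
  have hcst : ∀ c : k, δ (algebraMap k X.functionField c) = 0 := fun c => by
    rw [← algebraMap_stalkMap η c]
    refine Eq.trans ?_ (delta_const (k := k) η c)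
    exact congrArg _ congr($(TopCat.Presheaf.stalkSpecializes_refl X.presheaf η) _)
  have hzero : δ 0 = 0 := by simpa using hcst 0
  have hpoly : ∀ p : Polynomial k, δ (Polynomial.aeval x p) = 0 := by
    intro p
    induction p using Polynomial.induction_on with
    | C c => rw [Polynomial.aeval_C]; exact hcst c
    | add p q hp hq => rw [map_add, hadd, hp, hq, add_zero]
    | monomial n c h =>
      rw [pow_succ, ← mul_assoc, map_mul, Polynomial.aeval_X, hmul, h, show δ x = 0 from hdx, smul_zero, smul_zero,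
        add_zero]
  have hcancel : ∀ (a : X.functionField) (v : (om k X).presheaf.stalk η), a ≠ 0 →
      (a : X.presheaf.stalk η) • v = 0 → v = 0 := fun a v ha h => by
    have := congrArg (fun w => ((a⁻¹ : X.functionField) : X.presheaf.stalk η) • w) h
    simp only [smul_smul, smul_zero] at this
    rwa [show ((a⁻¹ : X.functionField) : X.presheaf.stalk η) * (a : X.presheaf.stalk η) = 1 from inv_mul_cancel₀ ha,
      one_smul] at this
  have hF : ∀ r ∈ k⟮x⟯, δ r = 0 := by
    intro r hr
    obtain ⟨u, w, hw, rfl⟩ := DStruct.exists_frac hx hr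
    have hw0 := DStruct.aeval_ne_zero hx hw
    refine hcancel _ _ hw0 ?_
    have h := hmul (Polynomial.aeval x w) (Polynomial.aeval x u / Polynomial.aeval x w)
    rw [mul_div_cancel₀ _ hw0, hpoly, hpoly, smul_zero, add_zero] at h
    exact h.symm
  -- the generic stalk is not zero
  have hΩ := omega_invertible_of_smooth k hdim h0 (X := X)
  obtain ⟨e0, he0⟩ := exists_base hΩ
  have hnz : ¬ ∀ z, δ z = 0 := fun h => by
    have hm : ∀ m, m = (0 : (om k X).presheaf.stalk η) := fun m => by
      have hmem : m ∈ Submodule.span (X.presheaf.stalk η) (Set.range (delta (k := k) η)) :=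
        (span_range_delta η).ge Submodule.mem_top
      induction hmem using Submodule.span_induction with
      | mem w hw => obtain ⟨z, rfl⟩ := hw; exact h z
      | zero => rfl
      | add a b _ _ ha hb => rw [ha, hb, add_zero]
      | smul r a _ ha => rw [ha, smul_zero]
    exact one_ne_zero (α := X.presheaf.stalk η) (he0.1 ((hm _).trans (hm ((0 : X.presheaf.stalk η) • e0)).symm))
  -- all squares lie in `k(x)`
  have hrep : ∀ {z : X.functionField}, z ∉ k⟮x⟯ → ∀ f, ∃ a ∈ k⟮x⟯, ∃ b ∈ k⟮x⟯, f = a + b * z := by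
    intro z hz f
    obtain ⟨a, b, hab⟩ := FF.Quad.exists_repr (K := k⟮x⟯) (K' := X.functionField) hdeg (s := z)
      (fun ⟨c, hc⟩ => hz (hc ▸ c.2)) f
    exact ⟨a.1, a.2, b.1, b.2, hab⟩
  have hcoef : ∀ {z : X.functionField}, ∀ a ∈ k⟮x⟯, ∀ b ∈ k⟮x⟯,
      δ (a + b * z) = (b : X.presheaf.stalk η) • δ z := by
    intro z a ha b hb
    rw [hadd, hF a ha, zero_add, hmul, hF b hb, smul_zero, add_zero]
  have hsq : ∀ z : X.functionField, z ^ 2 ∈ k⟮x⟯ := by
    intro z
    by_cases hz : z ∈ k⟮x⟯
    · exact pow_mem hz 2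
    obtain ⟨a, ha, b, hb, hab⟩ := hrep hz (z ^ 2)
    have hδz : δ z ≠ 0 := fun h => hnz fun f => by
      obtain ⟨c, hc, d, hd, rfl⟩ := hrep hz f
      rw [hcoef c hc d hd, h, smul_zero]
    have h1 : δ (z ^ 2) = ((z + z : X.functionField) : X.presheaf.stalk η) • δ z := by
      rw [sq, hmul]; exact (add_smul (z : X.presheaf.stalk η) z (δ z)).symm
    rw [hab, hcoef a ha b hb] at h1
    have h2 : b = z + z := by
      by_contra hne
      refine hδz (hcancel (b - (z + z)) _ (sub_ne_zero.2 hne) ?_)
      show ((b : X.presheaf.stalk η) - ((z + z : X.functionField) : X.presheaf.stalk η)) • δ z = 0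
      rw [sub_smul, h1, sub_self]
    have h22 : (2 : X.functionField) = 0 := by
      by_contra h
      refine hz ?_
      have : z = b / 2 := by rw [h2]; field_simp; ring
      rw [this]
      exact div_mem hb (ofNat_mem _ 2)
    have hb0 : b = 0 := by rw [h2, ← two_mul, h22, zero_mul]
    rw [hab, hb0, zero_mul, add_zero]
    exact ha
  obtain ⟨y, P, m, hm, hy, hPx, hy', hfinQ, hinf⟩ := DStruct.double_structure hK hx hdeg hsq
  have hy1 : δ y ≠ 0 := fun h => hnz fun f => by
    obtain ⟨a, ha, b, hb, rfl⟩ := hrep hy f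
    rw [hcoef a ha b hb, h, smul_zero]
  have he : IsBase (om k X) (δ y) := by
    obtain ⟨a, ha⟩ := he0.2 (δ y)
    have ha0 : (a : X.functionField) ≠ 0 := fun h => hy1 (by
      rw [← ha]; show (a : X.presheaf.stalk η) • e0 = 0; rw [show (a : X.presheaf.stalk η) = 0 from h, zero_smul])
    have hfun : (fun r : X.presheaf.stalk η => r • δ y) = (fun r : X.presheaf.stalk η => r • e0) ∘ fun r => r * a := by
      funext r; simp only [Function.comp_apply]; rw [← ha]; exact smul_smul r a e0
    show Function.Bijective _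
    rw [hfun]
    exact he0.comp (mulRight_bijective₀ (G₀ := X.functionField) a ha0)
  obtain ⟨D, hD⟩ := exists_isDiv hdim h0 hΩ he
  have hdegD : 0 ≤ D.deg := by
    rw [← (genus_and_deg hdim h0 hΩ he hD).2, (omega_deg_h0 k hdim h0).1]
    omega
  have hspan : ∀ (z : X) (w : (om k X).presheaf.stalk z) (T : Set X.functionField),
      (∀ a : X.presheaf.stalk z, ∃ c ∈ T, δ (algebraMap _ X.functionField a) = (c : X.presheaf.stalk η) • δ y) →
      ∀ (hT0 : (0 : X.functionField) ∈ T) (hTa : ∀ a ∈ T, ∀ b ∈ T, a + b ∈ T)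
        (hTs : ∀ (r : X.presheaf.stalk z), ∀ a ∈ T, algebraMap _ X.functionField r * a ∈ T),
      ∃ c ∈ T, spec (om k X) z w = (c : X.presheaf.stalk η) • δ y := by
    intro z w T hgen hT0 hTa hTs
    have hmem : w ∈ Submodule.span (X.presheaf.stalk z) (Set.range (delta (k := k) z)) :=
      (span_range_delta z).ge Submodule.mem_top
    induction hmem using Submodule.span_induction with
    | mem v hv =>
      obtain ⟨a, rfl⟩ := hv
      obtain ⟨c, hc, hc'⟩ := hgen a
      exact ⟨c, hc, (spec_delta z a).trans hc'⟩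
    | zero => exact ⟨0, hT0, by rw [map_zero]; exact (zero_smul _ _).symm⟩
    | add a b _ _ ha hb =>
      obtain ⟨c, hc, hc'⟩ := ha
      obtain ⟨d, hd, hd'⟩ := hb
      exact ⟨c + d, hTa c hc d hd, by rw [map_add, hc', hd']; exact (add_smul (c : X.presheaf.stalk η) d _).symm⟩
    | smul r a _ ha =>
      obtain ⟨c, hc, hc'⟩ := ha
      exact ⟨_, hTs r c hc, by rw [spec_smul, hc', smul_smul]⟩
  -- the coefficients lie in a fractional ideal `{c | v c ≤ ε}` which contains `ε`
  have key : ∀ (z : X) (hz : IsClosed ({z} : Set X)) (y₁ f₁ : X.functionField), f₁ ≠ 0 →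
      (placeOf k hdim z hz).1 y₁ ≤ 1 → δ y₁ = (f₁ : X.presheaf.stalk η) • δ y →
      (∀ f, (placeOf k hdim z hz).1 f ≤ 1 → ∃ a ∈ k⟮x⟯, ∃ b ∈ k⟮x⟯, f = a + b * y₁ ∧ (placeOf k hdim z hz).1 b ≤ 1) →
      WithZero.exp (D (placeOf k hdim z hz)) = (placeOf k hdim z hz).1 f₁ := by
    intro z hz y₁ f₁ hf₁ hy₁ hδ hall
    set Q := placeOf k hdim z hz
    refine le_antisymm ?_ ?_
    · obtain ⟨f, hf⟩ := Q.2.2 (WithZero.exp (D Q))
      obtain ⟨w, hw⟩ := (hD z hz f).2 hf.le
      obtain ⟨c, hc, hc'⟩ := hspan z w {c | Q.1 c ≤ Q.1 f₁} (fun a => by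
          obtain ⟨a', ha', b', hb', hab, hb1⟩ := hall _ ((placeOf_le_one_iff hdim hz _).2 ⟨a, rfl⟩)
          refine ⟨b' * f₁, ?_, ?_⟩
          · show Q.1 _ ≤ _; rw [map_mul]; exact mul_le_of_le_one_left zero_le hb1
          · rw [hab, hcoef a' ha' b' hb', hδ, smul_smul]) (by simp)
        (fun a ha b hb => (Q.1.map_add _ _).trans (max_le ha hb))
        (fun r a ha => by
          show Q.1 _ ≤ _
          rw [map_mul]
          exact (mul_le_of_le_one_left zero_le ((placeOf_le_one_iff hdim hz _).2 ⟨r, rfl⟩)).trans ha)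
      have hfc : f = c := he.1 (hw.symm.trans hc')
      rw [← hfc] at hc
      exact hf.symm.le.trans hc
    · obtain ⟨r, hr⟩ := (placeOf_le_one_iff hdim hz y₁).1 hy₁
      exact (hD z hz f₁).1 ⟨delta z r, (spec_delta z r).trans (by rw [hr]; exact hδ)⟩
  have hD0 : ∀ Q, Q ≠ P → D Q = 0 := by
    intro Q hQ
    obtain ⟨z, hz, rfl⟩ := placeOf_surjective hdim Q
    obtain ⟨hy1', hall⟩ := hfinQ _ hQ
    have h := key z hz y 1 one_ne_zero hy1' (one_smul _ _).symm hall
    rwa [map_one, ← WithZero.exp_zero, WithZero.exp_inj] at h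
  have hDP : D P < 0 := by
    obtain ⟨z, hz, hzP⟩ := placeOf_surjective hdim P
    subst hzP
    have hx0 : x ≠ 0 := fun h => hx (h ▸ isAlgebraic_zero)
    have hδ : δ (y / x ^ m) = (((x ^ m)⁻¹ : X.functionField) : X.presheaf.stalk η) • δ y := by
      rw [div_eq_inv_mul, ← zero_add ((x ^ m)⁻¹ * y)]
      exact hcoef 0 (zero_mem _) _ (inv_mem (pow_mem (IntermediateField.mem_adjoin_simple_self k x) m))
    have h := key z hz (y / x ^ m) (x ^ m)⁻¹ (inv_ne_zero (pow_ne_zero _ hx0)) hy' hδ hinf
    rw [← WithZero.exp_lt_exp, h, WithZero.exp_zero, map_inv₀, map_pow]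
    exact inv_lt_one_of_one_lt₀ (one_lt_pow₀ hPx (by omega))
  have hDs : D = Finsupp.single P (D P) := Finsupp.ext fun Q => by
    rcases eq_or_ne Q P with rfl | hQ
    · rw [Finsupp.single_eq_same]
    · rw [Finsupp.single_eq_of_ne hQ, hD0 Q hQ]
  rw [hDs, FF.deg_single] at hdegD
  exact not_lt.2 hdegD (mul_neg_of_neg_of_pos hDP (by exact_mod_cast FF.deg_pos hK P))

end Groth.Agent.CurveFF
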