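import Groth.Agent.CurveFF.DoubleCover
import Groth.Agent.FF.RR
import Groth.Agent.S7676
import Groth.Agent.S7640

/-!
# Double covers of the line and `g¹₂`'s over an arbitrary field
-/

set_option autoImplicit false
set_option backward.isDefEq.respectTransparency false
set_option maxHeartbeats 800000
set_option linter.style.haveILetI false

universe u

open CategoryTheory Limits AlgebraicGeometry TopologicalSpace
open scoped WithZero IntermediateField

noncomputable section

namespace Groth.Agent.CurveFF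

attribute [local instance] Curv2.stalkAlgebra Curv2.resAlgebra
attribute [local instance high] FunFld.Place.algRes

section FFLemmas

open FunFld Polynomial

variable {k K : Type u} [Field k] [Field K] [Algebra k K]

/-- An element of `k(x)` regular away from infinity is a polynomial in `x`. -/
theorem exists_aeval_of_regular (hK : IsFunctionField k K) {x : K} (hx : Transcendental k x) {z : K}
    (hz : z ∈ k⟮x⟯) (hreg : ∀ Q : Place k K, Q.1 x ≤ 1 → Q.1 z ≤ 1) : ∃ p : k[X], z = aeval x p := by
  obtain ⟨u, w, hw, rfl⟩ := DStruct.exists_frac hx hz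
  clear hz
  induction w using WfDvdMonoid.induction_on_irreducible generalizing u with
  | zero => exact absurd rfl hw
  | unit v hv =>
    obtain ⟨c, hc, rfl⟩ := Polynomial.isUnit_iff.1 hv
    exact ⟨C c⁻¹ * u, by rw [map_mul, aeval_C, aeval_C, map_inv₀, div_eq_inv_mul]⟩
  | mul a i ha hi ih =>
    have ht : Transcendental k (aeval x i) := fun h => by
      obtain ⟨c, hc⟩ := hK.2 _ h
      rw [← aeval_C] at hc
      have := transcendental_iff_injective.1 hx hc
      have hdeg := hi.natDegree_pos
      rw [← this, natDegree_C] at hdeg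
      exact lt_irrefl _ hdeg
    obtain ⟨Q, hQ⟩ := FF.exists_zero hK ht
    have hQx : Q.1 x ≤ 1 := not_lt.1 fun h => not_le.2 hQ (by
      rw [DStruct.v_aeval_eq h hi.ne_zero]; exact one_le_pow₀ h.le)
    obtain ⟨u', rfl⟩ : i ∣ u := by
      by_contra hu
      have h1 := hreg Q hQx
      rw [map_div₀, DStruct.v_eq_one_of_not_dvd hQx hi hQ hu, map_mul, map_mul] at h1
      have hlt : Q.1 (aeval x i) * Q.1 (aeval x a) < 1 :=
        mul_lt_one_of_nonneg_of_lt_one_left zero_le hQ (DStruct.v_aeval_le_one hQx a)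
      have hpos : 0 < Q.1 (aeval x i) * Q.1 (aeval x a) := mul_pos
        (zero_lt_iff.2 (Q.1.ne_zero_iff.2 (DStruct.aeval_ne_zero hx hi.ne_zero)))
        (zero_lt_iff.2 (Q.1.ne_zero_iff.2 (DStruct.aeval_ne_zero hx ha)))
      exact not_lt.2 h1 ((one_lt_div₀ hpos).2 hlt)
    have e : aeval x (i * u') / aeval x (i * a) = aeval x u' / aeval x a := by
      rw [map_mul, map_mul, mul_div_mul_left _ _ (DStruct.aeval_ne_zero hx hi.ne_zero)]
    rw [e] at hreg ⊢
    exact ih u' ha hreg

/-- For positive genus, the space of a divisor of degree two has dimension at most two. -/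
theorem ell_le_two (hK : IsFunctionField k K) (hg : 1 ≤ genus k K) {D : Divisor k K} (hdeg : D.deg = 2) :
    ell D ≤ 2 := by
  classical
  by_contra hlt
  push Not at hlt
  obtain ⟨f, hf, hf0⟩ := Submodule.exists_mem_ne_zero_of_ne_bot (p := L D) fun h => by
    rw [ell, h, finrank_bot] at hlt; omega
  set D' := D + div k f with hD'
  have hd' : D'.deg = 2 := by rw [hD', FF.deg_add, FF.deg_div hK, hdeg, add_zero]
  have hD0 : 0 ≤ D' := fun Q => by
    have := (FF.mem_L_iff_ord hf0).1 hf Q
    simp only [Finsupp.coe_zero, Pi.zero_apply, hD', Finsupp.add_apply, FF.div_apply hK]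
    omega
  have hl : 3 ≤ ell D' := by rw [hD', FF.ell_add_div hK D hf0]; exact hlt
  haveI := FF.finite_L hK D'
  -- a nonconstant member
  have hone : (1 : K) ∈ L D' := FF.one_mem_L hD0
  obtain ⟨x, hxL, hx1⟩ : ∃ x ∈ L D', x ∉ k ∙ (1 : K) := by
    by_contra h
    push Not at h
    have h1 := Submodule.finrank_mono (show L D' ≤ k ∙ (1 : K) from h)
    rw [finrank_span_singleton one_ne_zero] at h1
    simp only [ell] at hl
    omega
  have hx : Transcendental k x := FF.transcendental_of_not_mem hK fun ⟨c, hc⟩ => hx1 (hc ▸ by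
    rw [Algebra.algebraMap_eq_smul_one]; exact Submodule.smul_mem _ c (Submodule.mem_span_singleton_self _))
  have hdeg2 := finrank_eq_two_of_mem_L hK hg hD0 hd' hxL hx
  have hx0 : x ≠ 0 := fun h => hx (h ▸ isAlgebraic_zero)
  obtain ⟨z, hzL, hz1⟩ : ∃ z ∈ L D', z ∉ Submodule.span k {(1 : K), x} := by
    by_contra h
    push Not at h
    haveI : FiniteDimensional k (Submodule.span k {(1 : K), x}) := FiniteDimensional.span_of_finite k (by simp)
    have h1 := (Submodule.finrank_mono (show L D' ≤ Submodule.span k {(1 : K), x} from h)).trans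
      (finrank_span_le_card (R := k) ({(1 : K), x} : Set K))
    have h2 : ({(1 : K), x} : Set K).toFinset.card ≤ 2 := by
      rw [Set.toFinset_insert, Set.toFinset_singleton]; exact (Finset.card_insert_le _ _).trans (by simp)
    simp only [ell] at hl
    omega
  -- `D'` is the polar divisor of `x`
  have hDx : D' = FF.zeros (k := k) x⁻¹ := by
    have hle : FF.zeros (k := k) x⁻¹ ≤ D' := fun Q => by
      rw [FF.zeros_apply hK, FF.ord_inv]
      have := (FF.mem_L_iff_ord hx0).1 hxL Q
      have := hD0 Q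
      simp only [Finsupp.coe_zero, Pi.zero_apply] at this
      omega
    have h1 : (D' - FF.zeros (k := k) x⁻¹).deg ≤ 0 := by
      rw [FF.deg_sub, hd', FF.deg_zeros hK (fun h => hx (by simpa using h.inv)), FF.adjoin_inv, hdeg2]; norm_num
    exact sub_eq_zero.1 (FF.eq_zero_of_nonneg_of_deg hK (sub_nonneg.2 hle) h1)
  have hDQ : ∀ Q, D' Q = max (-Q.ord x) 0 := fun Q => by rw [hDx, FF.zeros_apply hK, FF.ord_inv]
  have hzreg : ∀ Q : Place k K, Q.1 x ≤ 1 → Q.1 z ≤ 1 := fun Q hQ => by
    have h := hzL Q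
    rwa [hDQ, max_eq_right (by have := (FF.v_le_one_iff Q hx0).1 hQ; omega), WithZero.exp_zero] at h
  by_cases hzF : z ∈ k⟮x⟯
  · obtain ⟨p, rfl⟩ := exists_aeval_of_regular hK hx hzF hzreg
    obtain ⟨Q, hQ⟩ := FF.exists_zero hK (x := x⁻¹) (fun h => hx (by simpa using h.inv))
    have hQx : 1 < Q.1 x := by
      rwa [map_inv₀, inv_lt_one₀ (zero_lt_iff.2 (Q.1.ne_zero_iff.2 hx0))] at hQ
    have hp : p.natDegree ≤ 1 := by
      rcases eq_or_ne p 0 with rfl | hp0
      · simp
      have h := hzL Q
      rw [DStruct.v_aeval_eq hQx hp0, hDQ, max_eq_left (by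
        have := mt (FF.v_le_one_iff Q hx0).2 (not_le.2 hQx); omega), ← FF.v_eq_exp Q hx0] at h
      exact (pow_le_pow_iff_right₀ hQx).1 (h.trans_eq (pow_one _).symm)
    refine hz1 ?_
    rw [Polynomial.eq_X_add_C_of_natDegree_le_one hp, map_add, map_mul, aeval_C, aeval_C, aeval_X,
      ← Algebra.smul_def, Algebra.algebraMap_eq_smul_one]
    exact add_mem (Submodule.smul_mem _ _ (Submodule.subset_span (by simp)))
      (Submodule.smul_mem _ _ (Submodule.subset_span (by simp)))
  · -- too many functions: genus zero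
    set n : ℕ := 2 * genus k K + 1
    let φ : (Polynomial.degreeLT k (n + 1) × Polynomial.degreeLT k n) →ₗ[k] K :=
      ((aeval x).toLinearMap.comp (Polynomial.degreeLT k (n + 1)).subtype).coprod
        ((LinearMap.mulRight k z).comp ((aeval x).toLinearMap.comp (Polynomial.degreeLT k n).subtype))
    have hφi : Function.Injective φ := by
      rw [← LinearMap.ker_eq_bot, LinearMap.ker_eq_bot']
      rintro ⟨⟨p, hp⟩, ⟨q, hq⟩⟩ h
      change aeval x p + aeval x q * z = 0 at h
      rcases eq_or_ne q 0 with rfl | hq0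
      · have hp0 : p = 0 := transcendental_iff_injective.1 hx (by simpa using h)
        subst hp0
        rfl
      · refine absurd ?_ hzF
        have : z = -aeval x p / aeval x q := by
          rw [eq_div_iff (DStruct.aeval_ne_zero hx hq0)]; linear_combination h
        rw [this]
        exact div_mem (neg_mem (DStruct.aeval_mem p)) (DStruct.aeval_mem q)
    have hpow : ∀ (p : k[X]) (m : ℕ), p ∈ Polynomial.degreeLT k (m + 1) → aeval x p ∈ L ((m : ℤ) • D') := by
      intro p m hp
      rw [aeval_eq_sum_range' (n := m + 1) (by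
        rcases eq_or_ne p 0 with rfl | hp0
        · simp
        · exact (Polynomial.natDegree_lt_iff_degree_lt hp0).2 (Polynomial.mem_degreeLT.1 hp))]
      refine sum_mem fun i hi => Submodule.smul_mem _ _ (FF.L_mono (fun Q => ?_) (FF.mem_L_zeros_inv hK hx0 i))
      rw [← hDx]
      simp only [Finsupp.smul_apply, smul_eq_mul]
      exact mul_le_mul_of_nonneg_right (by have := Finset.mem_range.1 hi; omega) (hD0 Q)
    have hrange : LinearMap.range φ ≤ L ((n : ℤ) • D') := by
      rintro _ ⟨⟨⟨p, hp⟩, ⟨q, hq⟩⟩, rfl⟩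
      refine add_mem (hpow p n hp) ?_
      have h := FF.mul_mem_L (hpow q (n - 1) (by rwa [show n - 1 + 1 = n by omega])) hzL
      rwa [show (((n - 1 : ℕ) : ℤ)) • D' + D' = (n : ℤ) • D' by
        rw [Nat.cast_sub (by omega), Nat.cast_one, sub_smul, one_smul, sub_add_cancel]] at h
    haveI := FF.finite_L hK ((n : ℤ) • D')
    have h1 := Submodule.finrank_mono hrange
    haveI := LinearEquiv.finiteDimensional (Polynomial.degreeLTEquiv k (n + 1)).symm
    haveI := LinearEquiv.finiteDimensional (Polynomial.degreeLTEquiv k n).symm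
    rw [LinearMap.finrank_range_of_inj hφi, Module.finrank_prod, (Polynomial.degreeLTEquiv k (n + 1)).finrank_eq,
      (Polynomial.degreeLTEquiv k n).finrank_eq, Module.finrank_fin_fun, Module.finrank_fin_fun] at h1
    have h2 := FF.ell_of_deg_large hK (D := (n : ℤ) • D') (by rw [FF.deg_smul, hd']; omega)
    rw [FF.deg_smul, hd'] at h2
    simp only [ell] at h2
    omega

/-- There are infinitely many places. -/
theorem infinite_places (hK : IsFunctionField k K) : Infinite (Place k K) := by
  classical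
  rw [← not_finite_iff_infinite]
  intro hfin
  haveI := Fintype.ofFinite (Place k K)
  obtain ⟨⟨x, hx, -⟩, -⟩ := id hK
  let p : Place k K → k[X] := fun Q => if h : ∃ p : k[X], p ≠ 0 ∧ Q.1 (aeval x p) < 1 then h.choose else 1
  have hp0 : ∀ Q, p Q ≠ 0 := fun Q => by
    simp only [p]; split_ifs with h
    · exact h.choose_spec.1
    · exact one_ne_zero
  let P : k[X] := X * ∏ Q, p Q + 1
  have hP : P.natDegree ≠ 0 := by
    rw [show P.natDegree = (X * ∏ Q, p Q).natDegree from Polynomial.natDegree_add_C,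
      natDegree_mul X_ne_zero (Finset.prod_ne_zero_iff.2 fun Q _ => hp0 Q), natDegree_X]
    omega
  have hP0 : P ≠ 0 := fun h => hP (by rw [h, natDegree_zero])
  have ht : Transcendental k (aeval x P) := fun h => by
    obtain ⟨c, hc⟩ := hK.2 _ h
    rw [← aeval_C] at hc
    exact hP (by rw [← transcendental_iff_injective.1 hx hc, natDegree_C])
  obtain ⟨Q, hQ⟩ := FF.exists_zero hK ht
  have hQx : Q.1 x ≤ 1 := not_lt.1 fun h => not_le.2 hQ (by
    rw [DStruct.v_aeval_eq h hP0]; exact one_le_pow₀ h.le)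
  have hex : ∃ p : k[X], p ≠ 0 ∧ Q.1 (aeval x p) < 1 := ⟨P, hP0, hQ⟩
  have hQp : Q.1 (aeval x (p Q)) < 1 := by simp only [p, dif_pos hex]; exact hex.choose_spec.2
  have h1 : Q.1 (aeval x (X * ∏ Q, p Q)) < 1 := by
    rw [← Finset.mul_prod_erase _ _ (Finset.mem_univ Q), mul_left_comm, map_mul, map_mul]
    exact mul_lt_one_of_nonneg_of_lt_one_left zero_le hQp (DStruct.v_aeval_le_one hQx _)
  have h2 := (Q.1.map_sub (aeval x P) (aeval x (X * ∏ Q, p Q))).trans_lt (max_lt hQ h1)
  rw [← map_sub, show P - X * ∏ Q, p Q = 1 by simp only [P]; ring, map_one, map_one] at h2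
  exact lt_irrefl _ h2

end FFLemmas

variable {k : Type u} [Field k] {X : Scheme.{u}} [X.Over (Spec (CommRingCat.of k))]
  [IsProper (X ↘ Spec (CommRingCat.of k))] [IsIntegral X] [Smooth (X ↘ Spec (CommRingCat.of k))]
  (hdim : topologicalKrullDim X = 1) (h0 : Module.finrank k (Coh.HH X (Coh.structureModule X) 0) = 1)
include hdim h0

/-- A `g¹₂` on a curve of positive genus gives a separable double cover of the line. -/
theorem exists_double_cover_of_g12 (hg : 1 ≤ Curv2.genus k X) {L : X.Modules} (hL : PicF.IsInvertible L)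
    (hd : Curv2.deg k X L 1 = 2) (h2 : 2 ≤ Module.finrank k (Coh.HH X L 0)) :
    ∃ f : X ⟶ CohB1.ProjSpace 1 k, f ≫ CohB1.ProjSpace.toSpec 1 k = X ↘ (Spec (CommRingCat.of k)) ∧ IsFinite f ∧
        f.residueDegree (genericPoint X) = 2 ∧
        letI := (f.residueFieldMap (genericPoint X)).hom.toAlgebra
        Algebra.IsSeparable ((CohB1.ProjSpace 1 k).residueField (f (genericPoint X))) (X.residueField (genericPoint X)) := by
  classical
  haveI := EulerIneqLib.isNoetherian_proper (X := X) k
  haveI := VBLib.isRegCurve_of_smooth (X := X) k hdim.le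
  have hK := isFunctionField k hdim h0
  obtain ⟨e, he⟩ := exists_base hL
  obtain ⟨D, hD⟩ := exists_isDiv hdim h0 hL he
  rw [finrank_H0_eq_ell hdim hL he hD] at h2
  have hdD : D.deg = 2 := by rw [← (genus_and_deg hdim h0 hL he hD).2, hd]
  have hgF : 1 ≤ FunFld.genus k X.functionField := by rw [← genus_eq hdim h0]; exact hg
  haveI := FF.finite_L hK D
  obtain ⟨f₀, hf₀, hne⟩ := Submodule.exists_mem_ne_zero_of_ne_bot (p := FunFld.L D) fun h => by
    rw [FunFld.ell, h, finrank_bot] at h2; omega
  obtain ⟨f₁, hf₁, hne₁⟩ : ∃ f₁ ∈ FunFld.L D, f₁ ∉ k ∙ f₀ := by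
    by_contra h
    push Not at h
    have h1 := Submodule.finrank_mono (show FunFld.L D ≤ k ∙ f₀ from h)
    rw [finrank_span_singleton hne] at h1
    simp only [FunFld.ell] at h2
    omega
  have hx : Transcendental k (f₁ / f₀) := FF.transcendental_of_not_mem hK fun ⟨c, hc⟩ => hne₁ (by
    rw [Submodule.mem_span_singleton]; exact ⟨c, by rw [Algebra.smul_def, hc, div_mul_cancel₀ _ hne]⟩)
  refine exists_double_cover hdim h0 hg hx (finrank_eq_two_of_mem_L hK hgF (D := D + FunFld.div k f₀) ?_ ?_ ?_ hx)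
  · intro Q
    have := (FF.mem_L_iff_ord hne).1 hf₀ Q
    simp only [Finsupp.coe_zero, Pi.zero_apply, Finsupp.add_apply, FF.div_apply hK]
    omega
  · rw [FF.deg_add, FF.deg_div hK, hdD, add_zero]
  · have hne' : f₁ ≠ 0 := fun h => hne₁ (h ▸ zero_mem _)
    refine (FF.mem_L_iff_ord (div_ne_zero hne' hne)).2 fun Q => ?_
    have := (FF.mem_L_iff_ord hne').1 hf₁ Q
    rw [div_eq_mul_inv, FF.ord_mul Q hne' (inv_ne_zero hne), FF.ord_inv, Finsupp.add_apply, FF.div_apply hK]
    omega

/-- The pullback of `O(1)` along a double cover is a `g¹₂`. -/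
theorem g12_of_double_cover (hg : 1 ≤ Curv2.genus k X) (f : X ⟶ CohB1.ProjSpace 1 k)
    (hf : f ≫ CohB1.ProjSpace.toSpec 1 k = X ↘ Spec (CommRingCat.of k)) [IsFinite f]
    (hrd : f.residueDegree (genericPoint X) = 2) :
    PicF.IsInvertible ((Scheme.Modules.pullback f).obj (Twist.twistProjSpace 1 k 1)) ∧
      Curv2.deg k X ((Scheme.Modules.pullback f).obj (Twist.twistProjSpace 1 k 1)) 1 = 2 ∧
      Module.finrank k (Coh.HH X ((Scheme.Modules.pullback f).obj (Twist.twistProjSpace 1 k 1)) 0) = 2 := by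
  classical
  haveI := EulerIneqLib.isNoetherian_proper (X := X) k
  haveI := VBLib.isRegCurve_of_smooth (X := X) k hdim.le
  have hK := isFunctionField k hdim h0
  set η := genericPoint X
  haveI : IsIntegral (CohB1.ProjSpace 1 k) := REqLib.isIntegral_projSpace 1 k
  haveI : IsProper (CohB1.ProjSpace 1 k ↘ Spec (CommRingCat.of k)) :=
    inferInstanceAs (IsProper (CohB1.ProjSpace.toSpec 1 k))
  have hdP : topologicalKrullDim (CohB1.ProjSpace 1 k) = 1 := by exact_mod_cast S10829.result k 1
  -- the generic point goes to the generic point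
  have hncl : ¬ IsClosed ({f η} : Set (CohB1.ProjSpace 1 k)) := fun hcl => by
    have hr : f ⁻¹' {f η} = Set.univ := Set.eq_univ_of_forall fun z => by
      have h : f η ⤳ f z := ((genericPoint_spec X).specializes (y := z) trivial).map f.continuous
      exact hcl.closure_eq.le h.mem_closure
    have hfin : (Set.univ : Set X).Finite := hr ▸ IsFinite.finite_preimage_singleton f (f η)
    haveI : Finite X := Set.finite_univ_iff.1 hfin
    haveI := infinite_places hK
    haveI : Finite (FunFld.Place k X.functionField) := by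
      refine Finite.of_surjective (fun z : {z : X // IsClosed ({z} : Set X)} => placeOf k hdim z.1 z.2) fun P => ?_
      obtain ⟨z, hz, rfl⟩ := placeOf_surjective hdim P
      exact ⟨⟨z, hz⟩, rfl⟩
    exact not_finite (FunFld.Place k X.functionField)
  have hgenP := eq_generic_of_not_closed k (X := CohB1.ProjSpace 1 k) hdP hncl
  have hL : PicF.IsInvertible ((Scheme.Modules.pullback f).obj (Twist.twistProjSpace 1 k 1)) :=
    AmpleLib.isInvertible_pullback f (AmpleEmb.isInvertible_twistOne 1 k)
  have hdeg : Curv2.deg k X ((Scheme.Modules.pullback f).obj (Twist.twistProjSpace 1 k 1)) 1 = 2 := by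
    have h1 := S7640.result k X (CohB1.ProjSpace 1 k) hdim hdP f hf hgenP 1 _
      (CurveLib.isFinLocFreeOfRank_one (AmpleEmb.isInvertible_twistOne 1 k))
    rw [S6579.deg_twist_one, mul_one, hrd] at h1
    exact h1
  refine ⟨hL, hdeg, ?_⟩
  set L := (Scheme.Modules.pullback f).obj (Twist.twistProjSpace 1 k 1)
  obtain ⟨e, he⟩ := exists_base hL
  obtain ⟨D, hD⟩ := exists_isDiv hdim h0 hL he
  have hdD : D.deg = 2 := by rw [← (genus_and_deg hdim h0 hL he hD).2, hdeg]
  rw [finrank_H0_eq_ell hdim hL he hD]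
  refine le_antisymm (ell_le_two hK (by rw [← genus_eq hdim h0]; exact hg) hdD) ?_
  by_contra hlt
  have hle : FunFld.ell D ≤ 1 := by omega
  haveI := FF.finite_L hK D
  -- a single function spans
  obtain ⟨f₀, hf₀⟩ : ∃ f₀, ∀ a ∈ FunFld.L D, ∃ c : k, a = c • f₀ := by
    obtain ⟨v, hv⟩ := finrank_le_one_iff.1 hle
    refine ⟨v.1, fun a ha => ?_⟩
    obtain ⟨c, hc⟩ := hv ⟨a, ha⟩
    exact ⟨c, (congrArg Subtype.val hc).symm⟩
  let σ := fun i : Fin (1 + 1) => ProjUP.pullSec f (Twist.twistProjSpace 1 k 1) (ProjUP.coord 1 k i)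
  have hgenσ : ProjUP.GeneratedBy L σ := S7676.gen_coord 1 k f
  have hmem : ∀ i, ∃ a ∈ FunFld.L D, L.presheaf.germ ⊤ η trivial (σ i) = (a : X.presheaf.stalk η) • e := by
    intro i
    obtain ⟨a, ha⟩ := he.2 (L.presheaf.germ ⊤ η trivial (σ i))
    refine ⟨a, fun P => ?_, ha.symm⟩
    obtain ⟨z, hz, rfl⟩ := placeOf_surjective hdim P
    exact (hD z hz a).1 ⟨L.presheaf.germ ⊤ z trivial (σ i), (spec_germ L (U := ⊤) trivial trivial _).trans ha.symm⟩
  have hkey : ∀ Q : FunFld.Place k X.functionField, WithZero.exp (D Q) ≤ Q.1 f₀ := by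
    intro Q
    obtain ⟨z, hz, rfl⟩ := placeOf_surjective hdim Q
    set Q := placeOf k hdim z hz
    obtain ⟨a, ha⟩ := Q.2.2 (WithZero.exp (D Q))
    obtain ⟨w, hw⟩ := (hD z hz a).2 ha.le
    have hspan : ∀ w ∈ Submodule.span (X.presheaf.stalk z) (Set.range fun i => L.presheaf.germ ⊤ z trivial (σ i)),
        ∃ c : X.functionField, Q.1 c ≤ Q.1 f₀ ∧ spec L z w = (c : X.presheaf.stalk η) • e := by
      intro w hw
      induction hw using Submodule.span_induction with
      | mem v hv =>
        obtain ⟨i, rfl⟩ := hv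
        obtain ⟨c, hc, hc'⟩ := hmem i
        obtain ⟨r, hr⟩ := hf₀ c hc
        exact ⟨c, hr ▸ FF.v_smul_le Q r f₀, (spec_germ L (U := ⊤) trivial trivial _).trans hc'⟩
      | zero => exact ⟨0, by simp, by rw [map_zero]; exact (zero_smul _ _).symm⟩
      | add a b _ _ ha hb =>
        obtain ⟨c, hc, hc'⟩ := ha
        obtain ⟨d, hd, hd'⟩ := hb
        exact ⟨c + d, (Q.1.map_add _ _).trans (max_le hc hd), by
          rw [map_add, hc', hd']; exact (add_smul (c : X.presheaf.stalk η) d _).symm⟩
      | smul r a _ ha =>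
        obtain ⟨c, hc, hc'⟩ := ha
        refine ⟨algebraMap _ X.functionField r * c, ?_, by rw [spec_smul, hc', smul_smul]⟩
        rw [map_mul]
        exact (mul_le_of_le_one_left zero_le ((placeOf_le_one_iff hdim hz _).2 ⟨r, rfl⟩)).trans hc
    obtain ⟨c, hc, hc'⟩ := hspan w ((hgenσ z).symm ▸ Submodule.mem_top)
    rwa [← he.1 (hw.symm.trans hc'), ha] at hc
  have hf0 : f₀ ≠ 0 := fun h => by
    obtain ⟨Q⟩ := (infinite_places hK).nonempty
    exact absurd (hkey Q) (by rw [h, map_zero]; exact not_le.2 WithZero.exp_pos)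
  have hDle : D ≤ -FunFld.div k f₀ := fun Q => by
    have := hkey Q
    rw [FF.v_eq_exp Q hf0, WithZero.exp_le_exp] at this
    rwa [Finsupp.neg_apply, FF.div_apply hK]
  have := FF.deg_mono hDle
  rw [FF.deg_neg, FF.deg_div hK, hdD] at this
  omega

end Groth.Agent.CurveFF
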