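import Groth.Agent.CurveFF.Pencil
import Groth.Agent.FF.Clifford
import Groth.Agent.FF.Embed
import Groth.Agent.FF.Misc
import Groth.Agent.FF.Plane
import Groth.Agent.FF.AlgClosed

/-!
# Nonspecial very ample divisors of degree at least `g + 3`
-/

set_option autoImplicit false
set_option linter.style.haveILetI false
set_option maxHeartbeats 800000

noncomputable section

namespace Groth.Agent.CurveFF.EmbedExist

open FunFld
open scoped WithZero IntermediateField

universe u v

variable {k : Type u} {K : Type v} [Field k] [IsAlgClosed k] [Field K] [Algebra k K] (hK : IsFunctionField k K)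
include hK

theorem ell_le_succ (D : Divisor k K) (P : Place k K) : ell D ≤ ell (D - Finsupp.single P 1) + 1 := by
  have h := FF.ell_sub_le hK (sub_le_self D (Finsupp.single_nonneg.2 zero_le_one) : D - Finsupp.single P 1 ≤ D)
  rw [FF.deg_sub, FF.deg_single_ac hK] at h
  omega

theorem ell_sub_single_le (D : Divisor k K) (P : Place k K) : ell (D - Finsupp.single P 1) ≤ ell D :=
  FF.ell_mono hK (sub_le_self D (Finsupp.single_nonneg.2 zero_le_one))

/-- A general point is no base point of any of finitely many systems. -/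
theorem exists_drop {T : Set (Divisor k K)} (hT : T.Finite) :
    ∃ R : Place k K, ∀ M ∈ T, ell M - 1 = ell (M - Finsupp.single R 1) := by
  classical
  haveI := FF.infinite_places hK
  have hex : ∀ M : Divisor k K, ∃ f : K, 0 < ell M → f ≠ 0 ∧ f ∈ L M := fun M => by
    by_cases h : 0 < ell M
    · obtain ⟨f, h1, h2⟩ := FF.exists_ne_zero_of_ell_pos h
      exact ⟨f, fun _ => ⟨h1, h2⟩⟩
    · exact ⟨0, fun h' => absurd h' h⟩
  choose f hf using hex
  have hfin : (⋃ M ∈ T, ((Function.support fun P : Place k K => P.ord (f M)) ∪ (M.support : Set (Place k K)))).Finite :=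
    hT.biUnion fun M _ => (FF.finite_support hK (f M)).union M.support.finite_toSet
  obtain ⟨R, hR⟩ := hfin.infinite_compl.nonempty
  refine ⟨R, fun M hM => ?_⟩
  simp only [Set.mem_compl_iff, Set.mem_iUnion, Set.mem_union, not_exists, not_or, Function.mem_support,
    not_not, Finset.mem_coe, Finsupp.mem_support_iff] at hR
  obtain ⟨hR1, hR2⟩ := hR M hM
  have h1 := ell_le_succ hK M R
  have h2 := ell_sub_single_le hK M R
  rcases Nat.eq_zero_or_pos (ell M) with h0 | h0
  · omega
  obtain ⟨hf0, hfL⟩ := hf M h0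
  have h3 : ell (M - Finsupp.single R 1) < ell M := by
    haveI := FF.finite_L hK M
    refine Submodule.finrank_lt_finrank_of_lt (lt_of_le_of_ne
      (FF.L_mono (sub_le_self _ (Finsupp.single_nonneg.2 zero_le_one))) fun heq => ?_)
    have h4 := (FF.mem_L_iff_ord hf0).1 (heq ▸ hfL : f M ∈ L (M - Finsupp.single R 1)) R
    rw [hR1, Finsupp.sub_apply, hR2, Finsupp.single_eq_same] at h4
    omega
  omega

/-- A system without a pencil has finitely many base points. -/
theorem finite_drop {A : Divisor k K} (h : ell A ≤ 1) :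
    {Q : Place k K | 0 < ell (A - Finsupp.single Q 1)}.Finite := by
  classical
  by_cases hne : ∀ Q : Place k K, ell (A - Finsupp.single Q 1) = 0
  · exact Set.finite_empty.subset fun Q hQ => absurd (hne Q) (ne_of_gt hQ)
  push Not at hne
  obtain ⟨Q₀, hQ₀⟩ := hne
  have hA : 0 < ell A := lt_of_lt_of_le (Nat.pos_of_ne_zero hQ₀) (ell_sub_single_le hK A Q₀)
  obtain ⟨f, hf0, hfL⟩ := FF.exists_ne_zero_of_ell_pos hA
  haveI := FF.finite_L hK A
  refine ((FF.finite_support hK f).union A.support.finite_toSet).subset fun Q hQ => ?_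
  have heq : L (A - Finsupp.single Q 1) = L A := Submodule.eq_of_le_of_finrank_le
    (FF.L_mono (sub_le_self _ (Finsupp.single_nonneg.2 zero_le_one))) (h.trans hQ)
  have h1 := (FF.mem_L_iff_ord hf0).1 (heq ▸ hfL : f ∈ L (A - Finsupp.single Q 1)) Q
  simp only [Set.mem_union, Function.mem_support, Finset.mem_coe, Finsupp.mem_support_iff]
  rw [Finsupp.sub_apply, Finsupp.single_eq_same] at h1
  omega

variable {C : Divisor k K} (hC : IsCanonical k K C)
include hC

theorem exists_first (m : ℕ) (hm : m ≤ genus k K) :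
    ∃ D : Divisor k K, D.deg = m ∧ ell (C - D) = genus k K - m := by
  induction m with
  | zero => exact ⟨0, FF.deg_zero, by rw [sub_zero, (FF.canonical_deg hK hC).1, Nat.sub_zero]⟩
  | succ m ih =>
    obtain ⟨D, h1, h2⟩ := ih (by omega)
    obtain ⟨R, hR⟩ := exists_drop hK (Set.finite_singleton (C - D))
    refine ⟨D + Finsupp.single R 1, ?_, ?_⟩
    · rw [FF.deg_add, h1, FF.deg_single_ac hK]; push_cast; ring
    · rw [sub_add_eq_sub_sub, ← hR _ rfl, h2]; omega

theorem exists_second : ∃ D : Divisor k K, D.deg = (genus k K : ℤ) + 1 ∧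
    ∀ P, ell (C - D + Finsupp.single P 1) = 0 := by
  obtain ⟨D, hd, hD⟩ := exists_first hK hC (genus k K) le_rfl
  rw [Nat.sub_self] at hD
  have hle : ∀ P, ell (C - D + Finsupp.single P 1) ≤ 1 := fun P => by
    have := ell_le_succ hK (C - D + Finsupp.single P 1) P
    rw [add_sub_cancel_right, hD] at this
    exact this
  have hrr : ∀ P, ell (C - D + Finsupp.single P 1) = ell (D - Finsupp.single P 1) := fun P => by
    have h := FF.riemann_roch hK hC (D - Finsupp.single P 1)
    rw [show C - (D - Finsupp.single P 1) = C - D + Finsupp.single P 1 by abel, FF.deg_sub, FF.deg_single_ac hK, hd] at h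
    omega
  have hD1 : ell D ≤ 1 := by
    have h := FF.riemann_roch hK hC D
    omega
  obtain ⟨R, hR⟩ := exists_drop hK ((finite_drop hK hD1).image fun P => C - D + Finsupp.single P 1)
  refine ⟨D + Finsupp.single R 1, by rw [FF.deg_add, hd, FF.deg_single_ac hK], fun P => ?_⟩
  rw [show C - (D + Finsupp.single R 1) + Finsupp.single P 1 = C - D + Finsupp.single P 1 - Finsupp.single R 1 by abel]
  by_cases hP : 0 < ell (D - Finsupp.single P 1)
  · have := hR _ ⟨P, hP, rfl⟩
    simp only at this
    have := hle P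
    omega
  · have := ell_sub_single_le hK (C - D + Finsupp.single P 1) R
    have := hrr P
    omega

omit hC in
/-- A nonsingular place makes the coordinates generate, leaving finitely many singular places. -/
theorem finite_singular {ι : Type} [Fintype ι] [Nonempty ι] {φ : ι → K} (h0 : ∀ i, φ i ≠ 0) {P₀ : Place k K}
    (hP₀ : IsNonsingularAt φ P₀) : {P : Place k K | ¬ IsNonsingularAt φ P}.Finite := by
  classical
  obtain ⟨j, hj0, hj, -⟩ := hP₀ 1 (by rw [map_one])
  have hbir : IntermediateField.adjoin k (Set.range fun i => φ i / φ j) = ⊤ := by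
    have key : ∀ z : K, P₀.1 z ≤ 1 → z ∈ IntermediateField.adjoin k (Set.range fun i => φ i / φ j) := fun z hz => by
      obtain ⟨j', hj'0, -, u, hu, w, hw, hw1, he⟩ := hP₀ z hz
      have hle : ∀ r ∈ Algebra.adjoin k (Set.range fun i => φ i / φ j'),
          r ∈ IntermediateField.adjoin k (Set.range fun i => φ i / φ j) := fun r hr =>
        FF.adjoin_ratio_eq hj0 (IntermediateField.algebra_adjoin_le_adjoin k _ hr)
      have hw0 : w ≠ 0 := fun h => by rw [h, map_zero] at hw1; exact zero_ne_one hw1
      rw [eq_div_iff hw0 |>.2 he]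
      exact div_mem (hle u hu) (hle w hw)
    refine eq_top_iff.2 fun z _ => ?_
    rcases le_total (P₀.1 z) 1 with h | h
    · exact key z h
    · have := inv_mem (key z⁻¹ (by rw [map_inv₀]; exact inv_le_one_of_one_le₀ h))
      rwa [inv_inv] at this
  obtain ⟨⟨Pinf, hPinf⟩, d, hd, hd0, hdA⟩ := FF.exists_conductor hK h0 j hbir
  refine (((Set.finite_univ (α := ι)).biUnion fun i _ => FF.finite_support hK (φ i / φ j)).union
    (FF.finite_support hK d)).subset fun P hP => ?_
  by_contra hout
  simp only [Set.mem_union, Set.mem_iUnion, Set.mem_univ, exists_const, Function.mem_support, not_or, not_exists,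
    not_not] at hout
  have hone : ∀ {z : K}, z ≠ 0 → P.ord z = 0 → P.1 z = 1 := fun {z} hz h => by
    rw [FF.v_eq_exp _ hz, h, neg_zero, WithZero.exp_zero]
  have hjP : FF.IsMax φ P j := ⟨hj0, fun i => by
    have h1 := hone (div_ne_zero (h0 i) hj0) (hout.1 i)
    rw [map_div₀, div_eq_one_iff_eq ((Valuation.ne_zero_iff _).2 hj0)] at h1
    exact h1.le⟩
  refine hP fun z hz => ?_
  obtain ⟨b, hb, hb1, hzb⟩ := FF.exists_clear hK j Pinf hPinf hjP hz
  exact ⟨j, hjP.1, hjP.2, d * (z * b), hdA _ hzb, d * b, hdA _ hb,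
    by rw [map_mul, hone hd0 hout.2, hb1, one_mul], by ring⟩

omit hC in
/-- A net without base points has a plane model whose nonsingularity is separation. -/
theorem exists_net {A : Divisor k K} (h3 : ell A = 3) (hbpf : ∀ P, ell (A - Finsupp.single P 1) = 2) :
    ∃ x y : K, (![(1 : K), x, y] : Fin 3 → K) 1 ≠ 0 ∧ (∀ i, (![(1 : K), x, y] : Fin 3 → K) i ≠ 0) ∧
      (mapDiv k ![(1 : K), x, y]).deg = A.deg ∧
      ∀ P, IsNonsingularAt ![(1 : K), x, y] P ↔
        ∀ Q, ell (A - Finsupp.single P 1 - Finsupp.single Q 1) = 1 := by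
  classical
  obtain ⟨z, hz, hE, -, hEdeg⟩ := exists_effective hK (D := A) (by omega)
  set E := A + div k z
  have hellE : ∀ F : Divisor k K, ell (E - F) = ell (A - F) := fun F => by
    rw [show E - F = (A - F) + div k z by simp only [E]; abel]
    exact FF.ell_add_div hK _ hz
  have hE3 : ell E = 3 := by have := hellE 0; rwa [sub_zero, sub_zero, h3] at this
  haveI := FF.finite_L hK E
  have h1E : (1 : K) ∈ L E := FF.one_mem_L hE
  obtain ⟨x, hx, hx1⟩ : ∃ x ∈ L E, x ∉ Submodule.span k {(1 : K)} := by
    by_contra hno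
    push Not at hno
    have := Submodule.finrank_mono (show L E ≤ Submodule.span k {(1 : K)} from hno)
    rw [finrank_span_singleton one_ne_zero] at this
    change ell E ≤ 1 at this
    omega
  obtain ⟨y, hy, hy1⟩ : ∃ y ∈ L E, y ∉ Submodule.span k (Set.range ![(1 : K), x]) := by
    by_contra hno
    push Not at hno
    haveI : FiniteDimensional k (Submodule.span k (Set.range ![(1 : K), x])) :=
      FiniteDimensional.span_of_finite k (Set.finite_range _)
    have h := Submodule.finrank_mono (show L E ≤ Submodule.span k (Set.range ![(1 : K), x]) from hno)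
    have h' := finrank_range_le_card (R := k) ![(1 : K), x]
    change ell E ≤ _ at h
    change Module.finrank k ↥(Submodule.span k (Set.range ![(1 : K), x])) ≤ _ at h'
    rw [Fintype.card_fin] at h'
    omega
  set φ : Fin 3 → K := ![(1 : K), x, y]
  have hli2 : LinearIndependent k ![(1 : K), x] :=
    (LinearIndependent.pair_iff' one_ne_zero).2 fun a h => hx1 (Submodule.mem_span_singleton.2 ⟨a, h⟩)
  have hli : LinearIndependent k φ := by
    have := (linearIndependent_finSnoc (K := k) (v := ![(1 : K), x]) (x := y)).2 ⟨hli2, hy1⟩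
    have e : (Fin.snoc ![(1 : K), x] y : Fin 3 → K) = φ := by
      funext i
      fin_cases i <;> simp [φ, Fin.snoc]
    rwa [e] at this
  have h0 : ∀ i, φ i ≠ 0 := fun i => hli.ne_zero i
  have hspan : Submodule.span k (Set.range φ) = L E := by
    refine Submodule.eq_of_le_of_finrank_le (Submodule.span_le.2 ?_) ?_
    · rintro _ ⟨i, rfl⟩
      fin_cases i
      · exact h1E
      · exact hx
      · exact hy
    · rw [finrank_span_eq_card hli, Fintype.card_fin]
      exact hE3.le
  have hmap : mapDiv k φ = E := FF.mapDiv_eq_of_bpf hK h0 hspan fun P => by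
    rw [hellE, hbpf, hE3]
    omega
  refine ⟨x, y, h0 1, h0, by rw [hmap, hEdeg], fun P => ?_⟩
  rw [FF.nonsingular_iff hK h0]
  refine forall_congr' fun Q => ?_
  have hle : L (E - Finsupp.single P 1 - Finsupp.single Q 1) ≤ L E :=
    (FF.L_mono (sub_le_self _ (Finsupp.single_nonneg.2 zero_le_one))).trans
      (FF.L_mono (sub_le_self _ (Finsupp.single_nonneg.2 zero_le_one)))
  rw [hmap, hspan, inf_eq_right.2 hle]
  show ell (E - Finsupp.single P 1 - Finsupp.single Q 1) + 2 = ell E ↔ _
  rw [hE3, sub_sub E, hellE, ← sub_sub A]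
  omega

/-- Nonspecial very ample divisors exist in every degree at least `g + 3`. -/
theorem exists_veryAmple {d : ℤ} (hd : (genus k K : ℤ) + 3 ≤ d) :
    ∃ D : Divisor k K, D.deg = d ∧ (ell D : ℤ) = d + 1 - genus k K ∧
      ∀ P Q, ell (D - Finsupp.single P 1 - Finsupp.single Q 1) + 2 = ell D := by
  classical
  haveI := FF.infinite_places hK
  obtain ⟨D₁, hd₁, hD₁⟩ := exists_second hK hC
  set g := genus k K
  -- the partners of a point
  have hpairle : ∀ (D : Divisor k K), (∀ P, ell (C - D + Finsupp.single P 1) = 0) → ∀ P Q,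
      ell (C - D + Finsupp.single P 1 + Finsupp.single Q 1) ≤ 1 := fun D hD P Q => by
    have := ell_le_succ hK (C - D + Finsupp.single P 1 + Finsupp.single Q 1) Q
    rw [add_sub_cancel_right, hD P] at this
    exact this
  have hfib : ∀ P, {Q : Place k K | 0 < ell (C - D₁ + Finsupp.single P 1 + Finsupp.single Q 1)}.Finite := fun P => by
    set A := D₁ - Finsupp.single P 1
    have hA : A.deg = g := by rw [FF.deg_sub, FF.deg_single_ac hK, hd₁]; ring
    have hCA : C - A = C - D₁ + Finsupp.single P 1 := by simp only [A]; abel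
    have hellA : ell A ≤ 1 := by
      have h := FF.riemann_roch hK hC A
      rw [hCA, hD₁ P, hA] at h
      omega
    refine (finite_drop hK hellA).subset fun Q hQ => ?_
    have h := FF.riemann_roch hK hC (A - Finsupp.single Q 1)
    rw [FF.deg_sub, FF.deg_single_ac hK, hA, show C - (A - Finsupp.single Q 1) = C - A + Finsupp.single Q 1 by abel,
      hCA] at h
    simp only [Set.mem_setOf_eq] at hQ ⊢
    omega
  obtain ⟨P₀⟩ := (inferInstance : Nonempty (Place k K))
  obtain ⟨R₁, hR₁⟩ := exists_drop hK ((hfib P₀).image fun Q => C - D₁ + Finsupp.single P₀ 1 + Finsupp.single Q 1)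
  set D₂ := D₁ + Finsupp.single R₁ 1
  have hd₂ : D₂.deg = g + 2 := by rw [FF.deg_add, hd₁, FF.deg_single_ac hK]; ring
  have hsub : ∀ M : Divisor k K, C - D₂ + M = C - D₁ + M - Finsupp.single R₁ 1 := fun M => by simp only [D₂]; abel
  have hD₂ : ∀ P, ell (C - D₂ + Finsupp.single P 1) = 0 := fun P => by
    have h := ell_sub_single_le hK (C - D₁ + Finsupp.single P 1) R₁
    rw [← hsub, hD₁ P] at h
    exact Nat.le_zero.1 h
  have hgood : ∀ Q, ell (C - D₂ + Finsupp.single P₀ 1 + Finsupp.single Q 1) = 0 := fun Q => by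
    have hle := hpairle D₁ hD₁ P₀ Q
    have h := ell_sub_single_le hK (C - D₁ + Finsupp.single P₀ 1 + Finsupp.single Q 1) R₁
    rw [add_assoc (C - D₂), hsub, ← add_assoc (C - D₁)]
    by_cases hQ : 0 < ell (C - D₁ + Finsupp.single P₀ 1 + Finsupp.single Q 1)
    · have := hR₁ _ ⟨Q, hQ, rfl⟩
      simp only at this
      omega
    · omega
  have hC2 : ell (C - D₂) = 0 := by
    have h := ell_sub_single_le hK (C - D₂ + Finsupp.single P₀ 1) P₀
    rw [add_sub_cancel_right, hD₂ P₀] at h
    exact Nat.le_zero.1 h
  have h3 : ell D₂ = 3 := by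
    have h := FF.riemann_roch hK hC D₂
    rw [hC2, hd₂] at h
    omega
  have hbpf : ∀ P, ell (D₂ - Finsupp.single P 1) = 2 := fun P => by
    have h := FF.riemann_roch hK hC (D₂ - Finsupp.single P 1)
    rw [show C - (D₂ - Finsupp.single P 1) = C - D₂ + Finsupp.single P 1 by abel, hD₂ P, FF.deg_sub,
      FF.deg_single_ac hK, hd₂] at h
    omega
  obtain ⟨x, y, -, h0, -, hns⟩ := exists_net hK h3 hbpf
  have hsep : ∀ P Q, ell (D₂ - Finsupp.single P 1 - Finsupp.single Q 1) =
      1 + ell (C - D₂ + Finsupp.single P 1 + Finsupp.single Q 1) := fun P Q => by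
    have h := FF.riemann_roch hK hC (D₂ - Finsupp.single P 1 - Finsupp.single Q 1)
    rw [show C - (D₂ - Finsupp.single P 1 - Finsupp.single Q 1) = C - D₂ + Finsupp.single P 1 + Finsupp.single Q 1 by abel,
      FF.deg_sub, FF.deg_sub, FF.deg_single_ac hK, FF.deg_single_ac hK, hd₂] at h
    omega
  have hP₀ : IsNonsingularAt ![(1 : K), x, y] P₀ := (hns P₀).2 fun Q => by rw [hsep, hgood Q]
  obtain ⟨R₂, hR₂⟩ := exists_drop hK (((finite_singular hK h0 hP₀).biUnion fun P _ =>
    (hfib P).image fun Q => C - D₂ + Finsupp.single P 1 + Finsupp.single Q 1))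
  set D₃ := D₂ + Finsupp.single R₂ 1
  have hD₃ : ∀ P Q, ell (C - D₃ + Finsupp.single P 1 + Finsupp.single Q 1) = 0 := fun P Q => by
    have hle := hpairle D₂ hD₂ P Q
    rw [show C - D₃ + Finsupp.single P 1 + Finsupp.single Q 1 =
      C - D₂ + Finsupp.single P 1 + Finsupp.single Q 1 - Finsupp.single R₂ 1 by simp only [D₃]; abel]
    have h := ell_sub_single_le hK (C - D₂ + Finsupp.single P 1 + Finsupp.single Q 1) R₂
    by_cases hQ : 0 < ell (C - D₂ + Finsupp.single P 1 + Finsupp.single Q 1)
    · have hbad : ¬ IsNonsingularAt ![(1 : K), x, y] P := fun hn => by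
        have := (hns P).1 hn Q
        rw [hsep] at this
        omega
      have hQ1 : 0 < ell (C - D₁ + Finsupp.single P 1 + Finsupp.single Q 1) := by
        refine lt_of_lt_of_le hQ ?_
        rw [add_assoc (C - D₂), hsub, ← add_assoc (C - D₁)]
        exact ell_sub_single_le hK _ R₁
      have := hR₂ _ (Set.mem_biUnion (show P ∈ {P | ¬ IsNonsingularAt ![(1 : K), x, y] P} from hbad)
        ⟨Q, hQ1, rfl⟩)
      simp only at this
      omega
    · omega
  obtain ⟨n, hn⟩ := Int.eq_ofNat_of_zero_le (sub_nonneg.2 hd)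
  set D := D₃ + Finsupp.single P₀ (n : ℤ)
  have hdD : D.deg = d := by
    rw [FF.deg_add, FF.deg_add, hd₂, FF.deg_single_ac hK, FF.deg_single_ac hK]
    linarith
  have hmono : ∀ P Q, ell (C - D + Finsupp.single P 1 + Finsupp.single Q 1) = 0 := fun P Q => by
    have h := FF.ell_mono hK (D₁ := C - D + Finsupp.single P 1 + Finsupp.single Q 1)
      (D₂ := C - D₃ + Finsupp.single P 1 + Finsupp.single Q 1) (by
        gcongr
        simp only [D, le_add_iff_nonneg_right, Finsupp.single_nonneg]
        positivity)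
    rw [hD₃ P Q] at h
    exact Nat.le_zero.1 h
  have hCD : ell (C - D) = 0 := by
    have h := FF.ell_mono hK (D₁ := C - D) (D₂ := C - D + Finsupp.single P₀ 1 + Finsupp.single P₀ 1) (by
      rw [add_assoc]; exact le_add_of_nonneg_right (add_nonneg (Finsupp.single_nonneg.2 zero_le_one) (Finsupp.single_nonneg.2 zero_le_one)))
    rw [hmono P₀ P₀] at h
    exact Nat.le_zero.1 h
  have hellD : (ell D : ℤ) = d + 1 - g := by
    have h := FF.riemann_roch hK hC D
    rw [hCD, hdD] at h
    omega
  refine ⟨D, hdD, hellD, fun P Q => ?_⟩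
  have h := FF.riemann_roch hK hC (D - Finsupp.single P 1 - Finsupp.single Q 1)
  rw [show C - (D - Finsupp.single P 1 - Finsupp.single Q 1) = C - D + Finsupp.single P 1 + Finsupp.single Q 1 by abel,
    hmono, FF.deg_sub, FF.deg_sub, FF.deg_single_ac hK, FF.deg_single_ac hK, hdD] at h
  omega

/-- A nonspecial very ample divisor has degree at least `g + 3`. -/
theorem le_deg_of_veryAmple (hg : 2 ≤ genus k K) {D : Divisor k K} (hns : (ell D : ℤ) = D.deg + 1 - genus k K)
    (h : ∀ P Q, ell (D - Finsupp.single P 1 - Finsupp.single Q 1) + 2 = ell D) :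
    (genus k K : ℤ) + 3 ≤ D.deg := by
  classical
  haveI := FF.infinite_places hK
  obtain ⟨P⟩ := (inferInstance : Nonempty (Place k K))
  have hb : ∀ P, ell (D - Finsupp.single P 1) + 1 = ell D := fun P => by
    have := h P P
    have := ell_le_succ hK D P
    have := ell_le_succ hK (D - Finsupp.single P 1) P
    omega
  have h2 := h P P
  rcases (show ell D = 2 ∨ ell D = 3 ∨ 4 ≤ ell D by omega) with he | he | he
  · have hP := hb P
    obtain ⟨z, hz, hE, hEell, hEdeg⟩ := exists_effective hK (D := D - Finsupp.single P 1) (by omega)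
    set E := D - Finsupp.single P 1 + div k z
    rw [FF.deg_sub, FF.deg_single_ac hK] at hEdeg
    obtain ⟨Q, hQ⟩ : ∃ Q, 1 ≤ E Q := by
      by_contra hno
      push Not at hno
      have hE0 : E = 0 := Finsupp.ext fun Q => by
        have := hE Q
        have := hno Q
        simp only [Finsupp.coe_zero, Pi.zero_apply] at *
        omega
      rw [hE0, FF.deg_zero] at hEdeg
      omega
    have hle : (0 : Divisor k K) ≤ E - Finsupp.single Q 1 := fun R => by
      have := hE R
      rcases eq_or_ne R Q with rfl | hR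
      · simp only [Finsupp.coe_zero, Pi.zero_apply, Finsupp.sub_apply, Finsupp.single_eq_same] at *; omega
      · simpa [Finsupp.single_eq_of_ne hR] using this
    have hpos : 0 < ell (E - Finsupp.single Q 1) := by
      have h1 := FF.ell_mono hK hle
      rw [FF.ell_zero hK] at h1
      omega
    rw [show E - Finsupp.single Q 1 = D - Finsupp.single P 1 - Finsupp.single Q 1 + div k z by simp only [E]; abel,
      FF.ell_add_div hK _ hz] at hpos
    have := h P Q
    omega
  · obtain ⟨x, y, hx0, h0, hdeg, hn⟩ := exists_net hK he fun P => by have := hb P; omega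
    have hall : ∀ P, IsNonsingularAt ![(1 : K), x, y] P := fun P => (hn P).2 fun Q => by
      have := h P Q
      omega
    have hxy : IntermediateField.adjoin k ({x, y} : Set K) = ⊤ := by
      have key : ∀ z : K, P.1 z ≤ 1 → z ∈ IntermediateField.adjoin k ({x, y} : Set K) := fun z hz => by
        obtain ⟨j, hj0, -, u, hu, w, hw, hw1, hez⟩ := hall P z hz
        have hgen : ∀ i, (![(1 : K), x, y] : Fin 3 → K) i ∈ IntermediateField.adjoin k ({x, y} : Set K) := fun i => by
          fin_cases i
          · exact one_mem _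
          · exact IntermediateField.subset_adjoin k _ (Or.inl rfl)
          · exact IntermediateField.subset_adjoin k _ (Or.inr rfl)
        have hle : ∀ r ∈ Algebra.adjoin k (Set.range fun i => (![(1 : K), x, y] : Fin 3 → K) i / ![(1 : K), x, y] j),
            r ∈ IntermediateField.adjoin k ({x, y} : Set K) := fun r hr =>
          (IntermediateField.adjoin_le_iff.2 (by rintro _ ⟨i, rfl⟩; exact div_mem (hgen i) (hgen j)))
            (IntermediateField.algebra_adjoin_le_adjoin k _ hr)
        have hw0 : w ≠ 0 := fun h => by rw [h, map_zero] at hw1; exact zero_ne_one hw1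
        rw [eq_div_iff hw0 |>.2 hez]
        exact div_mem (hle u hu) (hle w hw)
      refine eq_top_iff.2 fun z _ => ?_
      rcases le_total (P.1 z) 1 with hz | hz
      · exact key z hz
      · have := inv_mem (key z⁻¹ (by rw [map_inv₀]; exact inv_le_one_of_one_le₀ hz))
        rwa [inv_inv] at this
    have hgen := (FF.genus_plane x y hK hxy).2.2 hall
    rw [hdeg] at hgen
    nlinarith
  · omega

omit hC in
/-- Two general members of a pencil of degree two. -/
theorem exists_pair_of_g12 {D : Divisor k K} (hd : D.deg = 2) (h : 2 ≤ ell D) :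
    ∃ P Q : Place k K, 2 ≤ ell (Finsupp.single P 1 + Finsupp.single Q (1 : ℤ) : Divisor k K) := by
  classical
  haveI := FF.infinite_places hK
  obtain ⟨P⟩ := (inferInstance : Nonempty (Place k K))
  have := ell_le_succ hK D P
  obtain ⟨z, hz, hE, hEell, hEdeg⟩ := exists_effective hK (D := D - Finsupp.single P 1) (by omega)
  set E := D - Finsupp.single P 1 + div k z
  rw [FF.deg_sub, FF.deg_single_ac hK, hd] at hEdeg
  obtain ⟨Q, hQ⟩ : ∃ Q, 1 ≤ E Q := by
    by_contra hno
    push Not at hno
    have hE0 : E = 0 := Finsupp.ext fun Q => by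
      have := hE Q
      have := hno Q
      simp only [Finsupp.coe_zero, Pi.zero_apply] at *
      omega
    rw [hE0, FF.deg_zero] at hEdeg
    omega
  have hle : Finsupp.single Q 1 ≤ E := fun R => by
    have := hE R
    rcases eq_or_ne R Q with rfl | hR
    · simpa using hQ
    · simpa [Finsupp.single_eq_of_ne hR] using this
  have hz0 := FF.eq_zero_of_nonneg_of_deg hK (E := E - Finsupp.single Q 1) (sub_nonneg.2 hle)
    (by rw [FF.deg_sub, FF.deg_single_ac hK]; omega)
  refine ⟨P, Q, ?_⟩
  rw [← sub_eq_zero.1 hz0, show Finsupp.single P 1 + E = D + div k z by simp only [E]; abel, FF.ell_add_div hK _ hz]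
  exact h

end Groth.Agent.CurveFF.EmbedExist
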