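import Groth.Agent.CurveFF.DoubleG12
import Groth.Agent.CurveFF.Point2
import Groth.Agent.AmpleLib.Tensor

/-!
# Powers of a `g¹₂`
-/

set_option autoImplicit false
set_option backward.isDefEq.respectTransparency false
set_option maxHeartbeats 800000
set_option linter.style.haveILetI false

universe u

open CategoryTheory Limits AlgebraicGeometry TopologicalSpace
open scoped WithZero IntermediateField

noncomputable section

namespace Groth.Agent.CurveFF

attribute [local instance] Curv2.stalkAlgebra Curv2.resAlgebra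
attribute [local instance high] FunFld.Place.algRes

section FFLemmas

open FunFld Polynomial

variable {k K : Type u} [Field k] [Field K] [Algebra k K]

/-- The multiples of a `g¹₂` up to the genus: `ℓ(rD) = r + 1`. -/
theorem ell_smul_of_deg_two (hK : IsFunctionField k K) (hg : 1 ≤ genus k K) {D : Divisor k K} (hd : D.deg = 2)
    (h2 : 2 ≤ ell D) {r : ℕ} (hr : r ≤ genus k K) : ell ((r : ℤ) • D) = r + 1 := by
  classical
  haveI := FF.finite_L hK D
  obtain ⟨f₀, hf₀, hne⟩ := Submodule.exists_mem_ne_zero_of_ne_bot (p := L D) fun h => by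
    rw [ell, h, finrank_bot] at h2; omega
  obtain ⟨f₁, hf₁, hne₁⟩ : ∃ f₁ ∈ L D, f₁ ∉ k ∙ f₀ := by
    by_contra h
    push Not at h
    have h1 := Submodule.finrank_mono (show L D ≤ k ∙ f₀ from h)
    rw [finrank_span_singleton hne] at h1
    simp only [ell] at h2
    omega
  set x := f₁ / f₀ with hxdef
  have hx : Transcendental k x := FF.transcendental_of_not_mem hK fun ⟨c, hc⟩ => hne₁ (by
    rw [Submodule.mem_span_singleton]; exact ⟨c, by rw [Algebra.smul_def, hc, div_mul_cancel₀ _ hne]⟩)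
  have hx0 : x ≠ 0 := fun h => hx (h ▸ isAlgebraic_zero)
  set D' := D + div k f₀ with hD'
  have hD0 : 0 ≤ D' := fun Q => by
    have := (FF.mem_L_iff_ord hne).1 hf₀ Q
    simp only [Finsupp.coe_zero, Pi.zero_apply, hD', Finsupp.add_apply, FF.div_apply hK]
    omega
  have hd' : D'.deg = 2 := by rw [hD', FF.deg_add, FF.deg_div hK, hd, add_zero]
  have hxL : x ∈ L D' := by
    have hne' : f₁ ≠ 0 := fun h => hne₁ (h ▸ zero_mem _)
    refine (FF.mem_L_iff_ord hx0).2 fun Q => ?_
    have := (FF.mem_L_iff_ord hne').1 hf₁ Q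
    rw [hxdef, div_eq_mul_inv, FF.ord_mul Q hne' (inv_ne_zero hne), FF.ord_inv, hD', Finsupp.add_apply,
      FF.div_apply hK]
    omega
  have hdeg := finrank_eq_two_of_mem_L hK hg hD0 hd' hxL hx
  have hDx : D' = FF.zeros (k := k) x⁻¹ := by
    have hle : FF.zeros (k := k) x⁻¹ ≤ D' := fun Q => by
      rw [FF.zeros_apply hK, FF.ord_inv]
      have := (FF.mem_L_iff_ord hx0).1 hxL Q
      have := hD0 Q
      simp only [Finsupp.coe_zero, Pi.zero_apply] at this
      omega
    have h1 : (D' - FF.zeros (k := k) x⁻¹).deg ≤ 0 := by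
      rw [FF.deg_sub, hd', FF.deg_zeros hK (fun h => hx (by simpa using h.inv)), FF.adjoin_inv, hdeg]; norm_num
    exact sub_eq_zero.1 (FF.eq_zero_of_nonneg_of_deg hK (sub_nonneg.2 hle) h1)
  have hDQ : ∀ Q, D' Q = max (-Q.ord x) 0 := fun Q => by rw [hDx, FF.zeros_apply hK, FF.ord_inv]
  have hell : ell ((r : ℤ) • D) = ell ((r : ℤ) • D') := by
    rw [← FF.ell_add_div hK ((r : ℤ) • D) (pow_ne_zero r hne), FF.div_pow hK, hD', smul_add]
  rw [hell]
  -- polynomials
  have hpow : ∀ (p : k[X]) (m : ℕ), p ∈ degreeLT k (m + 1) → aeval x p ∈ L ((m : ℤ) • D') := by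
    intro p m hp
    rw [aeval_eq_sum_range' (n := m + 1) (by
      rcases eq_or_ne p 0 with rfl | hp0
      · simp
      · exact (natDegree_lt_iff_degree_lt hp0).2 (mem_degreeLT.1 hp))]
    refine sum_mem fun i hi => Submodule.smul_mem _ _ (FF.L_mono (fun Q => ?_) (FF.mem_L_zeros_inv hK hx0 i))
    rw [← hDx]
    simp only [Finsupp.smul_apply, smul_eq_mul]
    exact mul_le_mul_of_nonneg_right (by have := Finset.mem_range.1 hi; omega) (hD0 Q)
  -- nothing else lies in `L(r D')`
  have hin : ∀ z ∈ L ((r : ℤ) • D'), z ∈ k⟮x⟯ := by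
    intro z hz
    by_contra hzF
    set n : ℕ := 2 * genus k K + r
    let φ : (degreeLT k (n + 1) × degreeLT k (n - r + 1)) →ₗ[k] K :=
      ((aeval x).toLinearMap.comp (degreeLT k (n + 1)).subtype).coprod
        ((LinearMap.mulRight k z).comp ((aeval x).toLinearMap.comp (degreeLT k (n - r + 1)).subtype))
    have hφi : Function.Injective φ := by
      rw [← LinearMap.ker_eq_bot, LinearMap.ker_eq_bot']
      rintro ⟨⟨p, hp⟩, ⟨q, hq⟩⟩ h
      change aeval x p + aeval x q * z = 0 at h
      rcases eq_or_ne q 0 with rfl | hq0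
      · have hp0 : p = 0 := transcendental_iff_injective.1 hx (by simpa using h)
        subst hp0
        rfl
      · refine absurd ?_ hzF
        have : z = -aeval x p / aeval x q := by
          rw [eq_div_iff (DStruct.aeval_ne_zero hx hq0)]; linear_combination h
        rw [this]
        exact div_mem (neg_mem (DStruct.aeval_mem p)) (DStruct.aeval_mem q)
    have hrange : LinearMap.range φ ≤ L ((n : ℤ) • D') := by
      rintro _ ⟨⟨⟨p, hp⟩, ⟨q, hq⟩⟩, rfl⟩
      refine add_mem (hpow p n hp) ?_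
      have h := FF.mul_mem_L (hpow q (n - r) hq) hz
      rwa [← add_smul, show ((n - r : ℕ) : ℤ) + (r : ℤ) = (n : ℤ) by omega] at h
    haveI := FF.finite_L hK ((n : ℤ) • D')
    have h1 := Submodule.finrank_mono hrange
    haveI := LinearEquiv.finiteDimensional (degreeLTEquiv k (n + 1)).symm
    haveI := LinearEquiv.finiteDimensional (degreeLTEquiv k (n - r + 1)).symm
    rw [LinearMap.finrank_range_of_inj hφi, Module.finrank_prod, (degreeLTEquiv k (n + 1)).finrank_eq,
      (degreeLTEquiv k (n - r + 1)).finrank_eq, Module.finrank_fin_fun, Module.finrank_fin_fun] at h1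
    have h2 := FF.ell_of_deg_large hK (D := (n : ℤ) • D') (by rw [FF.deg_smul, hd']; omega)
    rw [FF.deg_smul, hd'] at h2
    simp only [ell] at h2
    omega
  have heq : L ((r : ℤ) • D') = (degreeLT k (r + 1)).map (aeval x).toLinearMap := by
    refine le_antisymm (fun z hz => ?_) ?_
    · have hzr : ∀ Q : Place k K, Q.1 x ≤ 1 → Q.1 z ≤ 1 := fun Q hQ => by
        have h := hz Q
        rwa [Finsupp.smul_apply, hDQ, max_eq_right (by have := (FF.v_le_one_iff Q hx0).1 hQ; omega), smul_zero,
          WithZero.exp_zero] at h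
      obtain ⟨p, rfl⟩ := exists_aeval_of_regular hK hx (hin z hz) hzr
      refine ⟨p, ?_, rfl⟩
      rcases eq_or_ne p 0 with rfl | hp0
      · exact zero_mem _
      obtain ⟨Q, hQ⟩ := FF.exists_zero hK (x := x⁻¹) (fun h => hx (by simpa using h.inv))
      have hQx : 1 < Q.1 x := by
        rwa [map_inv₀, inv_lt_one₀ (zero_lt_iff.2 (Q.1.ne_zero_iff.2 hx0))] at hQ
      have h := hz Q
      rw [DStruct.v_aeval_eq hQx hp0, Finsupp.smul_apply, hDQ, max_eq_left (by
        have := mt (FF.v_le_one_iff Q hx0).2 (not_le.2 hQx); omega), smul_eq_mul,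
        show (r : ℤ) * -Q.ord x = -(Q.ord (x ^ r)) by rw [FF.ord_pow]; ring,
        ← FF.v_eq_exp Q (pow_ne_zero r hx0), map_pow] at h
      rw [SetLike.mem_coe, mem_degreeLT, degree_eq_natDegree hp0, Nat.cast_lt, Nat.lt_succ_iff]
      exact (pow_le_pow_iff_right₀ hQx).1 h
    · rintro _ ⟨p, hp, rfl⟩
      exact hpow p r hp
  haveI := LinearEquiv.finiteDimensional (degreeLTEquiv k (r + 1)).symm
  rw [ell, heq, ← (Submodule.equivMapOfInjective (aeval x).toLinearMap (transcendental_iff_injective.1 hx)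
    (degreeLT k (r + 1))).finrank_eq, (degreeLTEquiv k (r + 1)).finrank_eq, Module.finrank_fin_fun]

end FFLemmas

variable {k : Type u} [Field k] {X : Scheme.{u}} [X.Over (Spec (CommRingCat.of k))]
  [IsProper (X ↘ Spec (CommRingCat.of k))] [IsIntegral X] [VBLib.IsRegCurve X]
  (hdim : topologicalKrullDim X = 1) (h0 : Module.finrank k (Coh.HH X (Coh.structureModule X) 0) = 1)
include hdim h0

/-- Degree and sections of the powers of a `g¹₂`. -/
theorem tensorPow_g12 {L : X.Modules} (hL : PicF.IsInvertible L) (hd : Curv2.deg k X L 1 = 2)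
    (hg : 1 ≤ Curv2.genus k X) (h2 : 2 ≤ Module.finrank k (Coh.HH X L 0)) {r : ℕ} (hr : r ≤ Curv2.genus k X) :
    PicF.IsInvertible (CohB1.tensorPow L r) ∧ Curv2.deg k X (CohB1.tensorPow L r) 1 = 2 * r ∧
      Module.finrank k (Coh.HH X (CohB1.tensorPow L r) 0) = r + 1 := by
  haveI := EulerIneqLib.isNoetherian_proper (X := X) k
  have hK := isFunctionField k hdim h0
  obtain ⟨e, he⟩ := exists_base hL
  obtain ⟨D, hD⟩ := exists_isDiv hdim h0 hL he
  have hinv : ∀ n, PicF.IsInvertible (CohB1.tensorPow L n) := AmpleLib.isInvertible_tensorPow hL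
  have key : ∀ n : ℕ, ∃ en, IsBase (CohB1.tensorPow L n) en ∧ IsDiv k hdim (CohB1.tensorPow L n) en ((n : ℤ) • D) := by
    intro n
    induction n with
    | zero =>
      refine ⟨ParaFLib.oneG (genericPoint X), ?_, ?_⟩
      · exact ParaFLib.bijective_oneG _
      · rw [Nat.cast_zero, zero_smul]; exact isDiv_structure hdim
    | succ n ih =>
      obtain ⟨en, hen, hDn⟩ := ih
      refine ⟨tensorBase en e, isBase_tensor hen he, ?_⟩
      rw [Nat.cast_succ, add_smul, one_smul]
      exact isDiv_tensor hdim (hinv n) hL hen he hDn hD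
  obtain ⟨er, her, hDr⟩ := key r
  have hdD : D.deg = 2 := by rw [← (genus_and_deg hdim h0 hL he hD).2, hd]
  rw [finrank_H0_eq_ell hdim hL he hD] at h2
  rw [genus_eq hdim h0] at hg hr
  refine ⟨hinv r, ?_, ?_⟩
  · rw [(genus_and_deg hdim h0 (hinv r) her hDr).2, FF.deg_smul, hdD]; ring
  · rw [finrank_H0_eq_ell hdim (hinv r) her hDr, ell_smul_of_deg_two hK hg hdD h2 hr]

end Groth.Agent.CurveFF
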