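import Groth.Agent.CurveFF.Involution
import Groth.Agent.CurveFF.DoubleCover
import Groth.Agent.FF.AlgClosed

/-!
# The involution of a genus one curve exchanging two given points
-/

set_option autoImplicit false
set_option backward.isDefEq.respectTransparency false
set_option maxHeartbeats 800000
set_option linter.style.haveILetI false

universe u

open scoped WithZero IntermediateField

noncomputable section

namespace Groth.Agent.CurveFF

section FFLemmas

open FunFld

variable {k K : Type u} [Field k] [Field K] [Algebra k K] [IsAlgClosed k]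

/-- An effective divisor of degree one is a place. -/
theorem eq_single_of_deg_one (hK : IsFunctionField k K) {E : Divisor k K} (hE : 0 ≤ E) (hd : E.deg = 1) :
    ∃ S, E = Finsupp.single S 1 := by
  classical
  obtain ⟨S, hS⟩ : ∃ S, E S ≠ 0 := by
    by_contra h
    push Not at h
    rw [show E = 0 from Finsupp.ext h] at hd
    simp [Divisor.deg] at hd
  refine ⟨S, ?_⟩
  have h1 : (0 : Divisor k K) ≤ E - Finsupp.single S 1 := fun T => by
    have := hE T
    simp only [Finsupp.coe_zero, Pi.zero_apply, Finsupp.sub_apply] at this ⊢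
    rcases eq_or_ne T S with rfl | hT
    · rw [Finsupp.single_eq_same]; omega
    · rw [Finsupp.single_eq_of_ne hT]; omega
  exact sub_eq_zero.1 (FF.eq_zero_of_nonneg_of_deg hK h1 (by rw [FF.deg_sub_single hK, hd]; norm_num))

/-- A nonconstant function in the space of two points whose degree is two. -/
theorem exists_coord (hK : IsFunctionField k K) (hg : genus k K = 1) (P Q : Place k K) :
    ∃ x : K, Transcendental k x ∧ Module.finrank k⟮x⟯ K = 2 ∧
      FF.zeros (k := k) x⁻¹ = Finsupp.single P 1 + Finsupp.single Q 1 := by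
  classical
  set D : Divisor k K := Finsupp.single P 1 + Finsupp.single Q 1 with hD
  have hD0 : 0 ≤ D := add_nonneg (Finsupp.single_nonneg.2 zero_le_one) (Finsupp.single_nonneg.2 zero_le_one)
  have hD2 : D.deg = 2 := by rw [hD, FF.deg_add, FF.deg_single_ac hK, FF.deg_single_ac hK]; norm_num
  have hl : ell D = 2 := by
    have := FF.ell_of_deg_large hK (D := D) (by rw [hD2, hg]; norm_num)
    rw [hD2, hg] at this
    omega
  obtain ⟨x, hxL, hx1⟩ : ∃ x ∈ L D, x ∉ k ∙ (1 : K) := by
    by_contra h
    push Not at h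
    have h1 := Submodule.finrank_mono (show L D ≤ k ∙ (1 : K) from h)
    rw [finrank_span_singleton one_ne_zero] at h1
    simp only [ell] at hl
    omega
  have hx : Transcendental k x := FF.transcendental_of_not_mem hK fun ⟨c, hc⟩ => hx1 (hc ▸ by
    rw [Algebra.algebraMap_eq_smul_one]; exact Submodule.smul_mem _ c (Submodule.mem_span_singleton_self _))
  have hdeg := finrank_eq_two_of_mem_L hK hg.ge hD0 hD2 hxL hx
  have hx0 : x ≠ 0 := fun h => hx (h ▸ isAlgebraic_zero)
  have hle : FF.zeros (k := k) x⁻¹ ≤ D := fun R => by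
    have h1 := (FF.mem_L_iff_ord hx0).1 hxL R
    have h2 : (0 : ℤ) ≤ D R := hD0 R
    rw [FF.zeros_apply hK, FF.ord_inv]
    omega
  refine ⟨x, hx, hdeg, (sub_eq_zero.1 (FF.eq_zero_of_nonneg_of_deg hK (sub_nonneg.2 hle) ?_)).symm⟩
  rw [FF.deg_sub, hD2, FF.deg_zeros hK (fun h => hx (by simpa using h.inv)), FF.adjoin_inv, hdeg]
  norm_num

theorem sub_eq_prin (hK : IsFunctionField k K) {x : K} (hx : Transcendental k x)
    (hdeg : Module.finrank k⟮x⟯ K = 2) {σ : K ≃ₐ[k] K} (hσx : σ x = x)
    (hσ : ∀ z, z + σ z ∈ k⟮x⟯ ∧ z * σ z ∈ k⟮x⟯) {P Q : Place k K}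
    (hxD : FF.zeros (k := k) x⁻¹ = Finsupp.single P 1 + Finsupp.single Q 1) (R : Place k K) :
    Finsupp.single R 1 + Finsupp.single (mapPlace σ R) 1 -
      (Finsupp.single P 1 + Finsupp.single Q 1) ∈ prinDivs k K := by
  classical
  have hxi : Transcendental k x⁻¹ := fun h => hx (by simpa using h.inv)
  have hσi : ∀ z, z + σ z ∈ k⟮x⁻¹⟯ ∧ z * σ z ∈ k⟮x⁻¹⟯ := by rw [FF.adjoin_inv]; exact hσ
  have hx0 : x ≠ 0 := fun h => hx (h ▸ isAlgebraic_zero)
  rcases lt_or_ge (R.ord x) 0 with hR | hR
  · have h1 : 1 ≤ (Finsupp.single P 1 + Finsupp.single Q 1 : Divisor k K) R := by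
      rw [← hxD, FF.zeros_apply hK, FF.ord_inv]; omega
    rcases eq_or_ne R P with rfl | hP
    · rw [mapPlace_eq hK hxi (by rw [map_inv₀, hσx]) hσi hxD, sub_self]
      exact zero_mem _
    · rcases eq_or_ne R Q with rfl | hQ
      · rw [mapPlace_eq hK hxi (by rw [map_inv₀, hσx]) hσi (hxD.trans (add_comm _ _)),
          add_comm (Finsupp.single R 1) (Finsupp.single P 1), sub_self]
        exact zero_mem _
      · simp only [Finsupp.add_apply, Finsupp.single_eq_of_ne hP, Finsupp.single_eq_of_ne hQ] at h1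
        omega
  obtain ⟨c, hc⟩ := FF.exists_const hK R ((FF.v_le_one_iff R hx0).2 hR)
  set u := x - algebraMap k K c with hu
  have hadj : k⟮u⟯ = k⟮x⟯ := by
    refine le_antisymm (IntermediateField.adjoin_simple_le_iff.2 (sub_mem
      (IntermediateField.mem_adjoin_simple_self _ x) (IntermediateField.algebraMap_mem _ c)))
      (IntermediateField.adjoin_simple_le_iff.2 ?_)
    have := add_mem (IntermediateField.mem_adjoin_simple_self k u) (IntermediateField.algebraMap_mem k⟮u⟯ c)
    rwa [hu, sub_add_cancel] at this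
  have hut : Transcendental k u := fun h => hx (by
    have := h.add (isAlgebraic_algebraMap c)
    rwa [hu, sub_add_cancel] at this)
  have hu0 : u ≠ 0 := fun h => hut (h ▸ isAlgebraic_zero)
  have hRu : 0 < R.ord u := (FF.v_lt_one_iff R hu0).1 hc
  have hdu : (FF.zeros (k := k) u).deg = 2 := by rw [FF.deg_zeros hK hut, hadj, hdeg]; rfl
  have hle : (0 : Divisor k K) ≤ FF.zeros (k := k) u - Finsupp.single R 1 := fun S => by
    simp only [Finsupp.coe_zero, Pi.zero_apply, Finsupp.sub_apply, FF.zeros_apply hK]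
    rcases eq_or_ne S R with rfl | hS
    · rw [Finsupp.single_eq_same]; omega
    · rw [Finsupp.single_eq_of_ne hS]; omega
  obtain ⟨R', hR'⟩ := eq_single_of_deg_one hK hle (by rw [FF.deg_sub_single hK, hdu]; norm_num)
  rw [sub_eq_iff_eq_add] at hR'
  rw [mapPlace_eq hK hut (by rw [hu, map_sub, hσx, σ.commutes]) (hadj ▸ hσ) (hR'.trans (add_comm _ _))]
  refine (FF.mem_prinDivs_iff hK).2 ⟨u, hu0, ?_⟩
  ext S
  rw [FF.div_apply hK, ← hxD, Finsupp.sub_apply, add_comm (Finsupp.single R 1) (Finsupp.single R' 1), ← hR',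
    FF.zeros_apply hK, FF.zeros_apply hK, FF.ord_inv]
  rcases lt_or_ge (S.ord x) 0 with hS | hS
  · have hSu : S.ord u = S.ord x := by
      refine (FF.ord_eq_iff S hu0).2 ?_
      have h1 : 1 < S.1 x := by
        by_contra h
        exact not_le.2 hS ((FF.v_le_one_iff S hx0).1 (not_lt.1 h))
      rw [← FF.v_eq_exp S hx0, hu]
      exact Valuation.map_sub_eq_of_lt_left _ ((S.2.1 c).trans_lt h1)
    omega
  · have hSu : 0 ≤ S.ord u := (FF.v_le_one_iff S hu0).1
      ((S.1.map_sub _ _).trans (max_le ((FF.v_le_one_iff S hx0).2 hS) (S.2.1 c)))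
    omega

end FFLemmas

open CategoryTheory AlgebraicGeometry

attribute [local instance] Curv2.stalkAlgebra Curv2.resAlgebra
attribute [local instance high] FunFld.Place.algRes

variable {k : Type u} [Field k] [IsAlgClosed k] {X : Scheme.{u}} [X.Over (Spec (CommRingCat.of k))]
  [IsProper (X ↘ Spec (CommRingCat.of k))] [IsIntegral X] [Smooth (X ↘ Spec (CommRingCat.of k))]
  [VBLib.IsRegCurve X] (hdim : topologicalKrullDim X = 1)
include hdim

/-- The involution of a genus one curve exchanging two points. -/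
theorem exists_swap (hg : Curv2.genus k X = 1) {P Q : X} (hP : IsClosed ({P} : Set X)) (hQ : IsClosed ({Q} : Set X)) :
    ∃ σ : X ≅ X, σ.hom ≫ (X ↘ Spec (CommRingCat.of k)) = X ↘ Spec (CommRingCat.of k) ∧
      σ.hom ≫ σ.hom = 𝟙 X ∧ σ.hom P = Q ∧ ∀ (R : X) (hR : IsClosed ({R} : Set X)),
        ∃ h : IsClosed ({σ.hom R} : Set X), Finsupp.single (placeOf k hdim R hR) 1 +
          Finsupp.single (placeOf k hdim (σ.hom R) h) 1 -
          (Finsupp.single (placeOf k hdim P hP) 1 + Finsupp.single (placeOf k hdim Q hQ) 1) ∈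
            FunFld.prinDivs k X.functionField := by
  classical
  have h0 : Module.finrank k (Coh.HH X (Coh.structureModule X) 0) = 1 := CurveLib.finrank_H0_structure
  have hK := isFunctionField k hdim h0
  have hgF : FunFld.genus k X.functionField = 1 := (genus_eq hdim h0).symm.trans hg
  obtain ⟨x, hx, hdeg, hxD⟩ := exists_coord hK hgF (placeOf k hdim P hP) (placeOf k hdim Q hQ)
  haveI := isSeparable_of_finrank_two hdim h0 hg.ge hx hdeg
  obtain ⟨s, hfix, -, hss, hs⟩ := exists_involution hdeg
  have hsx : s x = x := hfix x (IntermediateField.mem_adjoin_simple_self k x)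
  obtain ⟨σ, hσ, hσgen⟩ := exists_iso_of_algEquiv hdim hdim s
  have himg : ∀ (R : X) (hR : IsClosed ({R} : Set X)),
      ∃ h : IsClosed ({σ.hom R} : Set X), placeOf k hdim (σ.hom R) h = mapPlace s (placeOf k hdim R hR) :=
    fun R hR => placeOf_image hdim σ.hom s hσgen hR
  refine ⟨σ, hσ, ?_, ?_, fun R hR => ?_⟩
  · haveI := isDominant_fromSpecStalk_generic (X := X)
    refine ext_of_isDominant_of_isSeparated (X ↘ Spec (CommRingCat.of k)) (by simp [hσ])
      (X.fromSpecStalk (genericPoint X)) ?_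
    rw [← Category.assoc, hσgen, Category.assoc, hσgen, ← Category.assoc, ← Spec.map_comp, ← CommRingCat.ofHom_comp,
      Category.comp_id]
    have e : s.toAlgHom.toRingHom.comp s.toAlgHom.toRingHom = RingHom.id _ := RingHom.ext hss
    rw [e, CommRingCat.ofHom_id, Spec.map_id]
    exact Category.id_comp _
  · obtain ⟨h, h1⟩ := himg P hP
    refine placeOf_injective (k := k) hdim h hQ ?_
    rw [h1]
    exact mapPlace_eq hK (fun h => hx (by simpa using h.inv)) (by rw [map_inv₀, hsx])
      (by rw [FF.adjoin_inv]; exact hs) hxD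
  · obtain ⟨h, h1⟩ := himg R hR
    refine ⟨h, ?_⟩
    rw [h1]
    exact sub_eq_prin hK hx hdeg hsx hs hxD _

end Groth.Agent.CurveFF
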