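import Groth.Agent.CurveFF.CanGen
import Groth.Agent.CurveFF.Omega
import Groth.Agent.FF.Misc
import Groth.Agent.FF.Clifford

/-!
# The coordinate of pole order two on a genus one curve has nonzero differential
-/

set_option autoImplicit false
set_option backward.isDefEq.respectTransparency false
set_option maxHeartbeats 800000
set_option linter.style.haveILetI false

universe u

open CategoryTheory AlgebraicGeometry TopologicalSpace
open scoped WithZero

noncomputable section

namespace Groth.Agent.CurveFF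

attribute [local instance] Curv2.stalkAlgebra
attribute [local instance high] FunFld.Place.algRes

section FFLemmas

open FunFld

variable {k K : Type u} [Field k] [Field K] [Algebra k K]

/-- In genus one the spaces `L(mP)` are spanned by the monomials in two coordinates of pole orders `2`, `3`. -/
theorem L_le_span_monomials (hK : IsFunctionField k K) (hg : genus k K = 1) {P : Place k K} (hP : P.deg = 1)
    {x y : K} (hx : x ∈ L (Finsupp.single P 2)) (hy : y ∈ L (Finsupp.single P 3)) (hxo : P.ord x = -2)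
    (hyo : P.ord y = -3) (m : ℕ) :
    L (Finsupp.single P (m : ℤ)) ≤
      Submodule.span k (Set.range (fun i : ℕ => x ^ i) ∪ Set.range fun i : ℕ => x ^ i * y) := by
  classical
  have hx0 : x ≠ 0 := fun h => by rw [h, FF.ord_zero] at hxo; norm_num at hxo
  have hy0 : y ≠ 0 := fun h => by rw [h, FF.ord_zero] at hyo; norm_num at hyo
  set S := Submodule.span k (Set.range (fun i : ℕ => x ^ i) ∪ Set.range fun i : ℕ => x ^ i * y)
  have hord : ∀ a b : ℕ, P.ord (x ^ a * y ^ b) = -(2 * a + 3 * b : ℤ) := fun a b => by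
    rw [FF.ord_mul P (pow_ne_zero _ hx0) (pow_ne_zero _ hy0), FF.ord_pow, FF.ord_pow, hxo, hyo]; ring
  have hmem : ∀ a b : ℕ, x ^ a * y ^ b ∈ L (Finsupp.single P ((2 * a + 3 * b : ℕ) : ℤ)) := by
    intro a b
    refine (FF.mem_L_iff_ord (mul_ne_zero (pow_ne_zero _ hx0) (pow_ne_zero _ hy0))).2 fun Q => ?_
    rcases eq_or_ne Q P with rfl | hQ
    · rw [Finsupp.single_eq_same, hord]; push_cast; omega
    · rw [Finsupp.single_eq_of_ne hQ, FF.ord_mul Q (pow_ne_zero _ hx0) (pow_ne_zero _ hy0), FF.ord_pow, FF.ord_pow]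
      have h1 := (FF.mem_L_iff_ord hx0).1 hx Q
      have h2 := (FF.mem_L_iff_ord hy0).1 hy Q
      rw [Finsupp.single_eq_of_ne hQ, add_zero] at h1 h2
      positivity
  induction m using Nat.strong_induction_on with
  | _ m ih =>
    rcases m with _ | _ | m
    · intro z hz
      rw [Nat.cast_zero, Finsupp.single_zero] at hz
      obtain ⟨c, rfl⟩ := Submodule.mem_one.1 (FF.L_zero_le hK hz)
      rw [Algebra.algebraMap_eq_smul_one]
      exact S.smul_mem c (Submodule.subset_span (Or.inl ⟨0, pow_zero x⟩))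
    · -- `L(P)` consists of constants
      have h1 : ell (Finsupp.single P ((1 : ℕ) : ℤ)) = 1 := by
        have := FF.ell_of_deg_large hK (D := Finsupp.single P ((1 : ℕ) : ℤ)) (by rw [FF.deg_single, hP, hg]; norm_num)
        rw [FF.deg_single, hP, hg] at this
        omega
      haveI := FF.finite_L hK (Finsupp.single P ((1 : ℕ) : ℤ))
      have h2 : L (0 : Divisor k K) ≤ L (Finsupp.single P ((1 : ℕ) : ℤ)) :=
        FF.L_mono (Finsupp.single_nonneg.2 (by norm_num))
      have h3 := Submodule.eq_of_le_of_finrank_eq h2 (by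
        show ell (0 : Divisor k K) = ell (Finsupp.single P ((1 : ℕ) : ℤ))
        rw [FF.ell_zero hK, h1])
      rw [← h3]
      simpa using ih 0 (by norm_num)
    · obtain ⟨a, b, hb, hab⟩ : ∃ a b : ℕ, b ≤ 1 ∧ 2 * a + 3 * b = m + 2 := by
        rcases Nat.even_or_odd m with ⟨a, ha⟩ | ⟨a, ha⟩
        · exact ⟨a + 1, 0, by omega, by omega⟩
        · exact ⟨a, 1, le_rfl, by omega⟩
      set f := x ^ a * y ^ b with hf
      have hfm : f ∈ L (Finsupp.single P ((m + 2 : ℕ) : ℤ)) := hab ▸ hmem a b
      have hfS : f ∈ S := by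
        rcases Nat.le_one_iff_eq_zero_or_eq_one.1 hb with rfl | rfl
        · exact Submodule.subset_span (Or.inl ⟨a, by simp [hf]⟩)
        · exact Submodule.subset_span (Or.inr ⟨a, by simp [hf]⟩)
      have hl : ∀ n : ℕ, 1 ≤ n → ell (Finsupp.single P (n : ℤ)) = n := fun n hn => by
        have := FF.ell_of_deg_large hK (D := Finsupp.single P (n : ℤ)) (by rw [FF.deg_single, hP, hg]; push_cast; omega)
        rw [FF.deg_single, hP, hg] at this
        omega
      haveI := FF.finite_L hK (Finsupp.single P ((m + 2 : ℕ) : ℤ))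
      have hle : L (Finsupp.single P ((m + 1 : ℕ) : ℤ)) ⊔ k ∙ f ≤ L (Finsupp.single P ((m + 2 : ℕ) : ℤ)) :=
        sup_le (FF.L_mono (Finsupp.single_mono (by omega))) ((Submodule.span_singleton_le_iff_mem _ _).2 hfm)
      have hnot : f ∉ L (Finsupp.single P ((m + 1 : ℕ) : ℤ)) := fun h => by
        have h1 := (FF.mem_L_iff_ord (mul_ne_zero (pow_ne_zero _ hx0) (pow_ne_zero _ hy0))).1 h P
        rw [Finsupp.single_eq_same, hord] at h1
        omega
      haveI := Submodule.finiteDimensional_of_le hle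
      have heq := Submodule.eq_of_le_of_finrank_le hle (by
        have h1 : ell (Finsupp.single P ((m + 1 : ℕ) : ℤ)) < Module.finrank k
            ↥(L (Finsupp.single P ((m + 1 : ℕ) : ℤ)) ⊔ k ∙ f) :=
          Submodule.finrank_lt_finrank_of_lt (left_lt_sup.2 fun h => hnot (h (Submodule.mem_span_singleton_self f)))
        have h2 := hl (m + 1) (by omega)
        have h3 := hl (m + 2) (by omega)
        simp only [ell] at h1 h2 h3
        omega)
      rw [← heq]
      exact sup_le (ih (m + 1) (by omega)) ((Submodule.span_singleton_le_iff_mem _ _).2 hfS)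

/-- A function regular at `Q` is a fraction of functions regular away from `P`, with denominator a unit at `Q`. -/
theorem exists_den (hK : IsFunctionField k K) (hg : genus k K = 1) {P Q : Place k K} (hP : P.deg = 1) (hQ : Q ≠ P)
    {z : K} (hz0 : z ≠ 0) (hz : 0 ≤ Q.ord z) :
    ∃ (s : K) (m : ℕ), s ≠ 0 ∧ Q.ord s = 0 ∧ s ∈ L (Finsupp.single P (m : ℤ)) ∧ s * z ∈ L (Finsupp.single P (m : ℤ)) := by
  classical
  let E : Divisor k K := Finsupp.erase P ((-div k z) ⊔ 0)
  have hE0 : 0 ≤ E := fun R => by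
    rcases eq_or_ne R P with rfl | hR
    · simp [E]
    · simp [E, Finsupp.erase_ne hR]
  have hEP : E P = 0 := by simp [E]
  have hEQ : E Q = 0 := by
    simp only [E, Finsupp.erase_ne hQ, Finsupp.sup_apply, Finsupp.neg_apply, Finsupp.zero_apply, FF.div_apply hK]
    omega
  have hEne : ∀ R, R ≠ P → -R.ord z ≤ E R := fun R hR => by
    simp only [E, Finsupp.erase_ne hR, Finsupp.sup_apply, Finsupp.neg_apply, Finsupp.zero_apply, FF.div_apply hK]
    exact le_sup_left
  have hEd := FF.deg_nonneg hE0
  obtain ⟨n, hn⟩ : ∃ n : ℕ, (n : ℤ) = E.deg + Q.deg + 1 := ⟨(E.deg + Q.deg + 1).toNat, by omega⟩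
  set A : Divisor k K := Finsupp.single P (n : ℤ) - E with hA
  have hAd : A.deg = Q.deg + 1 := by rw [hA, FF.deg_sub, FF.deg_single, hP, hn]; push_cast; ring
  have hlt : ell (A - Finsupp.single Q 1) < ell A := by
    have h1 := FF.ell_of_deg_large hK (D := A) (by rw [hg, hAd]; push_cast; omega)
    have hd2 : (A - Finsupp.single Q 1).deg = 1 := by rw [FF.deg_sub, FF.deg_single, hAd]; ring
    have h2 := FF.ell_of_deg_large hK (D := A - Finsupp.single Q 1) (by rw [hg, hd2]; norm_num)
    rw [hd2, hg] at h2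
    rw [hAd, hg] at h1
    have := FF.deg_pos hK Q
    omega
  obtain ⟨s, hs0, hs, hso⟩ := FF.exists_mem_L_ord hlt
  have hAQ : A Q = 0 := by rw [hA, Finsupp.sub_apply, Finsupp.single_eq_of_ne hQ, hEQ]; rfl
  have hsb : ∀ R, R ≠ P → E R ≤ R.ord s := fun R hR => by
    have := (FF.mem_L_iff_ord hs0).1 hs R
    rw [hA, Finsupp.sub_apply, Finsupp.single_eq_of_ne hR] at this
    omega
  have hsP : -(n : ℤ) ≤ P.ord s := by
    have := (FF.mem_L_iff_ord hs0).1 hs P
    rw [hA, Finsupp.sub_apply, Finsupp.single_eq_same, hEP] at this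
    omega
  refine ⟨s, n + (P.ord z).natAbs, hs0, by rw [hso, hAQ]; rfl, (FF.mem_L_iff_ord hs0).2 fun R => ?_,
    (FF.mem_L_iff_ord (mul_ne_zero hs0 hz0)).2 fun R => ?_⟩
  · rcases eq_or_ne R P with rfl | hR
    · rw [Finsupp.single_eq_same]; omega
    · rw [Finsupp.single_eq_of_ne hR]
      have := hsb R hR
      have := hE0 R
      simp only [Finsupp.coe_zero, Pi.zero_apply] at this
      omega
  · rw [FF.ord_mul R hs0 hz0]
    rcases eq_or_ne R P with rfl | hR
    · rw [Finsupp.single_eq_same]; omega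
    · rw [Finsupp.single_eq_of_ne hR]
      have := hsb R hR
      have := hEne R hR
      omega

end FFLemmas

variable {k : Type u} [Field k] {X : Scheme.{u}} [X.Over (Spec (CommRingCat.of k))]
  [IsProper (X ↘ Spec (CommRingCat.of k))] [IsIntegral X] [VBLib.IsRegCurve X] [Smooth (X ↘ Spec (CommRingCat.of k))]
  (hdim : topologicalKrullDim X = 1) (h0 : Module.finrank k (Coh.HH X (Coh.structureModule X) 0) = 1)
include hdim h0

/-- In genus one, a function with a double pole at a rational point has nonzero differential. -/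
theorem delta_ne_zero_of_genus_one (hg : Curv2.genus k X = 1) {P : FunFld.Place k X.functionField} (hP : P.deg = 1)
    {x y : X.functionField} (hx : x ∈ FunFld.L (Finsupp.single P 2)) (hy : y ∈ FunFld.L (Finsupp.single P 3))
    (hxo : P.ord x = -2) (hyo : P.ord y = -3) :
    delta (k := k) (genericPoint X) x ≠ 0 := by
  classical
  intro hdx
  have hK := isFunctionField k hdim h0
  have hgF : FunFld.genus k X.functionField = 1 := (genus_eq hdim h0).symm.trans hg
  have hx0 : x ≠ 0 := fun h => by rw [h, FF.ord_zero] at hxo; norm_num at hxo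
  have hy0 : y ≠ 0 := fun h => by rw [h, FF.ord_zero] at hyo; norm_num at hyo
  let η := genericPoint X
  let δ : X.functionField → (om k X).presheaf.stalk η := fun z => delta (k := k) η z
  have hadd : ∀ a b, δ (a + b) = δ a + δ b := delta_add η
  have hmul : ∀ a b : X.functionField, δ (a * b) =
      (a : X.presheaf.stalk η) • δ b + (b : X.presheaf.stalk η) • δ a := delta_mul η
  have hcst : ∀ c : k, δ (algebraMap k X.functionField c) = 0 := fun c => by
    rw [← algebraMap_stalkMap η c]
    refine Eq.trans ?_ (delta_const (k := k) η c)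
    exact congrArg _ congr($(TopCat.Presheaf.stalkSpecializes_refl X.presheaf η) _)
  have hzero : δ 0 = 0 := by simpa using hcst 0
  have hxpow : ∀ i : ℕ, δ (x ^ i) = 0 := by
    intro i
    induction i with
    | zero => rw [pow_zero, ← map_one (algebraMap k X.functionField)]; exact hcst 1
    | succ i ih => rw [pow_succ, hmul, ih, show δ x = 0 from hdx, smul_zero, smul_zero, add_zero]
  -- functions regular away from `P`
  have hreg : ∀ (m : ℕ) (z : X.functionField), z ∈ FunFld.L (Finsupp.single P (m : ℤ)) →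
      ∃ c : X.functionField, (∀ Q : FunFld.Place k X.functionField, Q ≠ P → Q.1 c ≤ 1) ∧
        δ z = (c : X.presheaf.stalk η) • δ y := by
    intro m z hz
    have hz' := L_le_span_monomials hK hgF hP hx hy hxo hyo m hz
    clear hz
    induction hz' using Submodule.span_induction with
    | mem w hw =>
      rcases hw with ⟨i, rfl⟩ | ⟨i, rfl⟩
      · exact ⟨0, fun Q _ => by simp, by rw [hxpow i]; exact (zero_smul _ _).symm⟩
      · refine ⟨x ^ i, fun Q hQ => ?_, ?_⟩
        · rw [map_pow]
          refine pow_le_one₀ zero_le' ((FF.v_le_one_iff Q hx0).2 ?_)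
          have h1 := (FF.mem_L_iff_ord hx0).1 hx Q
          rwa [Finsupp.single_eq_of_ne hQ, add_zero] at h1
        · rw [hmul, hxpow i, smul_zero, add_zero]
    | zero => exact ⟨0, fun Q _ => by simp, by rw [hzero]; exact (zero_smul _ _).symm⟩
    | add a b _ _ ha hb =>
      obtain ⟨c, hc, hc'⟩ := ha
      obtain ⟨d, hd, hd'⟩ := hb
      exact ⟨c + d, fun Q hQ => (Q.1.map_add _ _).trans (max_le (hc Q hQ) (hd Q hQ)), by
        rw [hadd, hc', hd']; exact (add_smul (c : X.presheaf.stalk η) d _).symm⟩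
    | smul r a _ ha =>
      obtain ⟨c, hc, hc'⟩ := ha
      refine ⟨r • c, fun Q hQ => (FF.v_smul_le Q r c).trans (hc Q hQ), ?_⟩
      rw [Algebra.smul_def, hmul, hcst, smul_zero, add_zero, hc', smul_smul, Algebra.smul_def]
  -- functions regular at `Q ≠ P`
  have hloc : ∀ Q : FunFld.Place k X.functionField, Q ≠ P → ∀ z : X.functionField, Q.1 z ≤ 1 →
      ∃ c : X.functionField, Q.1 c ≤ 1 ∧ δ z = (c : X.presheaf.stalk η) • δ y := by
    intro Q hQ z hz
    rcases eq_or_ne z 0 with rfl | hz0
    · exact ⟨0, by simp, by rw [hzero]; exact (zero_smul _ _).symm⟩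
    obtain ⟨s, m, hs0, hso, hsm, hszm⟩ := exists_den hK hgF hP hQ hz0 ((FF.v_le_one_iff Q hz0).1 hz)
    obtain ⟨cs, hcs, hcs'⟩ := hreg m s hsm
    obtain ⟨cz, hcz, hcz'⟩ := hreg m (s * z) hszm
    have hvs : Q.1 s = 1 := by rw [FF.v_eq_exp Q hs0, hso, neg_zero, WithZero.exp_zero]
    refine ⟨(cz - z * cs) / s, ?_, ?_⟩
    · rw [map_div₀, hvs, div_one]
      refine (Q.1.map_sub _ _).trans (max_le (hcz Q hQ) ?_)
      rw [map_mul]
      exact mul_le_one' hz (hcs Q hQ)
    · have h := hmul s z
      rw [hcz', hcs', smul_smul] at h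
      have h2 : (s : X.presheaf.stalk η) • δ z = ((cz - z * cs : X.functionField) : X.presheaf.stalk η) • δ y := by
        show _ = ((cz : X.presheaf.stalk η) - (z : X.presheaf.stalk η) * cs) • δ y
        rw [sub_smul, h, add_sub_cancel_right]
      have h3 := congrArg (fun w => ((s⁻¹ : X.functionField) : X.presheaf.stalk η) • w) h2
      simp only [smul_smul] at h3
      rw [show ((s⁻¹ : X.functionField) : X.presheaf.stalk η) * (s : X.presheaf.stalk η) = 1 from inv_mul_cancel₀ hs0,
        one_smul] at h3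
      rw [h3, div_eq_inv_mul]
  -- `δ y` is a base
  have hΩ := omega_invertible_of_smooth k hdim h0 (X := X)
  obtain ⟨e0, he0⟩ := exists_base hΩ
  have hall : ∀ z : X.functionField, ∃ c : X.functionField, δ z = (c : X.presheaf.stalk η) • δ y := by
    intro z
    have hyt : Transcendental k y := fun h => by
      obtain ⟨c, hc⟩ := hK.2 y h
      rw [← hc, FF.ord_algebraMap] at hyo
      norm_num at hyo
    obtain ⟨Q, hQy⟩ := FF.exists_zero hK hyt
    have hQ : Q ≠ P := fun h => by
      rw [h, FF.v_lt_one_iff P hy0, hyo] at hQy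
      norm_num at hQy
    rcases le_total (Q.1 z) 1 with hz | hz
    · obtain ⟨c, -, hc⟩ := hloc Q hQ z hz
      exact ⟨c, hc⟩
    · have hz0 : z ≠ 0 := fun h => by rw [h, map_zero] at hz; exact absurd hz (not_le.2 zero_lt_one)
      obtain ⟨c, -, hc⟩ := hloc Q hQ z⁻¹ (by rw [map_inv₀]; exact inv_le_one_of_one_le₀ hz)
      have h1 := hmul z z⁻¹
      rw [mul_inv_cancel₀ hz0, ← map_one (algebraMap k X.functionField), hcst, hc, smul_smul] at h1
      have h2 := congrArg (fun w => (z : X.presheaf.stalk η) • w) (eq_neg_of_add_eq_zero_right h1.symm)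
      simp only [smul_neg, smul_smul] at h2
      rw [show (z : X.presheaf.stalk η) * ((z⁻¹ : X.functionField) : X.presheaf.stalk η) = 1 from mul_inv_cancel₀ hz0,
        one_smul, ← neg_smul] at h2
      exact ⟨-(z * (z * c)), h2⟩
  have hy1 : δ y ≠ 0 := by
    intro h
    have hm : ∀ m, m = (0 : (om k X).presheaf.stalk η) := fun m => by
      have hmem : m ∈ Submodule.span (X.presheaf.stalk η) (Set.range (delta (k := k) η)) :=
        (span_range_delta η).ge Submodule.mem_top
      induction hmem using Submodule.span_induction with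
      | mem w hw =>
        obtain ⟨z, rfl⟩ := hw
        obtain ⟨c, hc⟩ := hall z
        exact hc.trans (by rw [h, smul_zero])
      | zero => rfl
      | add a b _ _ ha hb => rw [ha, hb, add_zero]
      | smul r a _ ha => rw [ha, smul_zero]
    exact one_ne_zero (α := X.presheaf.stalk η) (he0.1 ((hm _).trans (hm ((0 : X.presheaf.stalk η) • e0)).symm))
  have he : IsBase (om k X) (δ y) := by
    obtain ⟨a, ha⟩ := he0.2 (δ y)
    have ha0 : (a : X.functionField) ≠ 0 := fun h => hy1 (by
      rw [← ha]; show (a : X.presheaf.stalk η) • e0 = 0; rw [show (a : X.presheaf.stalk η) = 0 from h, zero_smul])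
    have hfun : (fun r : X.presheaf.stalk η => r • δ y) = (fun r : X.presheaf.stalk η => r • e0) ∘ fun r => r * a := by
      funext r; simp only [Function.comp_apply]; rw [← ha]; exact smul_smul r a e0
    show Function.Bijective _
    rw [hfun]
    exact he0.comp (mulRight_bijective₀ (G₀ := X.functionField) a ha0)
  obtain ⟨D, hD⟩ := exists_isDiv hdim h0 hΩ he
  have hdeg : D.deg = 0 := by
    rw [← (genus_and_deg hdim h0 hΩ he hD).2, (omega_deg_h0 k hdim h0).1, hg]; norm_num
  -- the coefficients at a closed point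
  have hspan : ∀ (z : X) (w : (om k X).presheaf.stalk z) (T : Set X.functionField),
      (∀ a : X.presheaf.stalk z, ∃ c ∈ T, δ (algebraMap _ X.functionField a) = (c : X.presheaf.stalk η) • δ y) →
      ∀ (hT0 : (0 : X.functionField) ∈ T) (hTa : ∀ a ∈ T, ∀ b ∈ T, a + b ∈ T)
        (hTs : ∀ (r : X.presheaf.stalk z), ∀ a ∈ T, algebraMap _ X.functionField r * a ∈ T),
      ∃ c ∈ T, spec (om k X) z w = (c : X.presheaf.stalk η) • δ y := by
    intro z w T hgen hT0 hTa hTs
    have hmem : w ∈ Submodule.span (X.presheaf.stalk z) (Set.range (delta (k := k) z)) :=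
      (span_range_delta z).ge Submodule.mem_top
    induction hmem using Submodule.span_induction with
    | mem v hv =>
      obtain ⟨a, rfl⟩ := hv
      obtain ⟨c, hc, hc'⟩ := hgen a
      exact ⟨c, hc, (spec_delta z a).trans hc'⟩
    | zero => exact ⟨0, hT0, by rw [map_zero]; exact (zero_smul _ _).symm⟩
    | add a b _ _ ha hb =>
      obtain ⟨c, hc, hc'⟩ := ha
      obtain ⟨d, hd, hd'⟩ := hb
      exact ⟨c + d, hTa c hc d hd, by rw [map_add, hc', hd']; exact (add_smul (c : X.presheaf.stalk η) d _).symm⟩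
    | smul r a _ ha =>
      obtain ⟨c, hc, hc'⟩ := ha
      exact ⟨_, hTs r c hc, by rw [spec_smul, hc', smul_smul]⟩
  have hO : ∀ (z : X) (hz : IsClosed ({z} : Set X)) (r : X.presheaf.stalk z),
      (placeOf k hdim z hz).1 (algebraMap _ X.functionField r) ≤ 1 :=
    fun z hz r => (placeOf_le_one_iff hdim hz _).2 ⟨r, rfl⟩
  have hD0 : ∀ Q, Q ≠ P → D Q = 0 := by
    intro Q hQ
    obtain ⟨z, hz, rfl⟩ := placeOf_surjective hdim Q
    set Q := placeOf k hdim z hz
    have hone : InStalk (om k X) (δ y) z 1 := by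
      have hy' : Q.1 y ≤ 1 := by
        refine (FF.v_le_one_iff Q hy0).2 ?_
        have h1 := (FF.mem_L_iff_ord hy0).1 hy Q
        rwa [Finsupp.single_eq_of_ne hQ, add_zero] at h1
      obtain ⟨a, ha⟩ := (placeOf_le_one_iff hdim hz y).1 hy'
      exact ⟨delta z a, (spec_delta z a).trans (by rw [ha]; exact (one_smul _ _).symm)⟩
    have h1 : (1 : ℤ) * 0 ≤ D Q := by
      have := (hD z hz 1).1 hone
      rw [map_one, ← WithZero.exp_zero, WithZero.exp_le_exp] at this
      simpa using this
    obtain ⟨f, hf⟩ := Q.2.2 (WithZero.exp (D Q))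
    obtain ⟨w, hw⟩ := (hD z hz f).2 hf.le
    obtain ⟨c, hc, hc'⟩ := hspan z w {c | Q.1 c ≤ 1}
      (fun a => hloc Q hQ _ (hO z hz a)) (by simp)
      (fun a ha b hb => (Q.1.map_add _ _).trans (max_le ha hb))
      (fun r a ha => by show Q.1 _ ≤ 1; rw [map_mul]; exact mul_le_one' (hO z hz r) ha)
    have hfc : f = c := he.1 (hw.symm.trans hc')
    rw [← hfc] at hc
    change Q.1 f ≤ 1 at hc
    rw [hf, ← WithZero.exp_zero, WithZero.exp_le_exp] at hc
    omega
  have hDP : D P = 0 := by
    have hDs : D = Finsupp.single P (D P) := Finsupp.ext fun Q => by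
      rcases eq_or_ne Q P with rfl | hQ
      · rw [Finsupp.single_eq_same]
      · rw [Finsupp.single_eq_of_ne hQ, hD0 Q hQ]
    rw [hDs, FF.deg_single, hP] at hdeg
    simpa using hdeg
  obtain ⟨z, hz, hzP⟩ := placeOf_surjective hdim P
  -- coefficients at the point are integral
  have hint : ∀ a : X.functionField, P.1 a ≤ 1 →
      ∃ c : X.functionField, P.1 c ≤ 1 ∧ δ a = (c : X.presheaf.stalk η) • δ y := by
    intro a ha
    obtain ⟨r, hr⟩ := (placeOf_le_one_iff hdim hz a).1 (hzP ▸ ha)
    obtain ⟨c, hc⟩ := hall a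
    refine ⟨c, ?_, hc⟩
    have := (hD z hz c).1 ⟨delta z r, (spec_delta z r).trans (by rw [hr]; exact hc)⟩
    rwa [hzP, hDP, WithZero.exp_zero] at this
  -- and lie in the maximal ideal
  have hmax : ∀ a : X.functionField, P.1 a ≤ 1 →
      ∃ c : X.functionField, P.1 c < 1 ∧ δ a = (c : X.presheaf.stalk η) • δ y := by
    intro a ha
    set π := x * y⁻¹ with hπdef
    have hπ0 : π ≠ 0 := mul_ne_zero hx0 (inv_ne_zero hy0)
    have hπo : P.ord π = 1 := by rw [hπdef, FF.ord_mul P hx0 (inv_ne_zero hy0), FF.ord_inv, hxo, hyo]; ring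
    -- `a = r + π u`
    obtain ⟨r, u, hu, rfl⟩ : ∃ (r : k) (u : X.functionField), P.1 u ≤ 1 ∧ a = algebraMap k _ r + π * u := by
      have hfin : Module.finrank k (IsLocalRing.ResidueField P.O) = 1 := hP
      obtain ⟨r, hr⟩ := (finrank_eq_one_iff_of_nonzero' (1 : IsLocalRing.ResidueField P.O) one_ne_zero).1 hfin
        (IsLocalRing.residue P.O ⟨a, ha⟩)
      refine ⟨r, (a - algebraMap k _ r) / π, ?_, ?_⟩
      · have hmem : P.1 (algebraMap k X.functionField r) ≤ 1 := P.2.1 r
        have h1 : IsLocalRing.residue P.O (⟨a, ha⟩ - ⟨_, hmem⟩) = 0 := by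
          rw [map_sub, sub_eq_zero, ← hr, Algebra.smul_def, mul_one]
          rfl
        have h2 : P.1 (a - algebraMap k _ r) < 1 := (FF.residue_eq_zero_iff _).1 h1
        rcases eq_or_ne (a - algebraMap k X.functionField r) 0 with h0' | h0'
        · rw [h0', zero_div, map_zero]; exact zero_le'
        · rw [FF.v_le_one_iff P (div_ne_zero h0' hπ0), div_eq_mul_inv, FF.ord_mul P h0' (inv_ne_zero hπ0),
            FF.ord_inv, hπo]
          have := (FF.v_lt_one_iff P h0').1 h2
          omega
      · rw [mul_div_cancel₀ _ hπ0]; ring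
    obtain ⟨cu, hcu, hcu'⟩ := hint u hu
    let cπ : X.functionField := -(x * y⁻¹ * y⁻¹)
    have hδπ : δ π = (cπ : X.presheaf.stalk η) • δ y := by
      have h1 := hmul π y
      rw [show π * y = x by rw [hπdef, mul_assoc, inv_mul_cancel₀ hy0, mul_one], show δ x = 0 from hdx] at h1
      have h2 : (y : X.presheaf.stalk η) • δ π = -((π : X.presheaf.stalk η) • δ y) := eq_neg_of_add_eq_zero_right h1.symm
      have h3 := congrArg (fun w => ((y⁻¹ : X.functionField) : X.presheaf.stalk η) • w) h2
      simp only [smul_neg, smul_smul] at h3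
      rw [show ((y⁻¹ : X.functionField) : X.presheaf.stalk η) * (y : X.presheaf.stalk η) = 1 from inv_mul_cancel₀ hy0,
        one_smul, ← neg_smul] at h3
      rw [h3]
      congr 1
      show -(y⁻¹ * π) = cπ
      ring
    have hcπ : P.1 cπ < 1 := by
      rw [Valuation.map_neg, FF.v_lt_one_iff P (mul_ne_zero (mul_ne_zero hx0 (inv_ne_zero hy0)) (inv_ne_zero hy0)),
        FF.ord_mul P (mul_ne_zero hx0 (inv_ne_zero hy0)) (inv_ne_zero hy0), FF.ord_mul P hx0 (inv_ne_zero hy0),
        FF.ord_inv, hxo, hyo]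
      norm_num
    refine ⟨π * cu + u * cπ, ?_, ?_⟩
    · refine (P.1.map_add _ _).trans_lt (max_lt ?_ ?_)
      · rw [map_mul]
        exact mul_lt_one_of_nonneg_of_lt_one_left zero_le (by rw [FF.v_lt_one_iff P hπ0, hπo]; norm_num) hcu
      · rw [map_mul]
        exact mul_lt_one_of_nonneg_of_lt_one_right hu zero_le hcπ
    · rw [hadd, hcst, zero_add, hmul, hcu', hδπ, smul_smul, smul_smul, ← add_smul]
  obtain ⟨w, hw⟩ := (hD z hz 1).2 (by rw [hzP, hDP, WithZero.exp_zero, map_one])
  obtain ⟨c, hc, hc'⟩ := hspan z w {c | P.1 c < 1} (fun a => hmax _ (hzP ▸ hO z hz a)) (by simp)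
    (fun a ha b hb => (P.1.map_add _ _).trans_lt (max_lt ha hb))
    (fun r a ha => by
      show P.1 _ < 1
      rw [map_mul]
      exact mul_lt_one_of_nonneg_of_lt_one_right (hzP ▸ hO z hz r) zero_le ha)
  have hfc : (1 : X.functionField) = c := he.1 (hw.symm.trans hc')
  rw [← hfc] at hc
  change P.1 1 < 1 at hc
  rw [map_one] at hc
  exact lt_irrefl _ hc

end Groth.Agent.CurveFF
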