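import Groth.Agent.CurveFF.HypInvolution
import Groth.Agent.CurveFF.Pencil
import Groth.Agent.CurveFF.GenEtale

/-!
# Maps of function fields of morphisms, and the centrality of the hyperelliptic involution
-/

set_option autoImplicit false
set_option backward.isDefEq.respectTransparency false
set_option maxHeartbeats 800000
set_option linter.style.haveILetI false

universe u

open scoped WithZero IntermediateField

noncomputable section

namespace Groth.Agent.CurveFF

section FFLemmas

open FunFld

variable {k K : Type u} [Field k] [Field K] [Algebra k K]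

/-- In genus at least two the degree two rational subfield is unique. -/
theorem adjoin_eq_of_finrank_two [IsAlgClosed k] (hK : IsFunctionField k K) (hg : 2 ≤ genus k K) {x x' : K}
    (hx : Transcendental k x) (hx' : Transcendental k x') (hd : Module.finrank k⟮x⟯ K = 2)
    (hd' : Module.finrank k⟮x'⟯ K = 2) : k⟮x'⟯ = k⟮x⟯ := by
  classical
  have hx0 : x ≠ 0 := fun h => hx (h ▸ isAlgebraic_zero)
  have hx'0 : x' ≠ 0 := fun h => hx' (h ▸ isAlgebraic_zero)
  set D := FF.zeros (k := k) x⁻¹
  set D' := FF.zeros (k := k) x'⁻¹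
  have hdeg : ∀ z : K, Transcendental k z → Module.finrank k⟮z⟯ K = 2 → (FF.zeros (k := k) z⁻¹).deg = 2 :=
    fun z hz h => by rw [FF.deg_zeros hK (fun h' => hz (by simpa using h'.inv)), FF.adjoin_inv, h]; rfl
  have hmem : ∀ z : K, z ≠ 0 → z ∈ L (FF.zeros (k := k) z⁻¹) := fun z hz =>
    (FF.mem_L_iff_ord hz).2 fun Q => by rw [FF.zeros_apply hK, FF.ord_inv]; omega
  have hli : ∀ z : K, Transcendental k z → LinearIndependent k ![(1 : K), z] := fun z hz => by
    rw [LinearIndependent.pair_iff]
    intro s t h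
    have ht : t = 0 := by
      by_contra ht
      refine hz ?_
      have : z = algebraMap k K (-s / t) := by
        rw [Algebra.smul_def, Algebra.smul_def, mul_one] at h
        rw [map_div₀, map_neg, eq_div_iff ((_root_.map_ne_zero _).2 ht)]
        linear_combination h
      exact this ▸ isAlgebraic_algebraMap _
    refine ⟨?_, ht⟩
    rw [ht, zero_smul, add_zero, smul_eq_zero] at h
    exact h.resolve_right one_ne_zero
  have hspan : ∀ z : K, Transcendental k z → z ≠ 0 →
      Submodule.span k (Set.range ![(1 : K), z]) ≤ L (FF.zeros (k := k) z⁻¹) := fun z _ hz => by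
    rw [Submodule.span_le]
    rintro _ ⟨i, rfl⟩
    rcases (by decide : ∀ i : Fin 2, i = 0 ∨ i = 1) i with rfl | rfl
    · exact FF.one_mem_L (FF.zeros_nonneg _)
    · exact hmem z hz
  have hell : ∀ z : K, Transcendental k z → z ≠ 0 → 2 ≤ ell (FF.zeros (k := k) z⁻¹) := fun z hz hz0 => by
    haveI := FF.finite_L hK (FF.zeros (k := k) z⁻¹)
    have := Submodule.finrank_mono (hspan z hz hz0)
    rwa [finrank_span_eq_card (hli z hz), Fintype.card_fin] at this
  haveI := FF.finite_L hK D
  have hL : L D = Submodule.span k (Set.range ![(1 : K), x]) := by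
    refine (Submodule.eq_of_le_of_finrank_le (hspan x hx hx0) ?_).symm
    rw [finrank_span_eq_card (hli x hx), Fintype.card_fin]
    exact ell_le_two hK (by omega) (hdeg x hx hd)
  have hsub : ∀ w ∈ L D, w ∈ k⟮x⟯ := by
    intro w hw
    rw [hL] at hw
    refine (Submodule.span_le (p := k⟮x⟯.toSubalgebra.toSubmodule)).2 ?_ hw
    rintro _ ⟨i, rfl⟩
    rcases (by decide : ∀ i : Fin 2, i = 0 ∨ i = 1) i with rfl | rfl
    · exact one_mem k⟮x⟯
    · exact IntermediateField.mem_adjoin_simple_self k x
  obtain ⟨z, hz, hzd⟩ := (FF.mem_prinDivs_iff hK).1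
    (g12_unique hK hg (hdeg x' hx' hd') (hdeg x hx hd) (hell x' hx' hx'0) (hell x hx hx0))
  have hw : ∀ w ∈ L D', w * z ∈ k⟮x⟯ := fun w hw => by
    rcases eq_or_ne w 0 with rfl | hw0
    · rw [zero_mul]; exact zero_mem _
    refine hsub _ ((FF.mem_L_iff_ord (mul_ne_zero hw0 hz)).2 fun Q => ?_)
    have h1 := (FF.mem_L_iff_ord hw0).1 hw Q
    have h3 := congrArg (fun E : Divisor k K => E Q) hzd
    simp only [FF.div_apply hK, Finsupp.sub_apply] at h3
    rw [FF.ord_mul Q hw0 hz]
    simp only [D, D'] at *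
    omega
  have h1 : z ∈ k⟮x⟯ := by simpa using hw 1 (FF.one_mem_L (FF.zeros_nonneg _))
  have h2 := div_mem (hw x' (hmem x' hx'0)) h1
  rw [mul_div_assoc, div_self hz, mul_one] at h2
  haveI := FF.finiteDimensional_adjoin hK hx'
  exact IntermediateField.eq_of_le_of_finrank_eq' (IntermediateField.adjoin_simple_le_iff.2 h2) (hd'.trans hd.symm)

/-- An automorphism over the base of a separable quadratic extension is trivial or the involution. -/
theorem eq_involution {F : IntermediateField k K} {s₀ s : K →ₐ[k] K} (hs₀ : ∀ z, z + s₀ z ∈ F ∧ z * s₀ z ∈ F)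
    (hs : ∀ r ∈ F, s r = r) (hne : ∃ z, s z ≠ z) (z : K) : s z = s₀ z := by
  have hor : ∀ z, s z = z ∨ s z = s₀ z := fun z => by
    have h1 := hs _ (hs₀ z).1
    have h2 := hs _ (hs₀ z).2
    rw [map_add] at h1
    rw [map_mul] at h2
    have h3 : (s z - z) * (s z - s₀ z) = 0 := by linear_combination (s z) * h1 - h2
    exact (mul_eq_zero.1 h3).imp sub_eq_zero.1 sub_eq_zero.1
  obtain ⟨a, ha⟩ := hne
  have ha' := (hor a).resolve_left ha
  refine (hor z).elim (fun hz => ?_) id
  rcases hor (a + z) with h | h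
  · rw [map_add, hz, add_left_inj] at h
    exact absurd h ha
  · rw [map_add, map_add, hz, ha', add_right_inj] at h
    exact hz.trans h

/-- The hyperelliptic involution commutes with all automorphisms. -/
theorem involution_central [IsAlgClosed k] (hK : IsFunctionField k K) (hg : 2 ≤ genus k K) {x : K}
    (hx : Transcendental k x) (hd : Module.finrank k⟮x⟯ K = 2) {s₀ : K →ₐ[k] K} (hfix : ∀ r ∈ k⟮x⟯, s₀ r = r)
    (hne : ∃ z, s₀ z ≠ z) (hs₀ : ∀ z, z + s₀ z ∈ k⟮x⟯ ∧ z * s₀ z ∈ k⟮x⟯) (t : K ≃ₐ[k] K) (z : K) :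
    t (s₀ z) = s₀ (t z) := by
  have hmap : ∀ t : K ≃ₐ[k] K, k⟮x⟯.map t.toAlgHom = k⟮x⟯ := fun t => by
    have htx : Transcendental k (t x) := fun h => hx ((isAlgebraic_algHom_iff t.toAlgHom t.injective).1 h)
    have h1 : k⟮x⟯.map t.toAlgHom = k⟮t x⟯ := by rw [IntermediateField.adjoin_map, Set.image_singleton]; rfl
    refine h1.trans (adjoin_eq_of_finrank_two hK hg hx htx hd ?_)
    rw [← hd, ← h1]
    exact (Algebra.finrank_eq_of_equiv_equiv (IntermediateField.intermediateFieldMap t k⟮x⟯).toRingEquiv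
      t.toRingEquiv (RingHom.ext fun _ => rfl)).symm
  have hmem : ∀ r ∈ k⟮x⟯, t.symm r ∈ k⟮x⟯ := fun r hr => by
    rw [← hmap t.symm]
    exact ⟨r, hr, rfl⟩
  let u : K →ₐ[k] K := t.toAlgHom.comp (s₀.comp t.symm.toAlgHom)
  have hu : ∀ r ∈ k⟮x⟯, u r = r := fun r hr => by
    show t (s₀ (t.symm r)) = r
    rw [hfix _ (hmem r hr), t.apply_symm_apply]
  obtain ⟨a, ha⟩ := hne
  have hune : ∃ z, u z ≠ z := ⟨t a, fun h => ha (t.injective (by simpa [u] using h))⟩
  have := eq_involution hs₀ hu hune (t z)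
  simpa [u] using this

end FFLemmas

open CategoryTheory AlgebraicGeometry

attribute [local instance] Curv2.stalkAlgebra
attribute [local instance high] FunFld.Place.algRes

variable {k : Type u} [Field k] {X : Scheme.{u}} [X.Over (Spec (CommRingCat.of k))] [IsIntegral X]

/-- A dominant finite endomorphism over the base acts on the function field. -/
theorem exists_algHom_of_endo (σ : X ⟶ X) [IsFinite σ] [Surjective σ]
    (hσ : σ ≫ (X ↘ Spec (CommRingCat.of k)) = X ↘ Spec (CommRingCat.of k)) :
    ∃ s : X.functionField →ₐ[k] X.functionField, X.fromSpecStalk (genericPoint X) ≫ σ =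
      Spec.map (CommRingCat.ofHom s.toRingHom) ≫ X.fromSpecStalk (genericPoint X) := by
  have hff := fromSpecStalk_ffMap σ
  have hcomm : (NormHomLib.ffMap σ).hom.comp (Curv2.stalkMap k X (genericPoint X)) =
      Curv2.stalkMap k X (genericPoint X) := by
    have h1 := fromSpecStalk_over k (X := X) (genericPoint X)
    conv_lhs at h1 => rw [← hσ, ← Category.assoc, hff, Category.assoc, fromSpecStalk_over k, ← Spec.map_comp]
    exact congrArg CommRingCat.Hom.hom (Spec.map_injective h1)
  exact ⟨{ (NormHomLib.ffMap σ).hom with commutes' := fun c => RingHom.congr_fun hcomm c }, hff⟩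

/-- An automorphism over the base acts on the function field. -/
theorem exists_algEquiv_of_iso (τ : X ≅ X) (hτ : τ.hom ≫ (X ↘ Spec (CommRingCat.of k)) = X ↘ Spec (CommRingCat.of k)) :
    ∃ t : X.functionField ≃ₐ[k] X.functionField, X.fromSpecStalk (genericPoint X) ≫ τ.hom =
      Spec.map (CommRingCat.ofHom t.toAlgHom.toRingHom) ≫ X.fromSpecStalk (genericPoint X) := by
  have hτ' : τ.inv ≫ (X ↘ Spec (CommRingCat.of k)) = X ↘ Spec (CommRingCat.of k) := by rw [Iso.inv_comp_eq, hτ]
  obtain ⟨a, ha⟩ := exists_algHom_of_endo τ.hom hτ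
  obtain ⟨b, hb⟩ := exists_algHom_of_endo τ.inv hτ'
  have key : ∀ (f g : X ⟶ X) (a b : X.functionField →ₐ[k] X.functionField), f ≫ g = 𝟙 X →
      X.fromSpecStalk (genericPoint X) ≫ f = Spec.map (CommRingCat.ofHom a.toRingHom) ≫ X.fromSpecStalk (genericPoint X) →
      X.fromSpecStalk (genericPoint X) ≫ g = Spec.map (CommRingCat.ofHom b.toRingHom) ≫ X.fromSpecStalk (genericPoint X) →
      a.comp b = AlgHom.id k _ := by
    intro f g a b hfg hf hg
    refine AlgHom.coe_ringHom_injective ?_
    show a.toRingHom.comp b.toRingHom = RingHom.id _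
    suffices h : CommRingCat.ofHom (a.toRingHom.comp b.toRingHom) = 𝟙 _ from congrArg CommRingCat.Hom.hom h
    refine Spec.map_injective ?_
    rw [← cancel_mono (X.fromSpecStalk (genericPoint X)), CommRingCat.ofHom_comp, Spec.map_comp, Category.assoc, ← hg,
      ← Category.assoc, ← hf, Category.assoc, hfg, Category.comp_id, Spec.map_id]
    exact (Category.id_comp _).symm
  exact ⟨AlgEquiv.ofAlgHom a b (key _ _ a b τ.hom_inv_id ha hb) (key _ _ b a τ.inv_hom_id hb ha), ha⟩

end Groth.Agent.CurveFF
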