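import Groth.Agent.CurveFF.HypEquation

/-!
# The affine chart of a double cover of the line
-/

set_option autoImplicit false
set_option backward.isDefEq.respectTransparency false
set_option maxHeartbeats 1000000
set_option linter.style.haveILetI false

universe u

open CategoryTheory Limits AlgebraicGeometry TopologicalSpace
open scoped WithZero IntermediateField

noncomputable section

namespace Groth.Agent.CurveFF

attribute [local instance] Curv2.stalkAlgebra Curv2.resAlgebra
attribute [local instance high] FunFld.Place.algRes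

/-- A rational function regular at every point of an open comes from a section over it. -/
theorem exists_section_open {X : Scheme.{u}} [IsIntegral X] (U : X.Opens) (hη : genericPoint X ∈ U)
    (f : X.functionField)
    (hf : ∀ x ∈ U, f ∈ Set.range (algebraMap (X.presheaf.stalk x) X.functionField)) :
    ∃ s : Γ(X, U), X.presheaf.germ U (genericPoint X) hη s = f := by
  have h : ∀ x : U, ∃ (V : X.Opens) (_ : x.1 ∈ V) (_ : V ≤ U) (m : Γ(X, V)),
      ∀ hη', X.presheaf.germ V (genericPoint X) hη' m = f := fun x => by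
    obtain ⟨z, hz⟩ := hf x.1 x.2
    obtain ⟨V, hV, m, rfl⟩ := X.presheaf.exists_germ_eq z
    refine ⟨V ⊓ U, ⟨hV, x.2⟩, inf_le_right, X.presheaf.map (homOfLE inf_le_left).op m, fun hη' => ?_⟩
    rw [TopCat.Presheaf.germ_res_apply]
    rw [← hz]
    exact (TopCat.Presheaf.germ_stalkSpecializes_apply X.presheaf hV
      ((genericPoint_spec X).specializes trivial) m).symm
  choose V hV hVU m hm using h
  obtain ⟨s, hs, -⟩ := X.sheaf.existsUnique_gluing' V U (fun x => homOfLE (hVU x))
    (fun x hx => Opens.mem_iSup.2 ⟨⟨x, hx⟩, hV _⟩) m (fun i j => by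
      haveI : Nonempty (V i ⊓ V j : X.Opens) := ⟨⟨genericPoint X,
        generic_mem (hV i), generic_mem (hV j)⟩⟩
      refine X.germToFunctionField_injective (V i ⊓ V j) ?_
      refine (TopCat.Presheaf.germ_res_apply X.presheaf _ _ _ _).trans
        (Eq.trans ?_ (TopCat.Presheaf.germ_res_apply X.presheaf _ _ _ _).symm)
      rw [hm, hm])
  refine ⟨s, ?_⟩
  rw [← hm ⟨genericPoint X, hη⟩ (hV _), ← hs ⟨genericPoint X, hη⟩]
  exact (TopCat.Presheaf.germ_res_apply X.presheaf _ _ _ s).symm

variable {k : Type u} [Field k] {X : Scheme.{u}} [X.Over (Spec (CommRingCat.of k))]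
  [IsProper (X ↘ Spec (CommRingCat.of k))] [IsIntegral X] [Smooth (X ↘ Spec (CommRingCat.of k))]
  (hdim : topologicalKrullDim X = 1) (h0 : Module.finrank k (Coh.HH X (Coh.structureModule X) 0) = 1)
include hdim h0

/-- The coordinate of the line pulls back to a function of degree two, regular exactly on the chart. -/
theorem exists_chart_coord [VBLib.IsRegCurve X] (hg : 1 ≤ Curv2.genus k X) (f : X ⟶ CohB1.ProjSpace 1 k)
    (hf : f ≫ CohB1.ProjSpace.toSpec 1 k = X ↘ Spec (CommRingCat.of k)) [IsFinite f] [Surjective f]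
    (hgen : f (genericPoint X) ∈ LefPen.chart 1 k 0) (hgen1 : f (genericPoint X) ∈ LefPen.chart 1 k 1)
    (hrd : f.residueDegree (genericPoint X) = 2) :
    ∃ t : X.functionField, Transcendental k t ∧ Module.finrank k⟮t⟯ X.functionField = 2 ∧
      ∀ (z : X) (hz : IsClosed ({z} : Set X)), z ∈ f ⁻¹ᵁ LefPen.chart 1 k 0 ↔ (placeOf k hdim z hz).1 t ≤ 1 := by
  classical
  haveI := EulerIneqLib.isNoetherian_proper (X := X) k
  haveI : IsIntegral (CohB1.ProjSpace 1 k) := REqLib.isIntegral_projSpace 1 k
  have hK := isFunctionField k hdim h0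
  set η := genericPoint X
  obtain ⟨hL, hdeg, -⟩ := g12_of_double_cover hdim h0 hg f hf hrd
  set L := (Scheme.Modules.pullback f).obj (Twist.twistProjSpace 1 k 1)
  have hι : ∀ i : ULift.{u} (Fin (1 + 1)), (MvPolynomial.X i.down : MvPolynomial (Fin (1 + 1)) k) ∈
      CohB1.polyGrading 1 k 1 := fun i => MvPolynomial.isHomogeneous_X k i.down
  have hadj : Algebra.adjoin k (Set.range fun i : ULift.{u} (Fin (1 + 1)) =>
      (MvPolynomial.X i.down : MvPolynomial (Fin (1 + 1)) k)) = ⊤ := by
    rw [eq_top_iff, ← MvPolynomial.adjoin_range_X]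
    exact Algebra.adjoin_mono fun _ ⟨i, hi⟩ => ⟨⟨i⟩, hi⟩
  let g : Fin (1 + 1) → CohB1.polyGrading 1 k 1 := fun i => ⟨MvPolynomial.X i, MvPolynomial.isHomogeneous_X k i⟩
  let U : Fin (1 + 1) → X.Opens := fun i => f ⁻¹ᵁ LefPen.chart 1 k i
  have hηU : ∀ i, η ∈ U i := fun i => by
    fin_cases i
    · exact hgen
    · exact hgen1
  let σ := fun i => ProjUPLib.pForm f (g i)
  let s := fun i => L.presheaf.germ ⊤ η trivial (σ i)
  let r := fun i j => f.app (LefPen.chart 1 k i) (ProjCoh.ratioSec (CohB1.polyGrading 1 k) (g i) (g j))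
  let c := fun i j => X.presheaf.germ (U i) η (hηU i) (r i j)
  have hmul : ∀ i j, (c i j : X.presheaf.stalk η) • s i = s j := by
    intro i j
    have hb := ProjUPLib.appLE_ratio_smul f (g i) (g j) (U := U i) le_rfl
    rw [Scheme.Hom.appLE_eq_app] at hb
    have h := congrArg (L.presheaf.germ (U i) η (hηU i)) hb
    rw [ParaFLib.germ_smul', AmpleLib.resT, AmpleLib.resT] at h
    erw [TopCat.Presheaf.germ_res_apply, TopCat.Presheaf.germ_res_apply] at h
    exact h
  have hbase : ∀ i, IsBase L (s i) := by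
    intro i
    have h := (ProjUPLib.gen_pForm hι f hadj (g i) (U := U i) le_rfl).bijective_germ η (hηU i)
    rwa [AmpleLib.resT, TopCat.Presheaf.germ_res_apply] at h
  set t : X.functionField := c 0 1 with ht
  have hinv : t * c 1 0 = 1 := (hbase 1).1 (by
    show ((t : X.presheaf.stalk η) * c 1 0) • s 1 = (1 : X.presheaf.stalk η) • s 1
    rw [mul_smul, hmul, ht, hmul, one_smul])
  have hreg : ∀ (i j : Fin (1 + 1)) (z : X) (hz : IsClosed ({z} : Set X)), z ∈ U i →
      (placeOf k hdim z hz).1 (c i j) ≤ 1 := fun i j z hz hzU =>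
    (placeOf_le_one_iff hdim hz _).2 ⟨X.presheaf.germ (U i) z hzU (r i j),
      TopCat.Presheaf.germ_stalkSpecializes_apply X.presheaf hzU ((genericPoint_spec X).specializes trivial) _⟩
  have hout : ∀ (z : X) (hz : IsClosed ({z} : Set X)), z ∉ U 0 → 1 < (placeOf k hdim z hz).1 t := by
    intro z hz hz0
    have hz1 : z ∈ U 1 := by
      obtain ⟨⟨i⟩, hi⟩ := Opens.mem_iSup.1 ((ProjUPLib.iSup_basicOpen_ι hι hadj).ge (Opens.mem_top (f z)))
      rcases (by decide : ∀ i : Fin (1 + 1), i = 0 ∨ i = 1) i with rfl | rfl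
      · exact absurd hi hz0
      · exact hi
    have hnu : ¬ IsUnit (X.presheaf.germ (U 1) z hz1 (r 1 0)) := by
      rw [← Scheme.mem_basicOpen X (r 1 0) z hz1,
        ← Scheme.preimage_basicOpen]
      erw [ProjCoh.basicOpen_ratioSec]
      exact fun h => hz0 h.2
    have hlt : (placeOf k hdim z hz).1 (c 1 0) < 1 := by
      refine lt_of_le_of_ne (hreg 1 0 z hz hz1) fun h => hnu ?_
      have hc : c 1 0 = algebraMap (X.presheaf.stalk z) X.functionField (X.presheaf.germ (U 1) z hz1 (r 1 0)) :=
        (TopCat.Presheaf.germ_stalkSpecializes_apply X.presheaf hz1 ((genericPoint_spec X).specializes trivial) _).symm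
      obtain ⟨a, ha⟩ := (placeOf_le_one_iff hdim hz t).1 (by
        have h1 := congrArg (placeOf k hdim z hz).1 hinv
        rw [map_mul, h, mul_one, map_one] at h1
        exact h1.le)
      refine IsUnit.of_mul_eq_one a (IsFractionRing.injective (X.presheaf.stalk z) X.functionField ?_)
      rw [map_mul, ← hc, ha, map_one, mul_comm, hinv]
    have h1 := congrArg (placeOf k hdim z hz).1 hinv
    rw [map_mul, map_one] at h1
    by_contra hle
    exact (mul_lt_one_of_nonneg_of_lt_one_right (not_lt.1 hle) zero_le hlt).ne h1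
  have hiff : ∀ (z : X) (hz : IsClosed ({z} : Set X)), z ∈ U 0 ↔ (placeOf k hdim z hz).1 t ≤ 1 :=
    fun z hz => ⟨hreg 0 1 z hz, fun h => not_not.1 fun hz0 => not_le.2 (hout z hz hz0) h⟩
  -- the function is not constant
  have hdP : topologicalKrullDim (CohB1.ProjSpace 1 k) = 1 := by exact_mod_cast S10829.result k 1
  obtain ⟨y, hy⟩ : ∃ y : CohB1.ProjSpace 1 k, y ∉ LefPen.chart 1 k 0 := by
    by_contra hall
    push Not at hall
    have htop : Proj.basicOpen (CohB1.polyGrading 1 k) (MvPolynomial.X 0) = ⊤ := eq_top_iff.2 fun y _ => hall y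
    haveI : IsAffine (CohB1.ProjSpace 1 k) := by
      have h := Proj.isAffineOpen_basicOpen (CohB1.polyGrading 1 k) (MvPolynomial.X 0) (g 0).2 one_pos
      rw [htop] at h
      haveI : IsAffine ((⊤ : (CohB1.ProjSpace 1 k).Opens) : Scheme.{u}) := h
      exact IsAffine.of_isIso (CohB1.ProjSpace 1 k).topIso.inv
    haveI : IsFinite (CohB1.ProjSpace.toSpec 1 k) :=
      IsFinite.iff_isProper_and_isAffineHom.2 ⟨inferInstance, inferInstance⟩
    have hfin : (Set.univ : Set (CohB1.ProjSpace 1 k)).Finite := by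
      have h := IsFinite.finite_preimage_singleton (CohB1.ProjSpace.toSpec 1 k) (IsLocalRing.closedPoint k)
      rwa [show (CohB1.ProjSpace.toSpec 1 k) ⁻¹' {IsLocalRing.closedPoint k} = Set.univ from
        Set.eq_univ_of_forall fun _ => @Subsingleton.elim _ (inferInstanceAs (Subsingleton (PrimeSpectrum k))) _ _] at h
    haveI : Finite X := Set.finite_univ_iff.1 <| (hfin.preimage' fun b _ => IsFinite.finite_preimage_singleton f b).subset
      fun x _ => Set.mem_preimage.2 (Set.mem_univ (f x))
    haveI := infinite_places hK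
    haveI : Finite (FunFld.Place k X.functionField) := by
      refine Finite.of_surjective (fun z : {z : X // IsClosed ({z} : Set X)} => placeOf k hdim z.1 z.2) fun P => ?_
      obtain ⟨z, hz, rfl⟩ := placeOf_surjective hdim P
      exact ⟨⟨z, hz⟩, rfl⟩
    exact not_finite (FunFld.Place k X.functionField)
  obtain ⟨z, rfl⟩ := f.surjective y
  have hz : IsClosed ({z} : Set X) := by
    by_contra hnc
    exact hy (eq_generic_of_not_closed k hdim hnc ▸ hgen)
  have htr : Transcendental k t := FF.transcendental_of_not_mem hK fun ⟨a, ha⟩ => by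
    have h := hout z hz hy
    rw [← ha] at h
    exact not_lt.2 ((placeOf k hdim z hz).2.1 a) h
  refine ⟨t, htr, ?_, hiff⟩
  obtain ⟨D, hD⟩ := exists_isDiv hdim h0 hL (hbase 0)
  have hdD : D.deg = 2 := by rw [← (genus_and_deg hdim h0 hL (hbase 0) hD).2, hdeg]
  have hmem : ∀ (j : Fin (1 + 1)) (a : X.functionField), (a : X.presheaf.stalk η) • s 0 = s j → a ∈ FunFld.L D := by
    intro j a ha P
    obtain ⟨z, hz, rfl⟩ := placeOf_surjective hdim P
    exact (hD z hz a).1 ⟨L.presheaf.germ ⊤ z trivial (σ j), (spec_germ L (U := ⊤) trivial trivial _).trans ha.symm⟩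
  refine finrank_eq_two_of_mem_L hK (by rw [← genus_eq hdim h0]; exact hg) (D := D) (fun P => ?_) hdD
    (hmem 1 t (hmul 0 1)) htr
  have h := hmem 0 1 (one_smul _ _) P
  rwa [map_one, ← WithZero.exp_zero, WithZero.exp_le_exp] at h

end Groth.Agent.CurveFF
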