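import Groth.Agent.CurveFF.G12Powers

/-!
# The equation of a double cover of the line
-/

set_option autoImplicit false
set_option backward.isDefEq.respectTransparency false
set_option maxHeartbeats 800000
set_option linter.style.haveILetI false

universe u

open scoped WithZero IntermediateField

noncomputable section

namespace Groth.Agent.CurveFF

open FunFld Polynomial

variable {k K : Type u} [Field k] [Field K] [Algebra k K] (hK : IsFunctionField k K) {x : K} (hx : Transcendental k x)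
include hK hx

/-- Polynomials in `x` of degree at most `n` lie in `L(n · (x)_∞)`. -/
theorem aeval_mem_L {p : k[X]} {n : ℕ} (hp : p.natDegree ≤ n) :
    aeval x p ∈ L ((n : ℤ) • FF.zeros (k := k) x⁻¹) := by
  have hx0 : x ≠ 0 := fun h => hx (h ▸ isAlgebraic_zero)
  rw [aeval_eq_sum_range' (n := n + 1) (by omega)]
  refine sum_mem fun i hi => Submodule.smul_mem _ _ (FF.L_mono (fun Q => ?_) (FF.mem_L_zeros_inv hK hx0 i))
  simp only [Finsupp.smul_apply, smul_eq_mul]
  exact mul_le_mul_of_nonneg_right (by have := Finset.mem_range.1 hi; omega) (FF.zeros_nonneg x⁻¹ Q)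

theorem v_le_pow_of_mem_L {z : K} {n : ℕ} (hz : z ∈ L ((n : ℤ) • FF.zeros (k := k) x⁻¹)) (Q : Place k K) :
    (Q.1 x ≤ 1 → Q.1 z ≤ 1) ∧ (1 < Q.1 x → Q.1 z ≤ Q.1 x ^ n) := by
  have hx0 : x ≠ 0 := fun h => hx (h ▸ isAlgebraic_zero)
  have h := hz Q
  rw [Finsupp.smul_apply, FF.zeros_apply hK, FF.ord_inv] at h
  refine ⟨fun hQ => ?_, fun hQ => ?_⟩
  · rwa [max_eq_right (by have := (FF.v_le_one_iff Q hx0).1 hQ; omega), smul_zero, WithZero.exp_zero] at h
  · rwa [max_eq_left (by have := mt (FF.v_le_one_iff Q hx0).2 (not_le.2 hQ); omega), smul_eq_mul,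
      show (n : ℤ) * -Q.ord x = -(Q.ord (x ^ n)) by rw [FF.ord_pow]; ring,
      ← FF.v_eq_exp Q (pow_ne_zero n hx0), map_pow] at h

theorem exists_aeval_of_mem_L {z : K} {n : ℕ} (hzF : z ∈ k⟮x⟯)
    (hz : z ∈ L ((n : ℤ) • FF.zeros (k := k) x⁻¹)) : ∃ p : k[X], p.natDegree ≤ n ∧ z = aeval x p := by
  obtain ⟨p, rfl⟩ := exists_aeval_of_regular hK hx hzF fun Q => (v_le_pow_of_mem_L hK hx hz Q).1
  refine ⟨p, ?_, rfl⟩
  rcases eq_or_ne p 0 with rfl | hp
  · simp
  have hx0 : x ≠ 0 := fun h => hx (h ▸ isAlgebraic_zero)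
  obtain ⟨Q, hQ⟩ := FF.exists_zero hK (x := x⁻¹) (fun h => hx (by simpa using h.inv))
  have hQx : 1 < Q.1 x := by
    rwa [map_inv₀, inv_lt_one₀ (zero_lt_iff.2 (Q.1.ne_zero_iff.2 hx0))] at hQ
  have h := (v_le_pow_of_mem_L hK hx hz Q).2 hQx
  rw [DStruct.v_aeval_eq hQx hp] at h
  exact (pow_le_pow_iff_right₀ hQx).1 h

variable (hdeg : Module.finrank k⟮x⟯ K = 2)
include hdeg

theorem deg_polar : (FF.zeros (k := k) x⁻¹).deg = 2 := by
  rw [FF.deg_zeros hK (fun h => hx (by simpa using h.inv)), FF.adjoin_inv, hdeg]; rfl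

/-- The coefficients of an equation of a double cover have degree at least `2g + 1`. -/
theorem le_max_of_equation (hg : 1 ≤ genus k K) {y : K} (hy : y ∉ k⟮x⟯)
    (hyL : y ∈ L (((genus k K + 1 : ℕ) : ℤ) • FF.zeros (k := k) x⁻¹)) {P Q : k[X]}
    (he : y ^ 2 + aeval x Q * y = aeval x P) :
    2 * genus k K + 1 ≤ max (2 * Q.natDegree) P.natDegree := by
  classical
  by_contra hlt
  rw [not_le, max_lt_iff] at hlt
  set g := genus k K with hgdef
  have hx0 : x ≠ 0 := fun h => hx (h ▸ isAlgebraic_zero)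
  have hy0 : y ≠ 0 := fun h => hy (h ▸ zero_mem _)
  have hymem : y ∈ L ((g : ℤ) • FF.zeros (k := k) x⁻¹) := fun R => by
    rw [Finsupp.smul_apply, FF.zeros_apply hK, FF.ord_inv]
    rcases le_or_gt (R.1 x) 1 with hR | hR
    · rw [max_eq_right (by have := (FF.v_le_one_iff R hx0).1 hR; omega), smul_zero, WithZero.exp_zero]
      exact (v_le_pow_of_mem_L hK hx hyL R).1 hR
    · rw [max_eq_left (by have := mt (FF.v_le_one_iff R hx0).2 (not_le.2 hR); omega), smul_eq_mul,
        show (g : ℤ) * -R.ord x = -(R.ord (x ^ g)) by rw [FF.ord_pow]; ring,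
        ← FF.v_eq_exp R (pow_ne_zero g hx0), map_pow]
      by_contra hYX
      push Not at hYX
      have hX : 0 < R.1 x ^ g := pow_pos (zero_lt_one.trans hR) g
      have h1 : R.1 (aeval x P - aeval x Q * y) < R.1 y ^ 2 := by
        refine (R.1.map_sub _ _).trans_lt (max_lt ?_ ?_)
        · refine (DStruct.v_aeval_le_pow hR.le (show P.natDegree ≤ 2 * g by omega)).trans_lt ?_
          rw [mul_comm, pow_mul, sq, sq]
          exact mul_lt_mul_of_nonneg hYX hYX hX.le hX.le
        · rw [map_mul, sq]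
          refine mul_lt_mul_of_pos_right ?_ (zero_lt_iff.2 (R.1.ne_zero_iff.2 hy0))
          exact (DStruct.v_aeval_le_pow hR.le (show Q.natDegree ≤ g by omega)).trans_lt hYX
      rw [← map_pow, eq_sub_of_add_eq he] at h1
      exact lt_irrefl _ h1
  -- `L(gD)` consists of polynomials
  have hF : L ((g : ℤ) • FF.zeros (k := k) x⁻¹) = (degreeLT k (g + 1)).map (aeval x).toLinearMap := by
    haveI := FF.finite_L hK ((g : ℤ) • FF.zeros (k := k) x⁻¹)
    refine (Submodule.eq_of_le_of_finrank_le ?_ ?_).symm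
    · rintro _ ⟨p, hp, rfl⟩
      refine aeval_mem_L hK hx ?_
      rcases eq_or_ne p 0 with rfl | hp0
      · simp
      · exact Nat.lt_succ_iff.1 ((natDegree_lt_iff_degree_lt hp0).2 (mem_degreeLT.1 hp))
    · haveI := LinearEquiv.finiteDimensional (degreeLTEquiv k (g + 1)).symm
      rw [← (Submodule.equivMapOfInjective (aeval x).toLinearMap (transcendental_iff_injective.1 hx)
        (degreeLT k (g + 1))).finrank_eq, (degreeLTEquiv k (g + 1)).finrank_eq, Module.finrank_fin_fun]
      refine le_of_eq (ell_smul_of_deg_two hK hg (deg_polar hK hx hdeg) ?_ le_rfl)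
      -- two independent functions
      haveI := FF.finite_L hK (FF.zeros (k := k) x⁻¹)
      have hmem : ∀ i : Fin 2, ![(1 : K), x] i ∈ L (FF.zeros (k := k) x⁻¹) := by
        intro i; fin_cases i
        · exact FF.one_mem_L (FF.zeros_nonneg _)
        · simpa using FF.mem_L_zeros_inv hK hx0 1
      have hli : LinearIndependent k ![(1 : K), x] := by
        rw [LinearIndependent.pair_iff' one_ne_zero]
        exact fun c hc => hx (hc ▸ by rw [← Algebra.algebraMap_eq_smul_one]; exact isAlgebraic_algebraMap c)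
      simpa [ell] using (LinearIndependent.of_comp (L (FF.zeros (k := k) x⁻¹)).subtype
        (v := fun i => (⟨_, hmem i⟩ : L (FF.zeros (k := k) x⁻¹))) hli).fintype_card_le_finrank
  rw [hF] at hymem
  obtain ⟨p, -, hp⟩ := hymem
  exact hy (hp ▸ DStruct.aeval_mem p)

/-- Every double cover of the line has an equation `y² + Q y = P` with the standard degree bounds. -/
theorem exists_equation (hg : 1 ≤ genus k K) :
    ∃ (y : K) (P Q : k[X]), y ∉ k⟮x⟯ ∧ y ∈ L (((genus k K + 1 : ℕ) : ℤ) • FF.zeros (k := k) x⁻¹) ∧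
      y ^ 2 + aeval x Q * y = aeval x P ∧ Q.natDegree ≤ genus k K + 1 ∧ P.natDegree ≤ 2 * genus k K + 2 := by
  classical
  set g := genus k K with hgdef
  set D := FF.zeros (k := k) x⁻¹ with hD
  have hd := deg_polar hK hx hdeg
  have hdim : ∀ n : ℕ, g + 1 ≤ n → ell ((n : ℤ) • D) + g = 2 * n + 1 := by
    intro n hn
    have h := FF.ell_of_deg_large hK (D := (n : ℤ) • D) (by rw [FF.deg_smul, hd]; omega)
    rw [FF.deg_smul, hd] at h
    omega
  obtain ⟨y, hyL, hy⟩ : ∃ y ∈ L (((g + 1 : ℕ) : ℤ) • D), y ∉ k⟮x⟯ := by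
    by_contra h
    push Not at h
    haveI := LinearEquiv.finiteDimensional (degreeLTEquiv k (g + 2)).symm
    have hle : L (((g + 1 : ℕ) : ℤ) • D) ≤ (degreeLT k (g + 2)).map (aeval x).toLinearMap := fun z hz => by
      obtain ⟨p, hp, rfl⟩ := exists_aeval_of_mem_L hK hx (h z hz) hz
      refine ⟨p, ?_, rfl⟩
      rw [SetLike.mem_coe, mem_degreeLT]
      exact (degree_le_natDegree).trans_lt (by exact_mod_cast Nat.lt_succ_of_le hp)
    have h1 := Submodule.finrank_mono hle
    rw [← (Submodule.equivMapOfInjective (aeval x).toLinearMap (transcendental_iff_injective.1 hx)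
        (degreeLT k (g + 2))).finrank_eq, (degreeLTEquiv k (g + 2)).finrank_eq, Module.finrank_fin_fun] at h1
    have h2 := hdim (g + 1) le_rfl
    simp only [ell] at h2
    omega
  -- `L((2g+2)D)` is spanned by polynomials and polynomial multiples of `y`
  let φ : (degreeLT k (2 * g + 3) × degreeLT k (g + 2)) →ₗ[k] K :=
    ((aeval x).toLinearMap.comp (degreeLT k (2 * g + 3)).subtype).coprod
      ((LinearMap.mulRight k y).comp ((aeval x).toLinearMap.comp (degreeLT k (g + 2)).subtype))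
  have hφi : Function.Injective φ := by
    rw [← LinearMap.ker_eq_bot, LinearMap.ker_eq_bot']
    rintro ⟨⟨p, hp⟩, ⟨q, hq⟩⟩ h
    change aeval x p + aeval x q * y = 0 at h
    rcases eq_or_ne q 0 with rfl | hq0
    · have hp0 : p = 0 := transcendental_iff_injective.1 hx (by simpa using h)
      subst hp0
      rfl
    · refine absurd ?_ hy
      have : y = -aeval x p / aeval x q := by
        rw [eq_div_iff (DStruct.aeval_ne_zero hx hq0)]; linear_combination h
      rw [this]
      exact div_mem (neg_mem (DStruct.aeval_mem p)) (DStruct.aeval_mem q)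
  have hbound : ∀ {p : k[X]} {n : ℕ}, p ∈ degreeLT k (n + 1) → p.natDegree ≤ n := fun {p n} hp => by
    rcases eq_or_ne p 0 with rfl | hp0
    · simp
    · exact Nat.lt_succ_iff.1 ((natDegree_lt_iff_degree_lt hp0).2 (mem_degreeLT.1 hp))
  have hrange : LinearMap.range φ ≤ L (((2 * g + 2 : ℕ) : ℤ) • D) := by
    rintro _ ⟨⟨⟨p, hp⟩, ⟨q, hq⟩⟩, rfl⟩
    refine add_mem (aeval_mem_L hK hx (hbound hp)) ?_
    have h := FF.mul_mem_L (aeval_mem_L hK hx (hbound hq)) hyL
    rwa [← hD, ← add_smul, show ((g + 1 : ℕ) : ℤ) + ((g + 1 : ℕ) : ℤ) = ((2 * g + 2 : ℕ) : ℤ) by omega] at h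
  haveI := FF.finite_L hK (((2 * g + 2 : ℕ) : ℤ) • D)
  haveI := LinearEquiv.finiteDimensional (degreeLTEquiv k (2 * g + 3)).symm
  haveI := LinearEquiv.finiteDimensional (degreeLTEquiv k (g + 2)).symm
  have heq : LinearMap.range φ = L (((2 * g + 2 : ℕ) : ℤ) • D) := by
    refine Submodule.eq_of_le_of_finrank_le hrange ?_
    rw [LinearMap.finrank_range_of_inj hφi, Module.finrank_prod, (degreeLTEquiv k (2 * g + 3)).finrank_eq,
      (degreeLTEquiv k (g + 2)).finrank_eq, Module.finrank_fin_fun, Module.finrank_fin_fun]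
    have := hdim (2 * g + 2) (by omega)
    simp only [ell] at this
    omega
  have hy2 : y ^ 2 ∈ LinearMap.range φ := by
    rw [heq, sq]
    have h := FF.mul_mem_L hyL hyL
    rwa [← add_smul, show ((g + 1 : ℕ) : ℤ) + ((g + 1 : ℕ) : ℤ) = ((2 * g + 2 : ℕ) : ℤ) by omega] at h
  obtain ⟨⟨⟨A, hA⟩, ⟨B, hB⟩⟩, hAB⟩ := hy2
  change aeval x A + aeval x B * y = y ^ 2 at hAB
  refine ⟨y, A, -B, hy, hyL, ?_, ?_, hbound hA⟩
  · rw [map_neg]; linear_combination -hAB
  · rw [natDegree_neg]; exact hbound hB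

/-- The functions regular away from infinity are `k[x] ⊕ k[x] y`. -/
theorem exists_repr_of_regular (hg : 1 ≤ genus k K) {y : K} (hy : y ∉ k⟮x⟯)
    (hyL : y ∈ L (((genus k K + 1 : ℕ) : ℤ) • FF.zeros (k := k) x⁻¹)) {z : K}
    (hz : ∀ R : Place k K, R.1 x ≤ 1 → R.1 z ≤ 1) :
    ∃ p q : k[X], z = aeval x p + aeval x q * y := by
  classical
  rcases eq_or_ne z 0 with rfl | hz0
  · exact ⟨0, 0, by simp⟩
  set g := genus k K with hgdef
  set D := FF.zeros (k := k) x⁻¹ with hD
  have hx0 : x ≠ 0 := fun h => hx (h ▸ isAlgebraic_zero)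
  set E := FF.zeros (k := k) z⁻¹ with hE
  set n : ℕ := E.deg.toNat + g + 1 with hn
  have hzL : z ∈ L ((n : ℤ) • D) := by
    refine (FF.mem_L_iff_ord hz0).2 fun R => ?_
    rw [Finsupp.smul_apply, smul_eq_mul, hD, FF.zeros_apply hK, FF.ord_inv]
    rcases le_or_gt (R.1 x) 1 with hR | hR
    · have := (FF.v_le_one_iff R hz0).1 (hz R hR)
      positivity
    · have h1 : 1 ≤ max (-R.ord x) 0 := by
        have := mt (FF.v_le_one_iff R hx0).2 (not_le.2 hR); omega
      have h2 : E R ≤ E.deg := by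
        have h := FF.deg_mono (D := Finsupp.single R (E R)) (E := E) fun S => by
          rcases eq_or_ne S R with rfl | hS
          · rw [Finsupp.single_eq_same]
          · rw [Finsupp.single_eq_of_ne hS]; exact FF.zeros_nonneg _ S
        rw [FF.deg_single] at h
        have hdR : (1 : ℤ) ≤ R.deg := by exact_mod_cast FF.deg_pos hK R
        have h0 : 0 ≤ E R := FF.zeros_nonneg _ R
        nlinarith
      rw [hE, FF.zeros_apply hK, FF.ord_inv, ← hE] at h2
      have h3 : (n : ℤ) * 1 ≤ n * max (-R.ord x) 0 := mul_le_mul_of_nonneg_left h1 (by omega)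
      omega
  let φ : (degreeLT k (n + 1) × degreeLT k (n - g)) →ₗ[k] K :=
    ((aeval x).toLinearMap.comp (degreeLT k (n + 1)).subtype).coprod
      ((LinearMap.mulRight k y).comp ((aeval x).toLinearMap.comp (degreeLT k (n - g)).subtype))
  have hφi : Function.Injective φ := by
    rw [← LinearMap.ker_eq_bot, LinearMap.ker_eq_bot']
    rintro ⟨⟨p, hp⟩, ⟨q, hq⟩⟩ h
    change aeval x p + aeval x q * y = 0 at h
    rcases eq_or_ne q 0 with rfl | hq0
    · have hp0 : p = 0 := transcendental_iff_injective.1 hx (by simpa using h)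
      subst hp0
      rfl
    · refine absurd ?_ hy
      have : y = -aeval x p / aeval x q := by
        rw [eq_div_iff (DStruct.aeval_ne_zero hx hq0)]; linear_combination h
      rw [this]
      exact div_mem (neg_mem (DStruct.aeval_mem p)) (DStruct.aeval_mem q)
  have hbound : ∀ {p : k[X]} {m : ℕ}, p ∈ degreeLT k (m + 1) → p.natDegree ≤ m := fun {p m} hp => by
    rcases eq_or_ne p 0 with rfl | hp0
    · simp
    · exact Nat.lt_succ_iff.1 ((natDegree_lt_iff_degree_lt hp0).2 (mem_degreeLT.1 hp))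
  have hrange : LinearMap.range φ ≤ L ((n : ℤ) • D) := by
    rintro _ ⟨⟨⟨p, hp⟩, ⟨q, hq⟩⟩, rfl⟩
    refine add_mem (aeval_mem_L hK hx (hbound hp)) ?_
    have h := FF.mul_mem_L (aeval_mem_L hK hx
      (hbound (show q ∈ degreeLT k (n - (g + 1) + 1) by rwa [show n - (g + 1) + 1 = n - g by omega]))) hyL
    rwa [← hD, ← add_smul, show ((n - (g + 1) : ℕ) : ℤ) + ((g + 1 : ℕ) : ℤ) = (n : ℤ) by omega] at h
  haveI := FF.finite_L hK ((n : ℤ) • D)
  haveI := LinearEquiv.finiteDimensional (degreeLTEquiv k (n + 1)).symm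
  haveI := LinearEquiv.finiteDimensional (degreeLTEquiv k (n - g)).symm
  have heq : LinearMap.range φ = L ((n : ℤ) • D) := by
    refine Submodule.eq_of_le_of_finrank_le hrange ?_
    rw [LinearMap.finrank_range_of_inj hφi, Module.finrank_prod, (degreeLTEquiv k (n + 1)).finrank_eq,
      (degreeLTEquiv k (n - g)).finrank_eq, Module.finrank_fin_fun, Module.finrank_fin_fun]
    have h := FF.ell_of_deg_large hK (D := (n : ℤ) • D) (by rw [FF.deg_smul, deg_polar hK hx hdeg]; omega)
    rw [FF.deg_smul, deg_polar hK hx hdeg] at h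
    simp only [ell] at h
    omega
  rw [← heq] at hzL
  obtain ⟨⟨⟨p, hp⟩, ⟨q, hq⟩⟩, hpq⟩ := hzL
  exact ⟨p, q, hpq.symm⟩

end Groth.Agent.CurveFF
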