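import Groth.Agent.CurveFF.GenusOneCover
import Groth.Agent.FF.QuadFixed
import Groth.Agent.FF.RH

/-!
# Involutions of curves and their fixed points
-/

set_option autoImplicit false
set_option backward.isDefEq.respectTransparency false
set_option maxHeartbeats 800000
set_option linter.style.haveILetI false

universe u

open scoped WithZero IntermediateField

noncomputable section

namespace Groth.Agent.CurveFF

section FFLemmas

open FunFld

variable {k K : Type u} [Field k] [Field K] [Algebra k K]

/-- The field of invariants of an automorphism. -/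
def fixedFieldOf (s : K ≃ₐ[k] K) : IntermediateField k K where
  carrier := {z | s z = z}
  mul_mem' {a b} ha hb := by rw [Set.mem_setOf_eq] at *; rw [map_mul, ha, hb]
  add_mem' {a b} ha hb := by rw [Set.mem_setOf_eq] at *; rw [map_add, ha, hb]
  algebraMap_mem' c := s.commutes c
  inv_mem' a ha := by rw [Set.mem_setOf_eq] at *; rw [map_inv₀, ha]

theorem mem_fixedFieldOf {s : K ≃ₐ[k] K} {z : K} : z ∈ fixedFieldOf s ↔ s z = z := Iff.rfl

/-- An involution over its fixed field. -/
def overField (s : K ≃ₐ[k] K) (F : IntermediateField k K) (h : ∀ z ∈ F, s z = z) : K ≃ₐ[F] K :=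
  { s.toRingEquiv with commutes' := fun r => h r.1 r.2 }

theorem overField_apply (s : K ≃ₐ[k] K) (F : IntermediateField k K) (h : ∀ z ∈ F, s z = z) (z : K) :
    overField s F h z = s z := rfl

theorem galPlace_overField (s : K ≃ₐ[k] K) (F : IntermediateField k K) (h : ∀ z ∈ F, s z = z) (Q : Place k K) :
    FF.galPlace (overField s F h) Q = mapPlace s Q := Subtype.ext (Valuation.ext fun _ => rfl)

theorem exists_anti (s : K ≃ₐ[k] K) (hss : ∀ z, s (s z) = z) (hne : ∃ z, s z ≠ z) :
    ∃ y : K, y ≠ 0 ∧ s y = -y := by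
  obtain ⟨z, hz⟩ := hne
  exact ⟨z - s z, fun h => hz (sub_eq_zero.1 h).symm, by rw [map_sub, hss]; ring⟩

theorem finrank_fixedFieldOf (h2 : (2 : k) ≠ 0) (s : K ≃ₐ[k] K) (hss : ∀ z, s (s z) = z) (hne : ∃ z, s z ≠ z) :
    Module.finrank (fixedFieldOf s) K = 2 := by
  obtain ⟨y, hy0, hsy⟩ := exists_anti s hss hne
  have h2K : (2 : K) ≠ 0 := by rw [← map_ofNat (algebraMap k K) 2]; exact (_root_.map_ne_zero _).2 h2
  have hyF : y ∉ Set.range (algebraMap (fixedFieldOf s) K) := by
    rintro ⟨b, hb⟩
    have h : s y = y := hb ▸ b.2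
    rw [hsy] at h
    exact hy0 ((mul_eq_zero.1 (show (2 : K) * y = 0 by linear_combination -h)).resolve_left h2K)
  have hli : LinearIndependent (fixedFieldOf s) ![(1 : K), y] := by
    rw [LinearIndependent.pair_iff]
    intro a b h
    rw [Algebra.smul_def, Algebra.smul_def, mul_one] at h
    exact FF.Quad.repr_zero hyF h
  have hspan : ⊤ ≤ Submodule.span (fixedFieldOf s) (Set.range ![(1 : K), y]) := fun z _ => by
    rw [Matrix.range_cons_cons_empty]
    refine Submodule.mem_span_pair.2 ⟨⟨(z + s z) / 2, ?_⟩, ⟨(z - s z) / (2 * y), ?_⟩, ?_⟩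
    · rw [mem_fixedFieldOf, map_div₀, map_add, hss, map_ofNat, add_comm]
    · rw [mem_fixedFieldOf, map_div₀, map_sub, hss, map_mul, map_ofNat, hsy]
      field_simp
      ring
    · show (z + s z) / 2 * 1 + (z - s z) / (2 * y) * y = z
      field_simp
      ring
  rw [Module.finrank_eq_card_basis (Module.Basis.mk hli hspan), Fintype.card_fin]

/-- The genus of the quotient by an involution, in terms of the fixed places. -/
theorem two_genus_eq_of_involution [IsAlgClosed k] (hK : IsFunctionField k K) (h2 : (2 : k) ≠ 0) (s : K ≃ₐ[k] K)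
    (hss : ∀ z, s (s z) = z) (hne : ∃ z, s z ≠ z) (F : IntermediateField k K) (hF : ∀ z ∈ F, s z = z)
    (hdeg : Module.finrank F K = 2) :
    IsFunctionField k F ∧
      2 * (genus k K : ℤ) = 4 * (genus k F : ℤ) - 2 + Nat.card {Q : Place k K // mapPlace s Q = Q} := by
  haveI : FiniteDimensional F K := Module.finite_of_finrank_eq_succ hdeg
  have hFF := FF.isFunctionField_intermediate hK F
  refine ⟨hFF, ?_⟩
  obtain ⟨y, hy0, hsy⟩ := exists_anti s hss hne
  have hle : F ≤ fixedFieldOf s := hF
  have hF2 := finrank_fixedFieldOf h2 s hss hne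
  have hFeq : F = fixedFieldOf s := by
    haveI : FiniteDimensional (fixedFieldOf s) K := Module.finite_of_finrank_eq_succ hF2
    exact IntermediateField.eq_of_le_of_finrank_eq' hle (hdeg.trans hF2.symm)
  have hyy : y ^ 2 ∈ F := by rw [hFeq, mem_fixedFieldOf, map_pow, hsy, neg_sq]
  rw [FF.Quad.two_genus_eq hFF hK hdeg h2 (overField s F hF) hy0 hsy (c := ⟨y ^ 2, hyy⟩) rfl,
    ← FF.Quad.card_fixed hFF hdeg h2 (overField s F hF) hy0 hsy (c := ⟨y ^ 2, hyy⟩) rfl,
    Nat.card_congr (Equiv.subtypeEquivRight fun Q => by rw [galPlace_overField])]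

theorem genus_adjoin (hK : IsFunctionField k K) {x : K} (hx : Transcendental k x) : genus k k⟮x⟯ = 0 := by
  haveI := FF.finiteDimensional_adjoin hK hx
  have hKF := FF.isFunctionField_intermediate hK k⟮x⟯
  let x' : k⟮x⟯ := ⟨x, IntermediateField.mem_adjoin_simple_self k x⟩
  have hx' : Transcendental k x' := fun h => hx (h.algebraMap (A := K))
  refine FF.genus_eq_zero_of_finrank_one hKF hx' (IntermediateField.finrank_eq_one_iff_eq_top.2 ?_)
  refine IntermediateField.map_injective k⟮x⟯.val ?_
  rw [IntermediateField.adjoin_map, Set.image_singleton, ← AlgHom.fieldRange_eq_map, IntermediateField.fieldRange_val]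
  rfl

end FFLemmas

open CategoryTheory AlgebraicGeometry

attribute [local instance] Curv2.stalkAlgebra Curv2.resAlgebra
attribute [local instance high] FunFld.Place.algRes

variable {k : Type u} [Field k] {X : Scheme.{u}} [X.Over (Spec (CommRingCat.of k))]
  [IsProper (X ↘ Spec (CommRingCat.of k))] [IsIntegral X] [VBLib.IsRegCurve X] (hdim : topologicalKrullDim X = 1)
include hdim

omit [IsProper (X ↘ Spec (CommRingCat.of k))] [VBLib.IsRegCurve X] hdim in
/-- An involution acts on the function field. -/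
theorem exists_algEquiv_of_hom (σ : X ⟶ X) (hσ : σ ≫ (X ↘ Spec (CommRingCat.of k)) = X ↘ Spec (CommRingCat.of k))
    (hσσ : σ ≫ σ = 𝟙 X) :
    ∃ s : X.functionField ≃ₐ[k] X.functionField, (∀ z, s (s z) = z) ∧
      X.fromSpecStalk (genericPoint X) ≫ σ =
        Spec.map (CommRingCat.ofHom s.toAlgHom.toRingHom) ≫ X.fromSpecStalk (genericPoint X) := by
  haveI : IsIso σ := ⟨σ, hσσ, hσσ⟩
  have hff := fromSpecStalk_ffMap σ
  have hcomm : (NormHomLib.ffMap σ).hom.comp (Curv2.stalkMap k X (genericPoint X)) =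
      Curv2.stalkMap k X (genericPoint X) := by
    have h1 := fromSpecStalk_over k (X := X) (genericPoint X)
    conv_lhs at h1 => rw [← hσ, ← Category.assoc, hff, Category.assoc, fromSpecStalk_over k, ← Spec.map_comp]
    exact congrArg CommRingCat.Hom.hom (Spec.map_injective h1)
  have hinv : NormHomLib.ffMap σ ≫ NormHomLib.ffMap σ = 𝟙 _ := by
    refine Spec.map_injective ?_
    rw [← cancel_mono (X.fromSpecStalk (genericPoint X)), Spec.map_comp, Category.assoc, ← hff, ← Category.assoc,
      ← hff, Category.assoc, hσσ, Category.comp_id, Spec.map_id]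
    exact (Category.id_comp _).symm
  have hzz : ∀ z, NormHomLib.ffMap σ (NormHomLib.ffMap σ z) = z := fun z => ConcreteCategory.congr_hom hinv z
  let s : X.functionField →ₐ[k] X.functionField :=
    { (NormHomLib.ffMap σ).hom with commutes' := fun c => RingHom.congr_fun hcomm c }
  exact ⟨AlgEquiv.ofAlgHom s s (AlgHom.ext hzz) (AlgHom.ext hzz), hzz, hff⟩

/-- Fixed closed points and fixed places. -/
theorem card_fixed_points (σ : X ⟶ X) [IsIso σ] (s : X.functionField ≃ₐ[k] X.functionField)
    (hg : X.fromSpecStalk (genericPoint X) ≫ σ =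
      Spec.map (CommRingCat.ofHom s.toAlgHom.toRingHom) ≫ X.fromSpecStalk (genericPoint X)) :
    Nat.card {x : X // IsClosed ({x} : Set X) ∧ σ x = x} =
      Nat.card {Q : FunFld.Place k X.functionField // mapPlace s Q = Q} := by
  classical
  refine Nat.card_congr (Equiv.ofBijective (fun x => ⟨placeOf k hdim x.1 x.2.1, ?_⟩) ⟨fun x y h => ?_, fun Q => ?_⟩)
  · obtain ⟨h, h1⟩ := placeOf_image hdim σ s hg x.2.1
    rw [← h1]
    congr 1
    exact x.2.2
  · exact Subtype.ext (placeOf_injective (k := k) hdim x.2.1 y.2.1 (congrArg Subtype.val h))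
  · obtain ⟨z, hz, hzQ⟩ := placeOf_surjective hdim Q.1
    obtain ⟨h, h1⟩ := placeOf_image hdim σ s hg hz
    refine ⟨⟨z, hz, placeOf_injective (k := k) hdim h hz ?_⟩, Subtype.ext hzQ⟩
    rw [h1, hzQ, Q.2]

end Groth.Agent.CurveFF
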