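import Groth.Agent.CurveFF.DoubleG12
import Groth.Agent.CurveFF.Morph
import Mathlib.FieldTheory.Galois.Basic

/-!
# The involution of a double cover of the line
-/

set_option autoImplicit false
set_option backward.isDefEq.respectTransparency false
set_option maxHeartbeats 800000
set_option linter.style.haveILetI false

universe u

open scoped WithZero IntermediateField

noncomputable section

namespace Groth.Agent.CurveFF

section FFLemmas

open FunFld Polynomial

variable {k K : Type u} [Field k] [Field K] [Algebra k K]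

/-- The pullback of a place under an automorphism. -/
def mapPlace (σ : K ≃ₐ[k] K) (R : Place k K) : Place k K :=
  ⟨R.1.comap σ.toAlgHom.toRingHom, fun c => by
      rw [Valuation.comap_apply]
      show R.1 (σ (algebraMap k K c)) ≤ 1
      rw [σ.commutes]
      exact R.2.1 c,
    fun z => ⟨σ.symm (R.2.2 z).choose, by
      rw [Valuation.comap_apply]
      show R.1 (σ (σ.symm _)) = z
      rw [σ.apply_symm_apply]
      exact (R.2.2 z).choose_spec⟩⟩

theorem mapPlace_apply (σ : K ≃ₐ[k] K) (R : Place k K) (z : K) : (mapPlace σ R).1 z = R.1 (σ z) := rfl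

variable {x : K}

/-- The involution of a separable quadratic extension of `k(x)`. -/
theorem exists_involution (hdeg : Module.finrank k⟮x⟯ K = 2) [Algebra.IsSeparable k⟮x⟯ K] :
    ∃ σ : K ≃ₐ[k] K, (∀ r ∈ k⟮x⟯, σ r = r) ∧ (∃ z, σ z ≠ z) ∧ (∀ z, σ (σ z) = z) ∧
      ∀ z, z + σ z ∈ k⟮x⟯ ∧ z * σ z ∈ k⟮x⟯ := by
  haveI : Module.Free k⟮x⟯ K := Module.Free.of_divisionRing _ _
  haveI : Algebra.IsQuadraticExtension k⟮x⟯ K := ⟨hdeg⟩
  haveI : FiniteDimensional k⟮x⟯ K := Module.finite_of_finrank_eq_succ hdeg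
  have hcard : Nat.card (K ≃ₐ[k⟮x⟯] K) = 2 := (IsGalois.card_aut_eq_finrank k⟮x⟯ K).trans hdeg
  haveI : Finite (K ≃ₐ[k⟮x⟯] K) := Nat.finite_of_card_ne_zero (by omega)
  obtain ⟨a, b, hab, huniv⟩ := Nat.card_eq_two_iff.1 hcard
  obtain ⟨s, hs⟩ : ∃ s : K ≃ₐ[k⟮x⟯] K, s ≠ 1 := by
    rcases eq_or_ne a 1 with rfl | ha
    · exact ⟨b, hab.symm⟩
    · exact ⟨a, ha⟩
  have hall : ∀ t : K ≃ₐ[k⟮x⟯] K, t = 1 ∨ t = s := by
    intro t
    have ht : t ∈ ({a, b} : Set _) := huniv ▸ Set.mem_univ t
    have hs' : s ∈ ({a, b} : Set _) := huniv ▸ Set.mem_univ s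
    have h1 : (1 : K ≃ₐ[k⟮x⟯] K) ∈ ({a, b} : Set _) := huniv ▸ Set.mem_univ _
    simp only [Set.mem_insert_iff, Set.mem_singleton_iff] at ht hs' h1
    rcases ht with rfl | rfl <;> rcases hs' with rfl | rfl <;> rcases h1 with h | h <;>
      first
        | exact Or.inr rfl
        | exact Or.inl h.symm
        | exact absurd h.symm hs
  have hss : ∀ z, s (s z) = z := by
    intro z
    rcases hall (s * s) with h | h
    · exact DFunLike.congr_fun h z
    · exact absurd (mul_eq_left.1 h) hs
  have hfix : ∀ z, s z = z → z ∈ k⟮x⟯ := by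
    intro z hz
    have : z ∈ (⊥ : IntermediateField k⟮x⟯ K) := (IsGalois.mem_bot_iff_fixed (F := k⟮x⟯) z).2 fun t => by
      rcases hall t with rfl | rfl
      · rfl
      · exact hz
    obtain ⟨c, hc⟩ := IntermediateField.mem_bot.1 this
    exact hc ▸ c.2
  refine ⟨s.restrictScalars k, fun r hr => s.commutes ⟨r, hr⟩, ?_, hss, fun z => ⟨hfix _ ?_, hfix _ ?_⟩⟩
  · by_contra h
    push Not at h
    exact hs (AlgEquiv.ext h)
  · rw [map_add]
    show s z + s (s z) = z + s z
    rw [hss, add_comm]
  · rw [map_mul]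
    show s z * s (s z) = z * s z
    rw [hss, mul_comm]

/-- The involution exchanges the two zeros of `u`, when `k(u)` is the fixed field. -/
theorem mapPlace_eq (hK : IsFunctionField k K) {u : K} (hu : Transcendental k u) {σ : K ≃ₐ[k] K}
    (hσu : σ u = u) (hσ : ∀ z, z + σ z ∈ k⟮u⟯ ∧ z * σ z ∈ k⟮u⟯) {R R' : Place k K}
    (hzeros : FF.zeros (k := k) u = Finsupp.single R 1 + Finsupp.single R' 1) :
    mapPlace σ R = R' := by
  classical
  have hu0 : u ≠ 0 := fun h => hu (h ▸ isAlgebraic_zero)
  have hzero : ∀ S : Place k K, S.1 u < 1 → S = R ∨ S = R' := by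
    intro S hS
    by_contra h
    push Not at h
    have h1 := congrArg (fun D => D S) hzeros
    simp only [Finsupp.add_apply, Finsupp.single_eq_of_ne h.1, Finsupp.single_eq_of_ne h.2, FF.zeros_apply hK] at h1
    have := (FF.v_lt_one_iff S hu0).1 hS
    omega
  have hpos : ∀ S, (S = R ∨ S = R') → S.1 u < 1 := by
    intro S hS
    refine (FF.v_lt_one_iff S hu0).2 ?_
    have h1 := congrArg (fun D => D S) hzeros
    simp only [Finsupp.add_apply, FF.zeros_apply hK] at h1
    have h2 : (1 : ℤ) ≤ (Finsupp.single R 1 : Divisor k K) S + (Finsupp.single R' 1 : Divisor k K) S := by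
      rcases hS with rfl | rfl
      · rw [Finsupp.single_eq_same]
        rcases eq_or_ne S R' with rfl | h
        · rw [Finsupp.single_eq_same]; norm_num
        · rw [Finsupp.single_eq_of_ne h]; norm_num
      · rw [Finsupp.single_eq_same]
        rcases eq_or_ne S R with rfl | h
        · rw [Finsupp.single_eq_same]; norm_num
        · rw [Finsupp.single_eq_of_ne h]; norm_num
    omega
  have hzσ : (mapPlace σ R).1 u < 1 := by rw [mapPlace_apply, hσu]; exact hpos R (Or.inl rfl)
  rcases hzero _ hzσ with h | h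
  · -- `R` is fixed: then it is the only zero
    by_contra hne
    rw [h] at hne
    obtain ⟨z, hz, hz'⟩ := FF.exists_sep R hne
    have hσz : R.1 (σ z) ≤ 1 := by rw [← mapPlace_apply, h]; exact hz
    have hmove : ∀ r ∈ k⟮u⟯, R.1 r ≤ 1 → R'.1 r ≤ 1 := by
      intro r hr hr1
      rcases eq_or_ne r 0 with rfl | hr0
      · simp
      have hX : Polynomial.aeval u (Polynomial.X : k[X]) = u := Polynomial.aeval_X u
      have hπ : Irreducible (Polynomial.X : k[X]) := Polynomial.irreducible_X
      obtain ⟨i, j, a, b, ha, hb, rfl⟩ := DStruct.exists_split hu hπ hr hr0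
      have hR := hpos R (Or.inl rfl)
      have hR' := hpos R' (Or.inr rfl)
      have hc : ∀ S : Place k K, 0 < S.1 (Polynomial.aeval u (Polynomial.X : k[X])) := fun S => by
        rw [hX]; exact zero_lt_iff.2 (S.1.ne_zero_iff.2 hu0)
      rw [DStruct.v_split hR.le hπ (by rw [hX]; exact hR) ha hb, div_le_one₀ (pow_pos (hc R) _),
        pow_le_pow_iff_right_of_lt_one₀ (hc R) (by rw [hX]; exact hR)] at hr1
      rw [DStruct.v_split hR'.le hπ (by rw [hX]; exact hR') ha hb, div_le_one₀ (pow_pos (hc R') _),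
        pow_le_pow_iff_right_of_lt_one₀ (hc R') (by rw [hX]; exact hR')]
      exact hr1
    have hT : R'.1 (z + σ z) ≤ 1 := hmove _ (hσ z).1 ((R.1.map_add _ _).trans (max_le hz hσz))
    have hN : R'.1 (z * σ z) ≤ 1 := hmove _ (hσ z).2 (by rw [map_mul]; exact mul_le_one' hz hσz)
    -- `z` is integral at `R'`
    refine not_le.2 hz' (not_lt.1 fun hlt => ?_)
    have h1 : R'.1 (z * z) ≤ R'.1 z := by
      rw [show z * z = (z + σ z) * z - z * σ z by ring]
      refine (R'.1.map_sub _ _).trans (max_le ?_ (hN.trans hlt.le))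
      rw [map_mul]
      exact mul_le_of_le_one_left zero_le hT
    rw [map_mul] at h1
    exact not_lt.2 h1 (lt_mul_of_one_lt_right (zero_lt_one.trans hlt) hlt)
  · exact h

end FFLemmas

open CategoryTheory AlgebraicGeometry

attribute [local instance] Curv2.stalkAlgebra
attribute [local instance high] FunFld.Place.algRes

variable {k : Type u} [Field k] {X : Scheme.{u}} [X.Over (Spec (CommRingCat.of k))]
  [IsProper (X ↘ Spec (CommRingCat.of k))] [IsIntegral X] [VBLib.IsRegCurve X] (hdim : topologicalKrullDim X = 1)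
include hdim

/-- The place of the image point. -/
theorem placeOf_image (g : X ⟶ X) [IsIso g] (σ : X.functionField ≃ₐ[k] X.functionField)
    (hg : X.fromSpecStalk (genericPoint X) ≫ g =
      Spec.map (CommRingCat.ofHom σ.toAlgHom.toRingHom) ≫ X.fromSpecStalk (genericPoint X))
    {z : X} (hz : IsClosed ({z} : Set X)) :
    ∃ h : IsClosed ({g z} : Set X), placeOf k hdim (g z) h = mapPlace σ (placeOf k hdim z hz) := by
  have hgz : IsClosed ({g z} : Set X) := by
    rw [← Set.image_singleton]
    exact g.homeomorph.isClosedMap _ hz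
  exact ⟨hgz, FF.place_eq_of_le _ fun y hy => (placeOf_le_one_iff (k := k) hdim hz (σ y)).2
    (map_mem_range_stalk g σ.toAlgHom.toRingHom hg z ((placeOf_le_one_iff (k := k) hdim hgz y).1 hy))⟩

end Groth.Agent.CurveFF
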