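import Groth.Agent.CurveFF.Weier
import Groth.Agent.FF.AlgClosed

/-!
# Legendre coordinates of a function field of genus one
-/

set_option autoImplicit false
set_option maxHeartbeats 800000
set_option linter.style.haveILetI false

universe u

open scoped WithZero
open MvPolynomial FunFld

noncomputable section

namespace Groth.Agent.CurveFF

attribute [local instance high] FunFld.Place.algRes

namespace Weier

variable {k K : Type u} [Field k] [Field K] [Algebra k K] [IsAlgClosed k]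

/-- Legendre coordinates in characteristic different from two. -/
theorem exists_legendre (hK : IsFunctionField k K) (hg : genus k K = 1) {P : Place k K} (hP : P.deg = 1)
    (h2 : (2 : k) ≠ 0) :
    ∃ (x y : K) (l : k), l ≠ 0 ∧ l ≠ 1 ∧ x ∈ L (Finsupp.single P 2) ∧ y ∈ L (Finsupp.single P 3) ∧
      P.ord x = -2 ∧ P.ord y = -3 ∧ aeval ![x, y, 1] (form 0 (-(1 + l)) 0 l 0).1 = 0 := by
  classical
  obtain ⟨x, y, a₁, a₂, a₃, a₄, a₆, hx, hy, hxo, hyo, heq⟩ := exists_coords hK hg hP
  have hx0 : x ≠ 0 := fun h => by rw [h, FF.ord_zero] at hxo; norm_num at hxo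
  have h2K : (2 : K) ≠ 0 := by rw [← map_ofNat (algebraMap k K) 2]; exact (_root_.map_ne_zero _).2 h2
  simp [form] at heq
  -- completing the square
  set Y := y + algebraMap k K (a₁ / 2) * x + algebraMap k K (a₃ / 2) with hY
  let f : Polynomial k := Polynomial.X ^ 3 + Polynomial.C (a₂ + a₁ ^ 2 / 4) * Polynomial.X ^ 2 +
    Polynomial.C (a₄ + a₁ * a₃ / 2) * Polynomial.X + Polynomial.C (a₆ + a₃ ^ 2 / 4)
  have h4 : (4 : k) ≠ 0 := by rw [show (4 : k) = 2 * 2 by norm_num]; exact mul_ne_zero h2 h2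
  have hYf : Y ^ 2 = Polynomial.aeval x f := by
    have h4K : (4 : K) ≠ 0 := by rw [show (4 : K) = 2 * 2 by norm_num]; exact mul_ne_zero h2K h2K
    simp only [f, hY, map_add, map_mul, map_pow, Polynomial.aeval_C, Polynomial.aeval_X, map_div₀, map_ofNat]
    field_simp
    linear_combination (16 : K) * heq
  have hfm : f.Monic := by simp only [f]; monicity!
  have hfd : f.natDegree = 3 := by simp only [f]; compute_degree!
  have hsplit := IsAlgClosed.splits f
  have hcard : f.roots.card = 3 := by rw [← hsplit.natDegree_eq_card_roots, hfd]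
  obtain ⟨e₀, e₁, e₂, he⟩ := Multiset.card_eq_three.1 hcard
  have hfac : ∀ z : K, Polynomial.aeval z f =
      (z - algebraMap k K e₀) * (z - algebraMap k K e₁) * (z - algebraMap k K e₂) := by
    intro z
    conv_lhs => rw [hsplit.eq_prod_roots, hfm.leadingCoeff, he]
    simp [mul_assoc]
  rw [hfac] at hYf
  have hsub : ∀ c : k, x - algebraMap k K c ∈ L (Finsupp.single P 2) := fun c => sub_mem hx (by
    rw [Algebra.algebraMap_eq_smul_one]
    exact Submodule.smul_mem _ c (FF.one_mem_L (Finsupp.single_nonneg.2 zero_le_two)))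
  have hne : ∀ c : k, x - algebraMap k K c ≠ 0 := fun c h => by
    rw [sub_eq_zero.1 h, FF.ord_algebraMap] at hxo; norm_num at hxo
  have hsubo : ∀ c : k, P.ord (x - algebraMap k K c) = -2 := fun c => by
    refine (FF.ord_eq_iff P (hne c)).2 ?_
    rw [← hxo, ← FF.v_eq_exp P hx0]
    refine Valuation.map_sub_eq_of_lt_left _ ((P.2.1 c).trans_lt ?_)
    rw [FF.v_eq_exp P hx0, hxo, ← WithZero.exp_zero, WithZero.exp_lt_exp]
    norm_num
  have hnsq : ∀ (z : K) (c : k), z ^ 2 ≠ x - algebraMap k K c := by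
    intro z c hz
    have hz0 : z ≠ 0 := fun h => hne c (by rw [← hz, h, zero_pow two_ne_zero])
    have ho := hsubo c
    rw [← hz, FF.ord_pow] at ho
    push_cast at ho
    have hzL : z ∈ L (Finsupp.single P ((1 : ℕ) : ℤ)) := (FF.mem_L_iff_ord hz0).2 fun Q => by
      rcases eq_or_ne Q P with rfl | hQ
      · rw [Finsupp.single_eq_same]; omega
      · have h := (FF.mem_L_iff_ord (hne c)).1 (hsub c) Q
        rw [Finsupp.single_eq_of_ne hQ, ← hz, FF.ord_pow] at h
        rw [Finsupp.single_eq_of_ne hQ]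
        push_cast at h ⊢
        omega
    have hl : ell (Finsupp.single P ((1 : ℕ) : ℤ)) = 1 := by
      have := FF.ell_of_deg_large hK (D := Finsupp.single P ((1 : ℕ) : ℤ)) (by rw [FF.deg_single, hP, hg]; norm_num)
      rw [FF.deg_single, hP, hg] at this
      omega
    haveI := FF.finite_L hK (Finsupp.single P ((1 : ℕ) : ℤ))
    have h3 := Submodule.eq_of_le_of_finrank_eq
      (FF.L_mono (Finsupp.single_nonneg.2 (by norm_num)) : L (0 : Divisor k K) ≤ L (Finsupp.single P ((1 : ℕ) : ℤ)))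
      (by show ell (0 : Divisor k K) = ell (Finsupp.single P ((1 : ℕ) : ℤ)); rw [FF.ell_zero hK, hl])
    rw [← h3] at hzL
    obtain ⟨d, rfl⟩ := Submodule.mem_one.1 (FF.L_zero_le hK hzL)
    rw [FF.ord_algebraMap] at ho
    norm_num at ho
  have hdist : ∀ a b c : k, Y ^ 2 = (x - algebraMap k K a) * (x - algebraMap k K b) * (x - algebraMap k K c) → a ≠ b := by
    rintro a b c h rfl
    refine hnsq (Y / (x - algebraMap k K a)) c ?_
    rw [_root_.div_pow, h]
    field_simp [hne a]
  have h01 : e₀ ≠ e₁ := hdist _ _ e₂ hYf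
  have h02 : e₀ ≠ e₂ := hdist _ _ e₁ (by rw [hYf]; ring)
  have h12 : e₁ ≠ e₂ := hdist _ _ e₀ (by rw [hYf]; ring)
  have hY3 : Y ∈ L (Finsupp.single P 3) := by
    refine add_mem (add_mem hy ?_) ?_
    · rw [← Algebra.smul_def]
      exact Submodule.smul_mem _ _ (FF.L_mono (Finsupp.single_mono (by norm_num)) hx)
    · rw [Algebra.algebraMap_eq_smul_one]
      exact Submodule.smul_mem _ _ (FF.one_mem_L (Finsupp.single_nonneg.2 (by norm_num)))
  have hY0 : Y ≠ 0 := fun h => by
    rw [h, zero_pow two_ne_zero] at hYf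
    exact mul_ne_zero (mul_ne_zero (hne e₀) (hne e₁)) (hne e₂) hYf.symm
  have hYo : P.ord Y = -3 := by
    have h := congrArg P.ord hYf
    rw [FF.ord_pow, FF.ord_mul P (mul_ne_zero (hne e₀) (hne e₁)) (hne e₂), FF.ord_mul P (hne e₀) (hne e₁),
      hsubo, hsubo, hsubo] at h
    push_cast at h
    omega
  -- scaling
  set μ := e₁ - e₀ with hμ
  have hμ0 : μ ≠ 0 := sub_ne_zero.2 (Ne.symm h01)
  obtain ⟨ν, hν⟩ := IsAlgClosed.exists_pow_nat_eq (μ ^ 3) zero_lt_two
  have hν0 : ν ≠ 0 := fun h => pow_ne_zero 3 hμ0 (by rw [← hν, h, zero_pow two_ne_zero])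
  refine ⟨μ⁻¹ • (x - algebraMap k K e₀), ν⁻¹ • Y, (e₂ - e₀) / μ, div_ne_zero (sub_ne_zero.2 (Ne.symm h02)) hμ0,
    fun h => h12 ?_, Submodule.smul_mem _ _ (hsub e₀), Submodule.smul_mem _ _ hY3, ?_, ?_, ?_⟩
  · rw [div_eq_one_iff_eq hμ0, hμ] at h
    linear_combination -h
  · rw [Algebra.smul_def, FF.ord_mul P ((_root_.map_ne_zero _).2 (inv_ne_zero hμ0)) (hne e₀), FF.ord_algebraMap,
      hsubo, zero_add]
  · rw [Algebra.smul_def, FF.ord_mul P ((_root_.map_ne_zero _).2 (inv_ne_zero hν0)) hY0, FF.ord_algebraMap,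
      hYo, zero_add]
  · have hmK : (algebraMap k K e₁ - algebraMap k K e₀) ≠ 0 := by
      rw [← map_sub]; exact (_root_.map_ne_zero _).2 hμ0
    have hnK : algebraMap k K ν ≠ 0 := (_root_.map_ne_zero _).2 hν0
    have hνK : algebraMap k K ν ^ 2 = (algebraMap k K e₁ - algebraMap k K e₀) ^ 3 := by
      rw [← map_pow, hν, hμ, map_pow, map_sub]
    simp [form, Algebra.smul_def, hμ]
    field_simp
    rw [hYf, hνK]
    ring

end Weier

end Groth.Agent.CurveFF
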