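import Groth.Agent.HypSurfLib.Coh
import Groth.Agent.PicProjLib.Chart
import Groth.Agent.CurveFF.Genus
import Groth.Agent.CurveLib.GlobalFun
import Groth.Agent.VBLib.Regular
import Groth.Agent.CohBase.Affine
import Groth.Agent.S10830
import Groth.Agent.S10829
import Groth.Agent.ProjCoh.PSData

/-!
# Smooth plane curves
-/

set_option autoImplicit false
set_option backward.isDefEq.respectTransparency false
set_option maxHeartbeats 1600000
set_option linter.style.haveILetI false

universe u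

open CategoryTheory Limits AlgebraicGeometry TopologicalSpace MvPolynomial HomogeneousLocalization

noncomputable section

namespace Groth.Agent.CurveFF.PlaneCurve

attribute [local instance] Curv2.stalkAlgebra
attribute [local instance high] FunFld.Place.algRes

variable {k : Type u} [Field k] {d : ℕ} (G : LefPen.Form 2 k d) (hG : G ≠ 0)
  [(LefPen.hypIdeal G).subscheme.Over (Spec (CommRingCat.of k))]
  (hinst : (LefPen.hypIdeal G).subscheme ↘ Spec (CommRingCat.of k) =
    (LefPen.hypIdeal G).subschemeι ≫ CohB1.ProjSpace.toSpec 2 k)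

set_option quotPrecheck false
local notation "Cv" => (LefPen.hypIdeal G).subscheme
local notation "ι₀" => (LefPen.hypIdeal G).subschemeι

include hinst in
theorem isProper : IsProper (Cv ↘ Spec (CommRingCat.of k)) := by
  rw [hinst]; infer_instance

include hG hinst in
theorem isIntegral (hd : 1 ≤ d) [Smooth (Cv ↘ Spec (CommRingCat.of k))] : IsIntegral Cv := by
  haveI := isProper G hinst
  haveI := HypSurfLib.connectedSpace G hG hinst hd le_rfl
  exact CurveLib.isIntegral_of_smooth k

include hG in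
theorem dehom_ne_zero (i : Fin (2 + 1)) : LefPen.dehom G i ≠ 0 := by
  intro h
  haveI : IsIntegral (CohB1.ProjSpace 2 k) := REqLib.isIntegral_projSpace 2 k
  obtain ⟨x, hx⟩ : (LefPen.chart 2 k i : Set (CohB1.ProjSpace 2 k)).Nonempty :=
    Set.nonempty_coe_sort.1 (inferInstanceAs (Nonempty (AmpleEmb.stdOpen 2 k i)))
  have h0 : HypSurfLib.chartGen (k := k) i d = 0 :=
    HypSurfLib.mulG_injective G hG _ ((HypSurfLib.mulG_chartGen G i).trans (h.trans (map_zero _).symm))
  have h1 := congrArg (fun s => ProjTwist.valAt s ⟨x, hx⟩) h0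
  change Localization.mk (HypSurfLib.oneF 2 k).1 _ = (0 : Twist.Loc (CohB1.polyGrading 2 k) x) at h1
  rw [Localization.mk_eq_mk', IsLocalization.mk'_eq_zero_iff] at h1
  obtain ⟨m, hm⟩ := h1
  refine m.2 ?_
  show (m : MvPolynomial (Fin (2 + 1)) k) ∈ x.asHomogeneousIdeal.toIdeal
  rw [show (m : MvPolynomial (Fin (2 + 1)) k) = 0 by simpa [HypSurfLib.oneF] using hm]
  exact zero_mem _

include hG in
theorem dehom_mem (i : Fin (2 + 1)) (hV : IsAffineOpen (LefPen.chart 2 k i)) :
    LefPen.dehom G i ∈ (LefPen.hypIdeal G).ideal ⟨LefPen.chart 2 k i, hV⟩ := by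
  rw [HypSurfLib.hypIdeal_ideal G hG]
  exact ⟨_, HypSurfLib.mulG_chartGen G i⟩

theorem isAffineOpen_chart (i : Fin (2 + 1)) : IsAffineOpen (LefPen.chart 2 k i) :=
  Proj.isAffineOpen_basicOpen _ _ (ProjMap.X_mem i) one_pos

include hG in
theorem app_dehom (i : Fin (2 + 1)) : (ι₀).app (LefPen.chart 2 k i) (LefPen.dehom G i) = 0 := by
  have h : LefPen.dehom G i ∈ RingHom.ker ((ι₀).app (LefPen.chart 2 k i)).hom := by
    rw [(LefPen.hypIdeal G).ker_subschemeι_app ⟨_, isAffineOpen_chart i⟩]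
    exact dehom_mem G hG i _
  exact h

include hG in
theorem range_ne_univ : Set.range (ι₀).base ≠ Set.univ := by
  intro hr
  haveI : IsIntegral (CohB1.ProjSpace 2 k) := REqLib.isIntegral_projSpace 2 k
  refine dehom_ne_zero G hG 0 ((AlgebraicGeometry.basicOpen_eq_bot_iff _).1 ?_)
  refine le_bot_iff.1 fun x hx => ?_
  obtain ⟨y, rfl⟩ : x ∈ Set.range (ι₀).base := hr ▸ Set.mem_univ x
  have hy : y ∈ (ι₀) ⁻¹ᵁ (CohB1.ProjSpace 2 k).basicOpen (LefPen.dehom G 0) := hx
  rw [Scheme.preimage_basicOpen, app_dehom G hG 0, Scheme.basicOpen_zero] at hy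
  exact hy.elim

include hG hinst in
/-- A smooth plane curve of degree at least three has dimension one. -/
theorem dim_eq_one (hd : 3 ≤ d) [Smooth (Cv ↘ Spec (CommRingCat.of k))] : topologicalKrullDim Cv = 1 := by
  haveI := isProper G hinst
  haveI := isIntegral G hG hinst (by omega)
  haveI : IsIntegral (CohB1.ProjSpace 2 k) := REqLib.isIntegral_projSpace 2 k
  have hP : topologicalKrullDim (CohB1.ProjSpace 2 k) = ((2 : ℕ) : WithBot ℕ∞) := by
    exact_mod_cast S10829.result k 2
  have hemb : Topology.IsClosedEmbedding (ι₀).base := (ι₀).isClosedEmbedding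
  have hlt : topologicalKrullDim Cv < ((2 : ℕ) : WithBot ℕ∞) := by
    rw [← hP]
    refine lt_of_le_of_lt ?_ (S10830.result (CohB1.ProjSpace 2 k) ?_ _ hemb.isClosed_range (range_ne_univ G hG))
    · exact (IsHomeomorph.topologicalKrullDim_eq _ hemb.isEmbedding.toHomeomorph.isHomeomorph).le
    · rw [hP]; exact ne_of_beq_false rfl
  have hne : ¬ Subsingleton ↥Cv := by
    intro hsub
    haveI := hsub
    obtain ⟨W, hW, hxW, -⟩ := Opens.isBasis_iff_nbhd.mp (Scheme.isBasis_affineOpens Cv)
      (U := ⊤) (x := Nonempty.some (inferInstance : Nonempty ↥Cv)) trivial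
    have haff : IsAffineOpen (⊤ : (Cv).Opens) := by
      have he : (⊤ : (Cv).Opens) = W := by
        refine Opens.ext (Set.eq_univ_of_forall fun z => ?_).symm
        exact (Subsingleton.elim _ z) ▸ hxW
      rw [he]; exact hW
    haveI : Coh.IsQCoh (Coh.structureModule Cv) :=
      (DevLib.isCoh_structureModule (X := Cv)).1
    haveI : Subsingleton (Coh.HH Cv (Coh.structureModule Cv) 1) :=
      CohBase.subsingleton_HH _ _ (CohBase.affine_vanishing _ haff 0)
    have h := HypSurfLib.finrank_top G hG hinst (by omega) le_rfl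
    rw [show (2 : ℕ) - 1 = 1 from rfl, Module.finrank_zero_of_subsingleton] at h
    exact absurd h.symm (Nat.choose_ne_zero (by omega))
  have hge : ((1 : ℕ) : WithBot ℕ∞) ≤ topologicalKrullDim Cv := by
    obtain ⟨x, hx⟩ : ∃ x : ↥Cv, x ≠ genericPoint ↥Cv := by
      by_contra hcon
      push Not at hcon
      exact hne ⟨fun a b => (hcon a).trans (hcon b).symm⟩
    let a : IrreducibleCloseds ↥Cv := ⟨closure {x}, isIrreducible_singleton.closure, isClosed_closure⟩
    let b : IrreducibleCloseds ↥Cv := ⟨Set.univ, IrreducibleSpace.isIrreducible_univ _, isClosed_univ⟩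
    have hab : a < b := by
      refine lt_of_le_of_ne (fun _ _ => trivial) fun h => hx ?_
      have h' : closure ({x} : Set ↥Cv) = Set.univ := congrArg (fun W : IrreducibleCloseds ↥Cv => (W : Set ↥Cv)) h
      exact ((genericPoint_spec ↥Cv).eq (by rw [IsGenericPoint, h'])).symm
    exact (Order.LTSeries.length_le_krullDim ((RelSeries.singleton _ a).snoc b hab) :)
  revert hlt hge
  generalize topologicalKrullDim Cv = D
  intro hlt hge
  rcases D with _ | D
  · exact absurd hge (not_le.2 (WithBot.bot_lt_coe _))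
  rcases D with _ | n
  · exact absurd (hlt.trans_le le_top) (lt_irrefl _)
  · have h1 : n < 2 := Nat.cast_lt.1 (WithBot.coe_lt_coe.1 hlt)
    have h2 : 1 ≤ n := Nat.cast_le.1 (WithBot.coe_le_coe.1 hge)
    obtain rfl : n = 1 := by omega
    rfl

include hG hinst in
/-- The genus of the function field of a smooth plane curve. -/
theorem two_mul_genus (hd : 1 ≤ d) [IsProper (Cv ↘ Spec (CommRingCat.of k))] [IsIntegral Cv] [VBLib.IsRegCurve Cv]
    (hdim : topologicalKrullDim Cv = 1) :
    2 * FunFld.genus k (Cv).functionField = (d - 1) * (d - 2) := by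
  rw [← genus_eq (k := k) hdim (HypSurfLib.finrank_H0 G hG hinst hd le_rfl), Curv2.genus]
  have h := HypSurfLib.finrank_top G hG hinst hd le_rfl
  rw [show (2 : ℕ) - 1 = 1 from rfl] at h
  rw [h, Nat.choose_two_right, show d - 1 - 1 = d - 2 by omega]
  refine Nat.mul_div_cancel' ?_
  obtain ⟨c, rfl⟩ := Nat.exists_eq_add_of_le hd
  rcases c with _ | c
  · simp
  · rw [show 1 + (c + 1) - 1 = c + 1 by omega, show 1 + (c + 1) - 2 = c by omega, mul_comm]
    exact (Nat.even_mul_succ_self c).two_dvd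

theorem evalAway_mk_one {A : Type u} [CommRing A] [Algebra k A] (i : Fin (2 + 1)) {v : Fin (2 + 1) → A} (hi : v i = 1)
    (hu : IsUnit (MvPolynomial.aeval v (X i : MvPolynomial (Fin (2 + 1)) k))) (n : ℕ) (a : MvPolynomial (Fin (2 + 1)) k)
    (ha : a ∈ CohB1.polyGrading 2 k (n • 1)) :
    ProjMap.evalAway v (X i) hu (Away.mk (CohB1.polyGrading 2 k) (ProjMap.X_mem i) n a ha) =
      MvPolynomial.aeval v a := by
  have h := ProjMap.evalAway_mk (A := A) (v := v) (ProjMap.X_mem i) hu n a ha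
  simpa [hi] using h

theorem totalDegree_dehomVec_le {H : MvPolynomial (Fin (2 + 1)) k} (hH : H.IsHomogeneous d) (i : Fin (2 + 1)) :
    (MvPolynomial.aeval (PicProjLib.dehomVec 2 k i) H).totalDegree ≤ d := by
  classical
  conv_lhs => rw [H.as_sum, map_sum]
  refine totalDegree_finsetSum_le fun m hm => ?_
  rw [aeval_monomial]
  refine (totalDegree_mul _ _).trans ?_
  rw [MvPolynomial.algebraMap_eq, totalDegree_C, zero_add, Finsupp.prod]
  refine (totalDegree_finsetProd _ _).trans ?_
  have hdeg : ∑ a ∈ m.support, m a = d := by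
    have h := hH (mem_support_iff.mp hm)
    simpa [Finsupp.weight_apply, Finsupp.sum] using h
  refine le_trans (Finset.sum_le_sum fun a _ => ?_) hdeg.le
  refine (totalDegree_pow _ _).trans ?_
  have h1 : (PicProjLib.dehomVec 2 k i a).totalDegree ≤ 1 := by
    rcases Fin.eq_self_or_eq_succAbove i a with rfl | ⟨j, rfl⟩
    · simp [PicProjLib.dehomVec]
    · simp [PicProjLib.dehomVec]
  exact le_of_le_of_eq (Nat.mul_le_mul_left _ h1) (mul_one _)

include hG hinst in
/-- Affine coordinates on a plane curve. -/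
theorem exists_coords [IsIntegral Cv] :
    ∃ (x y : (Cv).functionField) (g₀ : MvPolynomial (Fin 2) k),
      IntermediateField.adjoin k ({x, y} : Set (Cv).functionField) = ⊤ ∧ g₀ ≠ 0 ∧
        MvPolynomial.aeval ![x, y] g₀ = 0 ∧ g₀.totalDegree ≤ d := by
  classical
  set η := genericPoint Cv
  obtain ⟨i, hi⟩ := Opens.mem_iSup.1 ((AmpleEmb.iSup_stdOpen 2 k).ge (Opens.mem_top ((ι₀) η)))
  let V := LefPen.chart 2 k i
  have hη : η ∈ (ι₀) ⁻¹ᵁ V := hi
  let ρ : Away (CohB1.polyGrading 2 k) (X i : MvPolynomial (Fin (2 + 1)) k) →+* (Cv).functionField :=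
    ((Cv).presheaf.germ ((ι₀) ⁻¹ᵁ V) η hη).hom.comp
      (((ι₀).app V).hom.comp (Proj.awayToSection (CohB1.polyGrading 2 k) (X i)).hom)
  have halg : ProjMap.IsAlg i ρ := by
    intro r
    have h1 := ProjCoh.φV_projφ (CohB1.polyGrading 2 k) (ProjMap.X_mem (R := k) i) one_pos r
    show (Cv).presheaf.germ ((ι₀) ⁻¹ᵁ V) η hη ((ι₀).app V (Proj.awayToSection (CohB1.polyGrading 2 k) (X i)
      (ProjCoh.awayConst (CohB1.polyGrading 2 k) (X i : MvPolynomial (Fin (2 + 1)) k) r))) = _
    rw [← h1]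
    show (Cv).presheaf.germ ((ι₀) ⁻¹ᵁ V) η hη ((ι₀).app V ((CohB1.ProjSpace 2 k).presheaf.map
      (homOfLE le_top).op (Coh.toGlobal (CohB1.ProjSpace.toSpec 2 k) r))) =
      (Cv).presheaf.germ ⊤ η trivial (Coh.toGlobal (Cv ↘ Spec (CommRingCat.of k)) r)
    rw [hinst]
    refine Eq.trans (congrArg ((Cv).presheaf.germ ((ι₀) ⁻¹ᵁ V) η hη)
      (ConcreteCategory.congr_hom ((ι₀).naturality (homOfLE (le_top : V ≤ ⊤)).op)
        (Coh.toGlobal (CohB1.ProjSpace.toSpec 2 k) r))) ?_
    exact TopCat.Presheaf.germ_res_apply (Cv).presheaf _ _ _ _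
  have hρ := ProjMap.eq_evalAway_coords i ρ halg
  set u := ProjMap.coords i ρ with hu
  have hui : u i = 1 := ProjMap.coords_self i ρ
  have hval : ∀ z, ρ z ∈ IntermediateField.adjoin k (Set.range u) := by
    intro z
    obtain ⟨n, a, ha, rfl⟩ := Away.mk_surjective (𝒜 := CohB1.polyGrading 2 k) (ProjMap.X_mem i) z
    rw [hρ, evalAway_mk_one i hui _ n a ha]
    exact IntermediateField.algebra_adjoin_le_adjoin k _
      (Algebra.adjoin_range_eq_range_aeval k u ▸ ⟨a, rfl⟩)
  have hgen : IntermediateField.adjoin k (Set.range u) = ⊤ := by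
    refine eq_top_iff.2 fun z _ => ?_
    obtain ⟨w, rfl⟩ := (ι₀).stalkMap_surjective η z
    letI := (CohB1.ProjSpace 2 k).presheaf.algebra_section_stalk (U := V) ⟨(ι₀) η, hi⟩
    haveI := (isAffineOpen_chart (k := k) i).isLocalization_stalk ⟨(ι₀) η, hi⟩
    obtain ⟨⟨a, s⟩, hw⟩ := IsLocalization.surj
      ((isAffineOpen_chart (k := k) i).primeIdealOf ⟨(ι₀) η, hi⟩).asIdeal.primeCompl w
    have hs : IsUnit ((CohB1.ProjSpace 2 k).presheaf.germ V ((ι₀) η) hi s.1) :=
      IsLocalization.map_units _ s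
    change w * (CohB1.ProjSpace 2 k).presheaf.germ V ((ι₀) η) hi s.1 =
      (CohB1.ProjSpace 2 k).presheaf.germ V ((ι₀) η) hi a at hw
    have hbij := ConcreteCategory.bijective_of_isIso
      (Proj.basicOpenIsoAway (CohB1.polyGrading 2 k) (X i) (ProjMap.X_mem i) one_pos).hom
    obtain ⟨a', ha'⟩ := hbij.2 a
    obtain ⟨s', hs'⟩ := hbij.2 s.1
    have hρ' : ∀ b, (ι₀).stalkMap η ((CohB1.ProjSpace 2 k).presheaf.germ V ((ι₀) η) hi
        ((Proj.basicOpenIsoAway (CohB1.polyGrading 2 k) (X i) (ProjMap.X_mem i) one_pos).hom b)) = ρ b :=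
      fun b => Scheme.Hom.germ_stalkMap_apply (ι₀) V η hη _
    have h2 := congrArg ((ι₀).stalkMap η) hw
    rw [map_mul, ← ha', ← hs', hρ', hρ'] at h2
    have hs0 : ρ s' ≠ 0 := by
      rw [← hρ' s', hs']
      exact (hs.map ((ι₀).stalkMap η).hom).ne_zero
    rw [(eq_div_iff hs0).2 h2]
    exact div_mem (hval a') (hval s')
  have hrel : MvPolynomial.aeval u G.1 = 0 := by
    have hGd : G.1 ∈ CohB1.polyGrading 2 k (d • 1) := by rw [smul_eq_mul, mul_one]; exact G.2
    rw [← evalAway_mk_one i hui (by simp [hui]) d G.1 hGd, ← hρ]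
    show (Cv).presheaf.germ ((ι₀) ⁻¹ᵁ V) η hη ((ι₀).app V (LefPen.dehom G i)) = 0
    rw [app_dehom G hG i, map_zero]
  refine ⟨u (i.succAbove 0), u (i.succAbove 1), MvPolynomial.aeval (PicProjLib.dehomVec 2 k i) G.1, ?_, ?_, ?_,
    totalDegree_dehomVec_le G.2 i⟩
  · rw [eq_top_iff, ← hgen, IntermediateField.adjoin_le_iff]
    rintro _ ⟨a, rfl⟩
    rcases Fin.eq_self_or_eq_succAbove i a with rfl | ⟨j, rfl⟩
    · rw [hui]; exact one_mem _
    · refine IntermediateField.subset_adjoin _ _ ?_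
      rcases (show ∀ j : Fin 2, j = 0 ∨ j = 1 by decide) j with rfl | rfl
      · exact Set.mem_insert _ _
      · exact Set.mem_insert_of_mem _ rfl
  · intro h
    have hGd : G.1 ∈ CohB1.polyGrading 2 k (d • 1) := by rw [smul_eq_mul, mul_one]; exact G.2
    have h' : PicProjLib.awayToPoly 2 k i (Away.mk (CohB1.polyGrading 2 k) (ProjMap.X_mem i) d G.1 hGd) = 0 := by
      exact (evalAway_mk_one (A := MvPolynomial (Fin 2) k) i (v := PicProjLib.dehomVec 2 k i)
        (by simp [PicProjLib.dehomVec]) _ d G.1 hGd).trans h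
    have h'' := congrArg (PicProjLib.polyToAway 2 k i) h'
    rw [map_zero, ← RingHom.comp_apply, PicProjLib.polyToAway_comp, RingHom.id_apply] at h''
    exact dehom_ne_zero G hG i ((congrArg _ h'').trans (map_zero _))
  · rw [← hrel]
    refine (comp_aeval_apply (f := PicProjLib.dehomVec 2 k i) (MvPolynomial.aeval _) G.1).trans ?_
    congr 1
    apply MvPolynomial.algHom_ext
    intro a
    simp only [aeval_X]
    rcases Fin.eq_self_or_eq_succAbove i a with rfl | ⟨j, rfl⟩
    · simp [PicProjLib.dehomVec, hui]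
    · rcases (show ∀ j : Fin 2, j = 0 ∨ j = 1 by decide) j with rfl | rfl <;> simp [PicProjLib.dehomVec]

end Groth.Agent.CurveFF.PlaneCurve
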