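import Groth.Agent.FF.Plane

/-!
# Plane models over an arbitrary constant field
-/

set_option autoImplicit false
set_option linter.style.haveILetI false

open FunFld Polynomial
open scoped WithZero IntermediateField
open Groth.Agent.FF

namespace Groth.Agent.CurveFF.PlaneGen

attribute [local instance high] FunFld.Place.algRes

set_option maxHeartbeats 1600000

variable {k K : Type*} [Field k] [Field K] [Algebra k K] (x y : K)

local notation "Wxy" => Submodule.span k (Set.range ![(1 : K), x, y])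
local notation "Emd" => mapDiv k ![(1 : K), x, y]

theorem one_mem_span : (1 : K) ∈ Wxy := Submodule.subset_span ⟨0, rfl⟩

theorem pow_mono_span {m n : ℕ} (h : m ≤ n) : (Wxy) ^ m ≤ (Wxy) ^ n :=
  pow_le_pow_right' (Submodule.one_le.2 (one_mem_span x y)) h

theorem exists_residue_poly (hK : IsFunctionField k K) (P : Place k K) {t : K} (ht : P.1 t ≤ 1) :
    ∃ p : k[X], p.Monic ∧ P.1 (aeval t p) < 1 := by
  have hfin : @Module.Finite k (IsLocalRing.ResidueField P.O) _ _ Algebra.toModule := finite_residue hK P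
  haveI := hfin
  let r : IsLocalRing.ResidueField P.O := IsLocalRing.residue P.O ⟨t, ht⟩
  have hr : IsIntegral k r := IsIntegral.of_finite k r
  refine ⟨minpoly k r, minpoly.monic hr, ?_⟩
  have h1 : (IsLocalRing.residue P.O) (eval₂ (algebraMap k P.O) ⟨t, ht⟩ (minpoly k r)) = 0 := by
    rw [hom_eval₂]
    exact minpoly.aeval k r
  have h2 := (residue_eq_zero_iff _).1 h1
  have h3 : ((eval₂ (algebraMap k P.O) ⟨t, ht⟩ (minpoly k r) : P.O) : K) = aeval t (minpoly k r) := by
    show P.O.subtype _ = _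
    rw [hom_eval₂]
    rfl
  rwa [h3] at h2

theorem one_lt_of_mapDiv_pos (hK : IsFunctionField k K) {P : Place k K} (hP : Emd P ≠ 0) :
    1 < max (P.1 x) (P.1 y) ∧ WithZero.exp (Emd P) = max (P.1 x) (P.1 y) := by
  have hφ := proper_xy (k := k) x y hK
  have h0 : 0 < Emd P := lt_of_le_of_ne (mapDiv_nonneg x y hK P) (Ne.symm hP)
  obtain ⟨j, hj⟩ := hφ.isMax P
  have hexp : 1 < WithZero.exp (Emd P) := by rw [← WithZero.exp_zero]; exact WithZero.exp_lt_exp.2 h0
  rw [hφ.2 P j hj] at hexp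
  have hle := hj.2
  refine (?_ : _ ∧ _)
  rw [hφ.2 P j hj]
  have hj' : P.1 (![(1 : K), x, y] j) = max (P.1 x) (P.1 y) := by
    refine le_antisymm ?_ (max_le (hle 1) (hle 2))
    rcases (show ∀ j : Fin 3, j = 0 ∨ j = 1 ∨ j = 2 by decide) j with rfl | rfl | rfl
    · simp only [Matrix.cons_val_zero, map_one] at hexp
      exact absurd hexp (lt_irrefl _)
    · exact le_max_left _ _
    · exact le_max_right _ _
  exact ⟨hj' ▸ hexp, hj'⟩

/-- An element of a power of the span with the largest possible poles. -/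
theorem exists_pole_element (hK : IsFunctionField k K) :
    ∃ (N : ℕ) (w : K), 1 ≤ N ∧ w ∈ (Wxy) ^ N ∧
      ∀ P : Place k K, Emd P ≠ 0 → P.1 w = WithZero.exp (Emd P) ^ N := by
  classical
  have hm : ∀ P : Place k K, ∃ p : k[X], p.Monic ∧ (P.1 (y / x) ≤ 1 → P.1 (aeval (y / x) p) < 1) := by
    intro P
    by_cases h : P.1 (y / x) ≤ 1
    · obtain ⟨p, hp, hpt⟩ := exists_residue_poly hK P h
      exact ⟨p, hp, fun _ => hpt⟩
    · exact ⟨1, monic_one, fun h' => absurd h' h⟩
  choose mP hmon hsmall using hm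
  set S := (Emd).support
  set h : k[X] := 1 + X * ∏ P ∈ S, mP P with hh
  have hprod : (X * ∏ P ∈ S, mP P).Monic := monic_X.mul (monic_prod_of_monic _ _ fun P _ => hmon P)
  have hdeg : 1 ≤ (X * ∏ P ∈ S, mP P).natDegree := by
    rw [monic_X.natDegree_mul (monic_prod_of_monic _ _ fun P _ => hmon P), natDegree_X]
    omega
  have hlt : (1 : k[X]).degree < (X * ∏ P ∈ S, mP P).degree := by
    rw [degree_one, degree_eq_natDegree hprod.ne_zero]
    exact_mod_cast hdeg
  have hmonic : h.Monic := Monic.add_of_right hprod hlt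
  have hN : 1 ≤ h.natDegree := by
    rw [hh, natDegree_add_eq_right_of_natDegree_lt]
    · exact hdeg
    · rw [natDegree_one]; omega
  set N := h.natDegree
  refine ⟨N, ∑ i ∈ Finset.range (N + 1), h.coeff i • (y ^ i * x ^ (N - i)), hN, ?_, fun P hP => ?_⟩
  · refine Submodule.sum_mem _ fun i hi => Submodule.smul_mem _ _ ?_
    rw [Finset.mem_range] at hi
    have h1 := Submodule.mul_mem_mul
      (Submodule.pow_mem_pow _ (Submodule.subset_span ⟨2, rfl⟩ : ![(1 : K), x, y] 2 ∈ Wxy) i)
      (Submodule.pow_mem_pow _ (Submodule.subset_span ⟨1, rfl⟩ : ![(1 : K), x, y] 1 ∈ Wxy) (N - i))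
    rw [← pow_add, show i + (N - i) = N by omega] at h1
    exact h1
  obtain ⟨hgt, hexp⟩ := one_lt_of_mapDiv_pos x y hK hP
  rw [hexp]
  rcases lt_or_ge (P.1 x) (P.1 y) with hxy' | hyx
  · rw [max_eq_right hxy'.le] at hgt ⊢
    rw [Finset.sum_range_succ, hmonic.coeff_natDegree, one_smul, Nat.sub_self, pow_zero, mul_one]
    rw [Valuation.map_add_eq_of_lt_right, map_pow]
    rw [map_pow]
    have hy0 : (0 : WithZero (Multiplicative ℤ)) < P.1 y := lt_trans zero_lt_one hgt
    refine Valuation.map_sum_lt _ (pow_ne_zero _ hy0.ne') fun i hi => ?_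
    rw [Finset.mem_range] at hi
    refine lt_of_le_of_lt (v_smul_le P _ _) ?_
    rw [map_mul, map_pow, map_pow]
    calc P.1 y ^ i * P.1 x ^ (N - i) < P.1 y ^ i * P.1 y ^ (N - i) :=
          (mul_lt_mul_iff_right₀ (pow_pos hy0 i)).2 (pow_lt_pow_left₀ hxy' zero_le' (by omega))
      _ = P.1 y ^ N := by rw [← pow_add, show i + (N - i) = N by omega]
  · rw [max_eq_left hyx] at hgt ⊢
    have hx0' : (0 : WithZero (Multiplicative ℤ)) < P.1 x := lt_trans zero_lt_one hgt
    have hx0 : x ≠ 0 := fun h0 => by simp [h0] at hx0'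
    have ht : P.1 (y / x) ≤ 1 := by
      rw [map_div₀, div_le_one₀ hx0']; exact hyx
    have hsum : ∑ i ∈ Finset.range (N + 1), h.coeff i • (y ^ i * x ^ (N - i)) = x ^ N * aeval (y / x) h := by
      rw [aeval_eq_sum_range, Finset.mul_sum]
      refine Finset.sum_congr rfl fun i hi => ?_
      rw [Finset.mem_range] at hi
      rw [mul_smul_comm, _root_.div_pow]
      congr 1
      have key : ∀ M, i ≤ M → y ^ i * x ^ (M - i) = x ^ M * (y ^ i / x ^ i) := fun M hM => by
        obtain ⟨e, rfl⟩ := Nat.exists_eq_add_of_le hM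
        rw [Nat.add_sub_cancel_left, pow_add]
        field_simp
      exact key N (Nat.lt_succ_iff.1 hi)
    rw [hsum, map_mul, map_pow]
    have hle : ∀ p : k[X], P.1 (aeval (y / x) p) ≤ 1 := fun p => by
      rw [aeval_eq_sum_range]
      refine Valuation.map_sum_le _ fun i _ => (v_smul_le P _ _).trans ?_
      rw [map_pow]; exact pow_le_one₀ zero_le' ht
    have hsm : P.1 (aeval (y / x) (X * ∏ Q ∈ S, mP Q)) < 1 := by
      have hPS : P ∈ S := Finsupp.mem_support_iff.2 hP
      rw [← Finset.mul_prod_erase S _ hPS, ← mul_assoc, mul_comm X (mP P), mul_assoc, map_mul, map_mul]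
      exact lt_of_le_of_lt (mul_le_of_le_one_right' (hle _)) (hsmall P ht)
    rw [hh, map_add, map_one, Valuation.map_one_add_of_lt _ hsm, mul_one]

variable (hK : IsFunctionField k K) (hxy : IntermediateField.adjoin k ({x, y} : Set K) = ⊤)

include hK hxy

/-- The poles of a plane model are at most the degree of its equation. -/
theorem deg_mapDiv_le {f : MvPolynomial (Fin 2) k} (hf : Irreducible f) (hfxy : MvPolynomial.aeval ![x, y] f = 0) :
    (Emd).deg ≤ f.totalDegree := by
  classical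
  set a := f.totalDegree with ha
  have hφ := proper_xy (k := k) x y hK
  obtain ⟨N, w, hN, hwmem, hw⟩ := exists_pole_element x y hK
  have hle : ∀ P : Place k K, P.1 w ≤ WithZero.exp ((N : ℤ) * Emd P) := fun P => by
    have h := pow_le_L hφ N hwmem P
    simpa using h
  have hpos := one_le_deg_mapDiv x y hK hxy
  obtain ⟨P₀, hP₀⟩ : ∃ P, Emd P ≠ 0 := by
    by_contra hcon
    push Not at hcon
    rw [show Emd = 0 from Finsupp.ext hcon] at hpos
    simp [Divisor.deg] at hpos
  have hwP : ∀ P, Emd P ≠ 0 → w ≠ 0 ∧ P.ord w = -((N : ℤ) * Emd P) := by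
    intro P hP
    have h := hw P hP
    rw [← WithZero.exp_nsmul, nsmul_eq_mul] at h
    have h0 : w ≠ 0 := fun h0 => by rw [h0, map_zero] at h; exact WithZero.exp_ne_zero h.symm
    exact ⟨h0, (ord_eq_iff P h0).2 (by rw [neg_neg]; exact h)⟩
  obtain ⟨hw0, hwo⟩ := hwP P₀ hP₀
  have hwt : Transcendental k w := transcendental_of_not_mem hK fun ⟨c, hc⟩ => by
    rw [← hc, ord_algebraMap] at hwo
    rcases mul_eq_zero.1 (neg_eq_zero.1 hwo.symm) with h | h
    · omega
    · exact hP₀ h
  have hwi : Transcendental k w⁻¹ := fun h => hwt (by simpa using h.inv)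
  have hzero : zeros (k := k) w⁻¹ = (N : ℤ) • Emd := by
    ext P
    rw [zeros_apply hK, ord_inv, Finsupp.smul_apply, smul_eq_mul]
    by_cases hP : Emd P = 0
    · rw [hP, mul_zero, max_eq_right]
      have h := (v_le_exp_iff P hw0).1 (hle P)
      rw [hP, mul_zero] at h
      omega
    · rw [(hwP P hP).2, neg_neg, max_eq_left]
      exact mul_nonneg (Int.natCast_nonneg N) (mapDiv_nonneg x y hK P)
  have hr : (Module.finrank k⟮w⟯ K : ℤ) = N * (Emd).deg := by
    rw [← adjoin_inv, ← deg_zeros hK hwi, hzero, deg_smul]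
  haveI := finiteDimensional_adjoin hK hwt
  set r := Module.finrank k⟮w⟯ K with hrdef
  set T : Set K := (Submonoid.closure ({x, y} : Set K) : Set K)
  have hspan : Submodule.span k⟮w⟯ T = ⊤ := by
    have h1 : IntermediateField.adjoin k⟮w⟯ ({x, y} : Set K) = ⊤ := by
      refine IntermediateField.restrictScalars_injective k ?_
      rw [IntermediateField.restrictScalars_top, eq_top_iff, ← hxy, IntermediateField.adjoin_le_iff]
      exact fun z hz => IntermediateField.subset_adjoin _ _ hz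
    have h2 := IntermediateField.adjoin_toSubalgebra_of_isAlgebraic (F := k⟮w⟯) (S := ({x, y} : Set K))
      fun z _ => Algebra.IsAlgebraic.isAlgebraic z
    rw [← Algebra.adjoin_eq_span, ← h2, h1]
    rfl
  obtain ⟨b, hbT, hbspan, hbli⟩ := exists_linearIndependent k⟮w⟯ T
  haveI : Fintype b := hbli.setFinite.fintype
  have hcard : Fintype.card b = r := by
    let B := Module.Basis.mk hbli (by rw [Subtype.range_coe, hbspan, hspan])
    exact (Module.finrank_eq_card_basis B).symm
  have hT : ∀ z ∈ T, ∃ n : ℕ, z ∈ (Wxy) ^ n := fun z hz => by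
    induction hz using Submonoid.closure_induction with
    | mem z hz =>
      rcases hz with rfl | rfl
      exacts [⟨1, by rw [pow_one]; exact Submodule.subset_span ⟨1, rfl⟩⟩,
        ⟨1, by rw [pow_one]; exact Submodule.subset_span ⟨2, rfl⟩⟩]
    | one => exact ⟨0, by rw [pow_zero]; exact Submodule.one_le.1 le_rfl⟩
    | mul u v _ _ hu hv =>
      obtain ⟨p, hp⟩ := hu
      obtain ⟨q, hq⟩ := hv
      exact ⟨p + q, by rw [pow_add]; exact Submodule.mul_mem_mul hp hq⟩
  choose n hn using fun z : b => hT z.1 (hbT z.2)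
  set c := ∑ z, n z with hc
  set M := 2 * c * a + 3 * a + a + 1 with hM
  set m := c + N * M with hm
  clear_value M m c
  have hpow : LinearIndependent k (fun j : Fin (M + 1) => (IntermediateField.AdjoinSimple.gen k w) ^ (j : ℕ)) := by
    have hgt : Transcendental k (IntermediateField.AdjoinSimple.gen k w) := fun h =>
      hwt (h.algHom k⟮w⟯.val)
    have h := (Polynomial.basisMonomials k).linearIndependent.map'
      (Polynomial.aeval (IntermediateField.AdjoinSimple.gen k w)).toLinearMap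
      (LinearMap.ker_eq_bot.2 (transcendental_iff_injective.1 hgt))
    have e : (fun l : ℕ => (IntermediateField.AdjoinSimple.gen k w) ^ l) =
        ⇑(Polynomial.aeval (IntermediateField.AdjoinSimple.gen k w)).toLinearMap ∘
          ⇑(Polynomial.basisMonomials k) := by
      funext l; simp [Polynomial.coe_basisMonomials]
    rw [← e] at h
    exact h.comp _ Fin.val_injective
  have hmem : ∀ p : Fin (M + 1) × b,
      (IntermediateField.AdjoinSimple.gen k w) ^ (p.1 : ℕ) • (p.2 : K) ∈ (Wxy) ^ m := fun p => by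
    rw [IntermediateField.smul_def, smul_eq_mul, SubmonoidClass.coe_pow]
    have h := Submodule.mul_mem_mul (Submodule.pow_mem_pow _ hwmem (p.1 : ℕ)) (hn p.2)
    rw [← pow_mul, ← pow_add] at h
    refine pow_mono_span x y ?_ h
    have h1 : n p.2 ≤ c := (Finset.single_le_sum (f := n) (fun _ _ => Nat.zero_le _) (Finset.mem_univ _)).trans hc.ge
    have h2 : N * (p.1 : ℕ) ≤ N * M := Nat.mul_le_mul_left _ (Nat.lt_succ_iff.1 p.1.isLt)
    omega
  haveI := finite_pow x y hK m
  have hsm := linearIndependent_smul hpow hbli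
  have hbound := Submodule.finrank_mono
    (Submodule.span_le.2 (Set.range_subset_iff.2 hmem) :
      Submodule.span k (Set.range fun p : Fin (M + 1) × b =>
        (IntermediateField.AdjoinSimple.gen k w) ^ (p.1 : ℕ) • (p.2 : K)) ≤ (Wxy) ^ m)
  rw [finrank_span_eq_card hsm, Fintype.card_prod, Fintype.card_fin, hcard] at hbound
  have h2 := two_mul_finrank_pow x y hK hxy hf hfxy (m := m) (by
    have : a ≤ N * M := le_trans (by omega) (Nat.le_mul_of_pos_left M (by omega))
    omega)
  rw [← ha] at h2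
  have hb' : ((M : ℤ) + 1) * r ≤ (Module.finrank k ↥((Wxy) ^ m) : ℤ) := by exact_mod_cast hbound
  by_contra hlt
  push Not at hlt
  have h3 : (N : ℤ) * ((a : ℤ) + 1) ≤ r := by
    rw [hr]; exact mul_le_mul_of_nonneg_left (by omega) (by positivity)
  have h4 : ((M : ℤ) + 1) * ((N : ℤ) * ((a : ℤ) + 1)) ≤ ((M : ℤ) + 1) * r :=
    mul_le_mul_of_nonneg_left h3 (by positivity)
  have hM' : (M : ℤ) = 2 * c * a + 3 * a + a + 1 := by rw [hM]; push_cast; ring
  have hm' : (m : ℤ) = c + N * M := by rw [hm]; push_cast; ring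
  rw [hm'] at h2
  nlinarith [sq_nonneg (a : ℤ), mul_le_mul_of_nonneg_left (show (1 : ℤ) ≤ N by exact_mod_cast hN)
    (show (0 : ℤ) ≤ 2 * ((M : ℤ) + 1) by positivity)]

/-- The genus of a plane model. -/
theorem genus_le {f : MvPolynomial (Fin 2) k} (hf : Irreducible f) (hfxy : MvPolynomial.aeval ![x, y] f = 0) :
    2 * (genus k K : ℤ) ≤ ((f.totalDegree : ℤ) - 1) * ((f.totalDegree : ℤ) - 2) := by
  set m := f.totalDegree + 2 * genus k K with hm
  have hpos := one_le_deg_mapDiv x y hK hxy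
  have h1 := two_mul_finrank_pow x y hK hxy hf hfxy (m := m) (by omega)
  have h2 := finrank_pow_le_ell x y hK m
  have hle : (m : ℤ) * 1 ≤ (m : ℤ) * (Emd).deg := mul_le_mul_of_nonneg_left hpos (by positivity)
  have h3 := ell_of_deg_large hK (D := (m : ℤ) • Emd) (by rw [deg_smul]; omega)
  rw [deg_smul] at h3
  have h4 : (m : ℤ) * (Emd).deg ≤ (m : ℤ) * f.totalDegree :=
    mul_le_mul_of_nonneg_left (deg_mapDiv_le x y hK hxy hf hfxy) (by positivity)
  have h2' : (Module.finrank k ↥((Wxy) ^ m) : ℤ) ≤ (ell ((m : ℤ) • Emd) : ℤ) := by exact_mod_cast h2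
  linear_combination 2 * h2' - h1 + 2 * h3 + 2 * h4

/-- The adjoint divisor of a smooth plane model. -/
theorem exists_adjoint {g₀ : MvPolynomial (Fin 2) k} (hg₀ : g₀ ≠ 0) (hxy₀ : MvPolynomial.aeval ![x, y] g₀ = 0)
    {d : ℕ} (hd : g₀.totalDegree ≤ d) (h4 : 4 ≤ d) (hg : 2 * genus k K = (d - 1) * (d - 2)) :
    ∃ D : Divisor k K, D.deg ≤ 2 * (genus k K : ℤ) - 2 ∧ (1 : K) ∈ L D ∧ x ∈ L D ∧ y ∈ L D ∧
      genus k K ≤ ell D := by
  classical
  have hne : RingHom.ker (MvPolynomial.aeval ![x, y] : MvPolynomial (Fin 2) k →ₐ[k] K) ≠ ⊥ := fun hbot =>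
    hg₀ (Ideal.mem_bot.1 (hbot ▸ hxy₀))
  obtain ⟨f, hf', hfp⟩ := Ideal.IsPrime.exists_mem_prime_of_ne_bot (RingHom.ker_isPrime _) hne
  have hf := hfp.irreducible
  have hfxy : MvPolynomial.aeval ![x, y] f = 0 := hf'
  obtain ⟨q, hq⟩ := ker_eq_span x y hK hxy hf hfxy hxy₀
  have had : f.totalDegree ≤ d := by
    refine le_trans ?_ hd
    have hq0 : q ≠ 0 := fun h => hg₀ (by rw [hq, h, mul_zero])
    rw [hq, MvPolynomial.totalDegree_mul_of_isDomain hf.ne_zero hq0]
    omega
  obtain ⟨j, rfl⟩ := Nat.exists_eq_add_of_le h4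
  have hge := genus_le x y hK hxy hf hfxy
  have hg' : 2 * (genus k K : ℤ) = ((j : ℤ) + 3) * ((j : ℤ) + 2) := by
    rw [show 4 + j - 1 = j + 3 by omega, show 4 + j - 2 = j + 2 by omega] at hg
    exact_mod_cast hg
  have hlow : j + 1 < f.totalDegree := by
    by_contra hcon
    push Not at hcon
    rcases Nat.eq_zero_or_pos f.totalDegree with h | h
    · rw [h] at hge; push_cast at hge; nlinarith
    · have h5 : (f.totalDegree : ℤ) ≤ (j : ℤ) + 1 := by exact_mod_cast hcon
      have h6 : (1 : ℤ) ≤ (f.totalDegree : ℤ) := by exact_mod_cast h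
      nlinarith
  set m := j + 1 with hm
  have hφ := proper_xy (k := k) x y hK
  refine ⟨(m : ℤ) • Emd, ?_, ?_, ?_, ?_, ?_⟩
  · rw [deg_smul]
    have h5 : (Emd).deg ≤ (j : ℤ) + 4 := by
      have := deg_mapDiv_le x y hK hxy hf hfxy
      omega
    have h6 : (m : ℤ) * (Emd).deg ≤ (m : ℤ) * ((j : ℤ) + 4) := mul_le_mul_of_nonneg_left h5 (by positivity)
    push_cast [hm] at h6 ⊢
    nlinarith
  · exact pow_le_L hφ m (pow_mono_span x y (Nat.zero_le m) (by rw [pow_zero]; exact Submodule.one_le.1 le_rfl))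
  · exact pow_le_L hφ m (pow_mono_span x y (show 1 ≤ m by omega)
      (by rw [pow_one]; exact Submodule.subset_span ⟨1, rfl⟩))
  · exact pow_le_L hφ m (pow_mono_span x y (show 1 ≤ m by omega)
      (by rw [pow_one]; exact Submodule.subset_span ⟨2, rfl⟩))
  · refine le_trans ?_ (finrank_pow_le_ell x y hK m)
    haveI := (two_mul_finrank_restrict (k := k) m).1
    have hinj : Function.Injective (((MvPolynomial.aeval ![x, y] : MvPolynomial (Fin 2) k →ₐ[k] K).toLinearMap).domRestrict
        (MvPolynomial.restrictTotalDegree (Fin 2) k m)) := by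
      rw [← LinearMap.ker_eq_bot, LinearMap.ker_eq_bot']
      rintro ⟨p, hp⟩ hp0
      obtain ⟨q', rfl⟩ := ker_eq_span x y hK hxy hf hfxy (g := p) hp0
      rw [MvPolynomial.mem_restrictTotalDegree] at hp
      refine Subtype.ext ?_
      by_contra hne'
      have hq0 : q' ≠ 0 := fun h => hne' (by rw [ZeroMemClass.coe_zero]; simp [h])
      rw [MvPolynomial.totalDegree_mul_of_isDomain hf.ne_zero hq0] at hp
      omega
    have hr := LinearMap.finrank_range_of_inj hinj
    rw [LinearMap.range_domRestrict, ← pow_eq_map x y m] at hr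
    have h2 := (two_mul_finrank_restrict (k := k) m).2
    rw [← hr] at h2
    have h7 : 2 * (genus k K : ℤ) = ((m : ℤ) + 1) * ((m : ℤ) + 2) := by rw [hg', hm]; push_cast; ring
    have h8 : 2 * (Module.finrank k ↥((Wxy) ^ m) : ℤ) = ((m : ℤ) + 1) * ((m : ℤ) + 2) := by exact_mod_cast h2
    omega

omit hxy in
/-- Two `g`-dimensional systems of degree `2g - 2` are proportional. -/
theorem exists_mul_eq_canonical {C : Divisor k K} (hC : IsCanonical k K C) (hg1 : 1 ≤ genus k K)
    {D : Divisor k K} (hdeg : D.deg ≤ 2 * (genus k K : ℤ) - 2) {V : Submodule k K} (hV : V ≤ L D)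
    (hdim : genus k K ≤ Module.finrank k V) :
    ∃ z : K, z ≠ 0 ∧ V.map (LinearMap.mulLeft k z) = L C := by
  haveI := finite_L hK D
  haveI := finite_L hK C
  have hell : genus k K ≤ ell D := hdim.trans (Submodule.finrank_mono hV)
  have hRR := riemann_roch hK hC D
  obtain ⟨z, hz0, hz⟩ := exists_ne_zero_of_ell_pos (D := C - D) (by omega)
  refine ⟨z, hz0, Submodule.eq_of_le_of_finrank_le ?_ ?_⟩
  · rintro _ ⟨v, hv, rfl⟩
    have := mul_mem_L hz (hV hv)
    rwa [sub_add_cancel] at this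
  · rw [← (Submodule.equivMapOfInjective _ (mul_right_injective₀ hz0) V).finrank_eq]
    exact ((canonical_deg hK hC).1).le.trans hdim

/-- A plane model with an adjoint divisor is contained in every subfield carrying a canonical system. -/
theorem subfield_eq_top (hg1 : 1 ≤ genus k K)
    {D : Divisor k K} (hdeg : D.deg ≤ 2 * (genus k K : ℤ) - 2) (h1 : (1 : K) ∈ L D) (hx : x ∈ L D)
    (hy : y ∈ L D) (hell : genus k K ≤ ell D)
    (F : IntermediateField k K) {B : Divisor k K} (hB : B.deg ≤ 2 * (genus k K : ℤ) - 2)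
    {V : Submodule k K} (hV : V ≤ L B) (hdim : genus k K ≤ Module.finrank k V) (hVF : ∀ v ∈ V, v ∈ F) :
    F = ⊤ := by
  obtain ⟨C, hC⟩ := exists_canonical hK
  obtain ⟨z, hz0, hz⟩ := exists_mul_eq_canonical hK hC hg1 hdeg le_rfl hell
  obtain ⟨z', hz'0, hz'⟩ := exists_mul_eq_canonical hK hC hg1 hB hV hdim
  have key : ∀ a ∈ L D, ∃ v ∈ V, z * a = z' * v := fun a ha => by
    obtain ⟨v, hv, he⟩ := (hz'.symm ▸ hz ▸ ⟨a, ha, rfl⟩ : z * a ∈ V.map (LinearMap.mulLeft k z'))
    exact ⟨v, hv, he.symm⟩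
  obtain ⟨v₀, hv₀, e₀⟩ := key 1 h1
  rw [mul_one] at e₀
  have hv0 : v₀ ≠ 0 := fun h => hz0 (by rw [e₀, h, mul_zero])
  have hmem : ∀ a ∈ L D, a ∈ F := fun a ha => by
    obtain ⟨v, hv, e⟩ := key a ha
    have : a = v / v₀ := by
      rw [eq_div_iff hv0]
      refine mul_left_cancel₀ hz'0 ?_
      rw [← e, e₀]; ring
    rw [this]
    exact div_mem (hVF v hv) (hVF v₀ hv₀)
  rw [eq_top_iff, ← hxy, IntermediateField.adjoin_le_iff]
  rintro _ (rfl | rfl)
  exacts [hmem _ hx, hmem _ hy]

end Groth.Agent.CurveFF.PlaneGen
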