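import Groth.Agent.CurveFF.Morph
import Groth.Agent.CurveFF.GenusOneCover
import Groth.Agent.FieldExtLib.Separable
import Groth.Agent.CurveLib.GlobalFun
import Groth.Agent.ASp.PropDescend
import Mathlib.FieldTheory.PurelyInseparable.Basic
import Mathlib.AlgebraicGeometry.Morphisms.UniversallyInjective
import Mathlib.AlgebraicGeometry.Morphisms.Integral

/-!
# Purely inseparable covers of smooth curves are Frobenius twists
-/

set_option autoImplicit false
set_option backward.isDefEq.respectTransparency false
set_option maxHeartbeats 800000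
set_option linter.style.haveILetI false

universe u

open CategoryTheory Limits AlgebraicGeometry TopologicalSpace
open scoped IntermediateField

noncomputable section

namespace Groth.Agent.CurveFF

section FF

variable {k K : Type u} [Field k] [Field K] [Algebra k K] (p : ℕ) [Fact p.Prime] [ExpChar k p]

/-- The field generated by the `p^r`-th powers. -/
abbrev powField (k : Type u) [Field k] (K : Type u) [Field K] [Algebra k K] (q : ℕ) : IntermediateField k K :=
  IntermediateField.adjoin k (Set.range fun y : K => y ^ q)

/-- A subfield with separably generated purely inseparable extension is generated by the powers. -/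
theorem exists_eq_powField {L : IntermediateField k K} [FiniteDimensional L K] [IsPurelyInseparable L K]
    {x : K} (hsep : Algebra.IsSeparable k⟮x⟯ K) : ∃ r : ℕ, L = powField k K (p ^ r) := by
  haveI : ExpChar K p := expChar_of_injective_algebraMap (algebraMap k K).injective p
  haveI : ExpChar L p := expChar_of_injective_algebraMap (algebraMap k L).injective p
  obtain ⟨r, hr⟩ := IsPurelyInseparable.finrank_eq_pow L K p
  set q := p ^ r with hq
  set M := powField k K q with hM
  have hp1 : 1 < p := (Fact.out : p.Prime).one_lt
  haveI : ExpChar M p := expChar_of_injective_algebraMap (algebraMap k M).injective p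
  have hpow : ∀ y : K, y ^ q ∈ M := fun y => IntermediateField.subset_adjoin _ _ ⟨y, rfl⟩
  haveI : IsPurelyInseparable M K :=
    (isPurelyInseparable_iff_pow_mem M p).2 fun y => ⟨r, ⟨_, hpow y⟩, rfl⟩
  have hle : M ≤ L := by
    refine IntermediateField.adjoin_le_iff.2 ?_
    rintro _ ⟨y, rfl⟩
    obtain ⟨n, c, hc⟩ := IsPurelyInseparable.minpoly_eq_X_pow_sub_C L p y
    have hdeg : (minpoly L y).natDegree = p ^ n := by rw [hc, Polynomial.natDegree_sub_C, Polynomial.natDegree_X_pow]
    have hnr : n ≤ r := (Nat.pow_le_pow_iff_right hp1).1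
      ((le_of_eq hdeg.symm).trans ((minpoly.natDegree_le y).trans hr.le))
    have hy : y ^ p ^ n = algebraMap L K c := by
      have := minpoly.aeval L y
      rw [hc, map_sub, map_pow, Polynomial.aeval_X, Polynomial.aeval_C, sub_eq_zero] at this
      exact this
    show y ^ q ∈ L
    rw [hq, ← Nat.add_sub_cancel' hnr, pow_add, pow_mul, hy]
    exact pow_mem c.2 _
  have hgen : IntermediateField.adjoin M ({x} : Set K) = ⊤ := by
    let N := IntermediateField.adjoin M ({x} : Set K)
    letI : Algebra k⟮x⟯ N := (IntermediateField.inclusion (show k⟮x⟯ ≤ N.restrictScalars k from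
      IntermediateField.adjoin_simple_le_iff.2 (IntermediateField.mem_adjoin_simple_self M x))).toRingHom.toAlgebra
    haveI : IsScalarTower k⟮x⟯ N K := .of_algebraMap_eq fun _ => rfl
    haveI : Algebra.IsSeparable N K := Algebra.isSeparable_tower_top_of_isSeparable k⟮x⟯ N K
    refine eq_top_iff.2 fun y _ => ?_
    obtain ⟨z, rfl⟩ := IsPurelyInseparable.surjective_algebraMap_of_isSeparable N K y
    exact z.2
  have hx : IsIntegral M x := Algebra.IsIntegral.isIntegral x
  have hfin : Module.finrank M K ≤ q := by
    rw [← IntermediateField.finrank_top', ← hgen, IntermediateField.adjoin.finrank hx]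
    have h1 : Polynomial.aeval x (Polynomial.X ^ q - Polynomial.C (⟨x ^ q, hpow x⟩ : M)) = 0 := by
      simp
    have hq0 : 0 < q := pow_pos (zero_lt_one.trans hp1) r
    refine le_trans (Polynomial.natDegree_le_of_dvd (minpoly.dvd M x h1) ?_) (le_of_eq Polynomial.natDegree_X_pow_sub_C)
    exact Polynomial.X_pow_sub_C_ne_zero hq0 _
  haveI : FiniteDimensional M K := by
    haveI := IntermediateField.adjoin.finiteDimensional hx
    exact Module.Finite.equiv ((IntermediateField.equivOfEq hgen).trans IntermediateField.topEquiv).toLinearEquiv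
  exact ⟨r, (IntermediateField.eq_of_le_of_finrank_le' hle (hfin.trans hr.ge)).symm⟩

end FF

variable {k : Type u} [Field k] {X : Scheme.{u}} [X.Over (Spec (CommRingCat.of k))] [IsIntegral X]

attribute [local instance] Curv2.stalkAlgebra

/-- Normal curves are regular. -/
theorem isRegCurve_of_normal [IsLocallyNoetherian X] (hdim : topologicalKrullDim X = 1) (hn : Pi1.IsNormalScheme X) :
    VBLib.IsRegCurve X := by
  refine ⟨fun x => ?_⟩
  haveI := (hn x).1
  by_cases hF : IsField (X.presheaf.stalk x)
  · letI := hF.toField
    infer_instance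
  · have h1 : ringKrullDim (X.presheaf.stalk x) ≤ 1 := by
      rw [ringKrullDim_stalk_eq_coheight, ← hdim, ASp.topologicalKrullDim_eq_krullDim]
      exact Order.coheight_le_krullDim x
    have h2 : ringKrullDim (X.presheaf.stalk x) = 1 := by
      refine le_antisymm h1 ?_
      by_contra hlt
      haveI : Ring.KrullDimLE 0 (X.presheaf.stalk x) := Ring.krullDimLE_iff.2 (ENat.WithBot.lt_add_one_iff.1 (by simpa using hlt))
      exact hF Ring.KrullDimLE.isField_of_isReduced
    obtain ⟨hD, hdvr⟩ := NormalSch.isDiscreteValuationRing_stalk hn x h2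
    infer_instance

variable [IsProper (X ↘ Spec (CommRingCat.of k))]

/-- A smooth curve has a separating element. -/
theorem exists_separating_of_smooth [Smooth (X ↘ Spec (CommRingCat.of k))] (hdim : topologicalKrullDim X = 1)
    (p : ℕ) [Fact p.Prime] [ExpChar k p] : ∃ x : X.functionField, Algebra.IsSeparable k⟮x⟯ X.functionField := by
  classical
  haveI := VBLib.isRegCurve_of_smooth (X := X) k hdim.le
  haveI : CharP k p := by
    cases ‹ExpChar k p› with
    | zero => exact absurd (Fact.out : Nat.Prime 1) Nat.not_prime_one
    | prime _ => assumption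
  haveI := EulerIneqLib.isNoetherian_proper (X := X) k
  obtain ⟨x, -, hx⟩ := (isClosed_univ (X := X)).exists_closed_singleton Set.univ_nonempty
  obtain ⟨U, hU, hxU, -⟩ := exists_isAffineOpen_mem_and_subset (x := x) (U := (⊤ : X.Opens)) trivial
  haveI : Nonempty U := ⟨⟨x, hxU⟩⟩
  let A := Γ(X, U)
  let φ : k →+* A := ((X ↘ Spec (CommRingCat.of k)).appLE ⊤ U le_top).hom.comp
    (Scheme.ΓSpecIso (CommRingCat.of k)).inv.hom
  have hφ : φ.Smooth := RingHom.Smooth.respectsIso.2 _ (Scheme.ΓSpecIso (CommRingCat.of k)).symm.commRingCatIsoToRingEquiv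
    (HasRingHomProperty.appLE (P := @Smooth) (X ↘ Spec (CommRingCat.of k)) inferInstance
      ⟨⊤, isAffineOpen_top _⟩ ⟨U, hU⟩ le_top)
  letI : Algebra k A := φ.toAlgebra
  haveI : Algebra.Smooth k A := hφ
  haveI : IsScalarTower k A X.functionField := IsScalarTower.of_algebraMap_eq fun c =>
    (TopCat.Presheaf.germ_res_apply X.presheaf _ _ _ _).symm
  haveI : IsFractionRing A X.functionField := functionField_isFractionRing_of_isAffineOpen X U hU
  haveI : Algebra.EssFiniteType A X.functionField := Algebra.EssFiniteType.of_isLocalization _ (nonZeroDivisors A)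
  haveI : Algebra.EssFiniteType k X.functionField := Algebra.EssFiniteType.comp k A X.functionField
  haveI : Algebra.FormallySmooth A X.functionField := Algebra.FormallySmooth.of_isLocalization (nonZeroDivisors A)
  haveI : Algebra.FormallySmooth k X.functionField := Algebra.FormallySmooth.comp k A X.functionField
  have hdA : ringKrullDim A = 1 := by
    have h1 : ringKrullDim A ≤ 1 := by
      rw [← PrimeSpectrum.topologicalKrullDim_eq_ringKrullDim, ← hdim]
      exact hU.fromSpec.isOpenEmbedding.isInducing.topologicalKrullDim_le
    refine le_antisymm h1 ?_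
    letI := TopCat.Presheaf.algebra_section_stalk X.presheaf (⟨x, hxU⟩ : U)
    haveI := hU.isLocalization_stalk ⟨x, hxU⟩
    rw [← dim_stalk hdim hx,
      IsLocalization.AtPrime.ringKrullDim_eq_height (hU.primeIdealOf ⟨x, hxU⟩).asIdeal (X.presheaf.stalk x)]
    exact Ideal.height_le_ringKrullDim_of_ne_top (Ideal.IsPrime.ne_top inferInstance)
  obtain ⟨m, hm, hmd, -⟩ := RegLocLib.affine_domain_dim k A
  rw [hdA] at hmd
  have hm1 : m = 1 := by exact_mod_cast hmd.symm
  have htr : Algebra.trdeg k X.functionField = 1 := by
    rw [← DimFormulaLib.trdeg_eq_of_isFractionRing (k := k) (D := A) (K := X.functionField),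
      DimFormulaLib.trdeg_eq_of_isFractionRing (k := k) (D := A) (K := FractionRing A), hm, hm1, Nat.cast_one]
  have hpi := (FieldExtLib.isGeometricallyReduced_iff_powIndep p).1
    (FieldExtLib.formallySmooth_iff_isGeometricallyReduced.1 (inferInstance : Algebra.FormallySmooth k X.functionField))
  obtain ⟨s, hs, H⟩ :=
    exists_isTranscendenceBasis_and_isSeparable_of_linearIndepOn_pow_of_essFiniteType
      (k := k) (K := X.functionField) p (Fact.out : p.Prime) hpi
  have hc : s.card = 1 := by
    have h := hs.cardinalMk_eq_trdeg.trans htr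
    simpa using h
  obtain ⟨t, rfl⟩ := Finset.card_eq_one.1 hc
  refine ⟨t, ?_⟩
  rwa [Finset.coe_singleton] at H

end Groth.Agent.CurveFF
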