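import Groth.Agent.CurveFF.Point
import Groth.Agent.CurveLib.SmulPow
import Groth.Agent.CurveLib.Inv
import Groth.Agent.ParaFLib.Stalk
import Groth.Agent.AmpleLib.Tensor

/-!
# Global sections of invertible modules inside the generic stalk
-/

set_option autoImplicit false
set_option backward.isDefEq.respectTransparency false
set_option maxHeartbeats 800000
set_option linter.style.haveILetI false

universe u

open CategoryTheory AlgebraicGeometry TopologicalSpace Opposite IsLocalRing
open Groth.Agent.PullbackMod
open scoped WithZero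

noncomputable section

namespace Groth.Agent.CurveFF

attribute [local instance] Curv2.stalkAlgebra

variable {X : Scheme.{u}} [IsIntegral X]

/-- A germ seen at the generic point. -/
def spec (M : X.Modules) (x : X) : M.presheaf.stalk x →+ M.presheaf.stalk (genericPoint X) :=
  (M.presheaf.stalkSpecializes ((genericPoint_spec X).specializes trivial : genericPoint X ⤳ x)).hom

theorem spec_germ (M : X.Modules) {x : X} {U : X.Opens} (hx : x ∈ U) (hη : genericPoint X ∈ U) (m : Γ(M, U)) :
    spec M x (M.presheaf.germ U x hx m) = M.presheaf.germ U (genericPoint X) hη m :=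
  TopCat.Presheaf.germ_stalkSpecializes_apply M.presheaf (U := U) hx _ m

theorem generic_mem {U : X.Opens} {x : X} (hx : x ∈ U) : genericPoint X ∈ U :=
  ((genericPoint_spec X).mem_open_set_iff U.isOpen).2 ⟨x, trivial, hx⟩

theorem spec_smul (M : X.Modules) (x : X) (r : X.presheaf.stalk x) (z : M.presheaf.stalk x) :
    spec M x (r • z) =
      (algebraMap (X.presheaf.stalk x) X.functionField r : X.presheaf.stalk (genericPoint X)) • spec M x z := by
  obtain ⟨U, hU, m, rfl⟩ := TopCat.Presheaf.exists_germ_eq M.presheaf z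
  obtain ⟨U', hU', a, rfl⟩ := TopCat.Presheaf.exists_germ_eq X.presheaf r
  have hx : x ∈ U ⊓ U' := ⟨hU, hU'⟩
  rw [← TopCat.Presheaf.germ_res_apply M.presheaf (homOfLE (inf_le_left : U ⊓ U' ≤ U)) x hx m,
    ← TopCat.Presheaf.germ_res_apply X.presheaf (homOfLE (inf_le_right : U ⊓ U' ≤ U')) x hx a,
    ← ParaFLib.germ_smul', spec_germ M hx (generic_mem hx), spec_germ M hx (generic_mem hx),
    ParaFLib.germ_smul']
  exact congrArg (· • _) (TopCat.Presheaf.germ_stalkSpecializes_apply X.presheaf (U := U ⊓ U') hx
    ((genericPoint_spec X).specializes trivial) _).symm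

/-- `e` is a basis of the generic stalk. -/
def IsBase (L : X.Modules) (e : L.presheaf.stalk (genericPoint X)) : Prop :=
  Function.Bijective fun r : X.presheaf.stalk (genericPoint X) => r • e

theorem exists_base {L : X.Modules} (hL : PicF.IsInvertible L) : ∃ e, IsBase L e :=
  ParaFLib.exists_stalk_gen hL _

/-- The multiples of `e` coming from the stalk at `x`. -/
def InStalk (L : X.Modules) (e : L.presheaf.stalk (genericPoint X)) (x : X) (f : X.functionField) : Prop :=
  ∃ z, spec L x z = (f : X.presheaf.stalk (genericPoint X)) • e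

theorem exists_inStalk_iff {L : X.Modules} {e : L.presheaf.stalk (genericPoint X)} (he : IsBase L e)
    {W : X.Opens} {t : Γ(L, W)} (ht : ParaFLib.Gen W t) {x : X} (hx : x ∈ W) :
    ∃ a : X.functionField, a ≠ 0 ∧
      L.presheaf.germ W (genericPoint X) (generic_mem hx) t = (a : X.presheaf.stalk (genericPoint X)) • e := by
  obtain ⟨a, ha⟩ := he.2 (L.presheaf.germ W (genericPoint X) (generic_mem hx) t)
  refine ⟨a, fun h0 => ?_, ha.symm⟩
  have h1 := (ht.bijective_germ (genericPoint X) (generic_mem hx)).1
  refine one_ne_zero (α := X.presheaf.stalk (genericPoint X)) (h1 ?_)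
  show _ • _ = _ • _
  rw [← ha]
  show (1 : X.presheaf.stalk (genericPoint X)) • (a • e) = (0 : X.presheaf.stalk (genericPoint X)) • (a • e)
  rw [h0, zero_smul, smul_zero, smul_zero]

theorem inStalk_iff {L : X.Modules} {e : L.presheaf.stalk (genericPoint X)} (he : IsBase L e)
    {W : X.Opens} {t : Γ(L, W)} (ht : ParaFLib.Gen W t) {x : X} (hx : x ∈ W) {a : X.functionField}
    (ha : L.presheaf.germ W (genericPoint X) (generic_mem hx) t = (a : X.presheaf.stalk (genericPoint X)) • e)
    (f : X.functionField) :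
    InStalk L e x f ↔ ∃ r, algebraMap (X.presheaf.stalk x) X.functionField r * a = f := by
  constructor
  · rintro ⟨z, hz⟩
    obtain ⟨r, rfl⟩ := (ht.bijective_germ x hx).2 z
    refine ⟨r, he.1 ?_⟩
    show _ • e = _ • e
    rw [← hz, spec_smul, spec_germ L hx (generic_mem hx), ha, smul_smul]
  · rintro ⟨r, rfl⟩
    refine ⟨r • L.presheaf.germ W x hx t, ?_⟩
    rw [spec_smul, spec_germ L hx (generic_mem hx), ha, smul_smul]

/-- A family of local multiples of `e` comes from a global section. -/
theorem exists_section {L : X.Modules} (hL : PicF.IsInvertible L) {e : L.presheaf.stalk (genericPoint X)}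
    (f : X.functionField) (hf : ∀ x, InStalk L e x f) :
    ∃ σ : Γ(L, ⊤), L.presheaf.germ ⊤ (genericPoint X) trivial σ = (f : X.presheaf.stalk (genericPoint X)) • e := by
  have h : ∀ x : X, ∃ (U : X.Opens) (_ : x ∈ U) (m : Γ(L, U)),
      ∀ hη, L.presheaf.germ U (genericPoint X) hη m = (f : X.presheaf.stalk (genericPoint X)) • e := fun x => by
    obtain ⟨z, hz⟩ := hf x
    obtain ⟨U, hU, m, rfl⟩ := TopCat.Presheaf.exists_germ_eq L.presheaf z
    exact ⟨U, hU, m, fun hη => (spec_germ L hU hη m).symm.trans hz⟩
  choose U hU m hm using h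
  let F : TopCat.Sheaf Ab X := ⟨L.presheaf, L.isSheaf⟩
  obtain ⟨σ, hσ, -⟩ := F.existsUnique_gluing' U ⊤ (fun x => homOfLE le_top)
    (fun x _ => Opens.mem_iSup.2 ⟨x, hU x⟩) m (fun i j => by
      refine sub_eq_zero.1 (ParaFLib.eq_zero_of_germ_generic hL _ fun hη => ?_)
      rw [map_sub, sub_eq_zero]
      refine (TopCat.Presheaf.germ_res_apply L.presheaf _ _ hη _).trans
        (Eq.trans ?_ (TopCat.Presheaf.germ_res_apply L.presheaf _ _ hη _).symm)
      rw [hm i hη.1, hm j hη.2])
  refine ⟨σ, ?_⟩
  rw [← hm (genericPoint X) (hU _), ← hσ (genericPoint X)]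
  exact (TopCat.Presheaf.germ_res_apply L.presheaf _ _ (hU _) σ).symm

variable (k : Type u) [Field k] [X.Over (Spec (CommRingCat.of k))]

/-- Multiples of `e` coming from every stalk. -/
def sectSpace (L : X.Modules) (e : L.presheaf.stalk (genericPoint X)) : Submodule k X.functionField where
  carrier := {f | ∀ x, InStalk L e x f}
  add_mem' {f g} hf hg x := by
    obtain ⟨a, ha⟩ := hf x
    obtain ⟨b, hb⟩ := hg x
    exact ⟨a + b, by rw [map_add, ha, hb, ← add_smul]⟩
  zero_mem' x := ⟨0, by rw [map_zero]; exact (zero_smul _ _).symm⟩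
  smul_mem' c f hf x := by
    obtain ⟨a, ha⟩ := hf x
    refine ⟨Curv2.stalkMap k X x c • a, ?_⟩
    rw [spec_smul, ha, smul_smul, Algebra.smul_def]
    exact congrArg (fun w : X.presheaf.stalk (genericPoint X) => (w * f) • e) (algebraMap_stalkMap x c)

variable [IsProper (X ↘ Spec (CommRingCat.of k))]

/-- Global sections are the multiples of `e` coming from every stalk. -/
theorem finrank_H0_eq {L : X.Modules} (hL : PicF.IsInvertible L) {e : L.presheaf.stalk (genericPoint X)}
    (he : IsBase L e) : Module.finrank k (Coh.HH X L 0) = Module.finrank k (sectSpace k L e) := by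
  let η := genericPoint X
  let E := Equiv.ofBijective _ he
  have hE : ∀ w, (E.symm w : X.presheaf.stalk η) • e = w := fun w => E.apply_symm_apply w
  have hmem : ∀ σ : Γ(L, ⊤), (E.symm (L.presheaf.germ ⊤ η trivial σ) : X.functionField) ∈ sectSpace k L e :=
    fun σ x => ⟨L.presheaf.germ ⊤ x trivial σ, by rw [spec_germ L (U := ⊤) trivial trivial, hE]⟩
  let Φ : Coh.HH X L 0 →ₗ[k] sectSpace k L e :=
    { toFun := fun c => ⟨_, hmem (CurveLib.secOf L c)⟩
      map_add' := fun a b => Subtype.ext (he.1 (by
        show _ • e = (_ + _ : X.presheaf.stalk η) • e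
        rw [add_smul, hE, hE, hE, map_add, map_add]))
      map_smul' := fun c a => Subtype.ext (he.1 (by
        show _ • e = ((c • E.symm (L.presheaf.germ ⊤ η trivial (CurveLib.secOf L a)) : X.functionField) :
          X.presheaf.stalk η) • e
        rw [hE, CurveLib.secOf_smul, ParaFLib.germ_smul', Algebra.smul_def]
        exact (congrArg (Curv2.stalkMap k X η c • ·) (hE _).symm).trans (smul_smul _ _ _))) }
  refine (LinearEquiv.ofBijective Φ ⟨fun a b h => (CurveLib.secOf L).injective ?_, fun f => ?_⟩).finrank_eq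
  · refine sub_eq_zero.1 (ParaFLib.eq_zero_of_germ_generic hL _ fun hη => ?_)
    rw [map_sub, sub_eq_zero]
    exact E.symm.injective (congrArg Subtype.val h)
  · obtain ⟨σ, hσ⟩ := exists_section hL f.1 f.2
    refine ⟨(CurveLib.secOf L).symm σ, Subtype.ext (he.1 ?_)⟩
    show (E.symm (L.presheaf.germ ⊤ η trivial (CurveLib.secOf L ((CurveLib.secOf L).symm σ))) : X.presheaf.stalk η) • e = _
    rw [hE, AddEquiv.apply_symm_apply, hσ]

end Groth.Agent.CurveFF
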