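import Groth.Agent.CurveFF.Radicial
import Groth.Agent.CurveFF.HypChart
import Mathlib.RingTheory.Unramified.Field
import Mathlib.RingTheory.Kaehler.Basic

/-!
# Fibres of a separable function
-/

set_option autoImplicit false
set_option backward.isDefEq.respectTransparency false
set_option maxHeartbeats 1600000
set_option linter.style.haveILetI false

universe u

open CategoryTheory Limits AlgebraicGeometry TopologicalSpace
open scoped IntermediateField

noncomputable section

namespace Groth.Agent.CurveFF.SepFibre

attribute [local instance] Curv2.stalkAlgebra Curv2.resAlgebra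
attribute [local instance high] FunFld.Place.algRes

/-- The differentials of a function field are spanned by that of a separating element. -/
theorem D_mem_span {k K : Type u} [Field k] [Field K] [Algebra k K] {x : K} (hsep : Algebra.IsSeparable k⟮x⟯ K)
    (y : K) : KaehlerDifferential.D k K y ∈ Submodule.span K {KaehlerDifferential.D k K x} := by
  classical
  set N := Submodule.span K {KaehlerDifferential.D k K x}
  let d₀ : Derivation k K (Ω[K⁄k] ⧸ N) := N.mkQ.compDer (KaehlerDifferential.D k K)
  let F₀ : IntermediateField k K :=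
    { carrier := {c | d₀ c = 0}
      add_mem' := fun {a b} ha hb => by
        show d₀ (a + b) = 0
        rw [map_add, show d₀ a = 0 from ha, show d₀ b = 0 from hb, add_zero]
      mul_mem' := fun {a b} ha hb => by
        show d₀ (a * b) = 0
        rw [Derivation.leibniz, show d₀ a = 0 from ha, show d₀ b = 0 from hb, smul_zero, smul_zero, add_zero]
      one_mem' := d₀.map_one_eq_zero
      zero_mem' := map_zero d₀
      algebraMap_mem' := fun c => d₀.map_algebraMap c
      inv_mem' := fun a ha => by
        show d₀ a⁻¹ = 0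
        rcases eq_or_ne a 0 with rfl | h
        · simp
        rw [Derivation.leibniz_inv, show d₀ a = 0 from ha, smul_zero] }
  have hx : x ∈ F₀ := by
    show d₀ x = 0
    exact (Submodule.Quotient.mk_eq_zero N).2 (Submodule.mem_span_singleton_self _)
  have hle : k⟮x⟯ ≤ F₀ := IntermediateField.adjoin_simple_le_iff.2 hx
  let d₁ : Derivation k⟮x⟯ K (Ω[K⁄k] ⧸ N) := Derivation.mk'
    { toFun := d₀
      map_add' := map_add d₀
      map_smul' := fun c z => by
        show d₀ ((c : K) * z) = c • d₀ z
        rw [Derivation.leibniz, show d₀ (c : K) = 0 from hle c.2, smul_zero, add_zero]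
        rfl }
    (fun a b => d₀.leibniz a b)
  haveI : Algebra.FormallyUnramified k⟮x⟯ K := Algebra.FormallyUnramified.of_isSeparable k⟮x⟯ K
  have h0 : d₁ = 0 := by
    rw [← Derivation.liftKaehlerDifferential_comp d₁]
    ext z
    show d₁.liftKaehlerDifferential (KaehlerDifferential.D k⟮x⟯ K z) = 0
    rw [Subsingleton.elim (KaehlerDifferential.D k⟮x⟯ K z) 0, map_zero]
  exact (Submodule.Quotient.mk_eq_zero N).1 (congr($h0 y) : d₁ y = 0)

variable {k : Type u} [Field k] {X : Scheme.{u}} [X.Over (Spec (CommRingCat.of k))]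
  [IsProper (X ↘ Spec (CommRingCat.of k))] [IsIntegral X] [VBLib.IsRegCurve X]
  [Smooth (X ↘ Spec (CommRingCat.of k))] (hdim : topologicalKrullDim X = 1)
  (h0 : Module.finrank k (Coh.HH X (Coh.structureModule X) 0) = 1)

include h0 in
/-- Over a nonempty open set the fibres of a separable function over rational values are separable. -/
theorem exists_open (x : X.functionField) (hsep : Algebra.IsSeparable k⟮x⟯ X.functionField) :
    ∃ U : X.Opens, genericPoint X ∈ U ∧ ∀ (y : X) (hy : IsClosed ({y} : Set X)), y ∈ U → ∀ c : k,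
      (placeOf k hdim y hy).1 (x - algebraMap k X.functionField c) < 1 →
        Algebra.IsSeparable k (X.residueField y) := by
  classical
  obtain ⟨V₀, hV₀, m₀, hm₀⟩ := X.presheaf.exists_germ_eq (show X.presheaf.stalk (genericPoint X) from x)
  obtain ⟨U, hU, hηU, hUV⟩ := exists_isAffineOpen_mem_and_subset (x := genericPoint X) (U := V₀) hV₀
  haveI : Nonempty U := ⟨⟨_, hηU⟩⟩
  let φ : k →+* Γ(X, U) := ((X ↘ Spec (CommRingCat.of k)).appLE ⊤ U le_top).hom.comp
    (Scheme.ΓSpecIso (CommRingCat.of k)).inv.hom
  have hφ : φ.Smooth := RingHom.Smooth.respectsIso.2 _ (Scheme.ΓSpecIso (CommRingCat.of k)).symm.commRingCatIsoToRingEquiv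
    (HasRingHomProperty.appLE (P := @Smooth) (X ↘ Spec (CommRingCat.of k)) inferInstance
      ⟨⊤, isAffineOpen_top _⟩ ⟨U, hU⟩ le_top)
  letI : Algebra k Γ(X, U) := φ.toAlgebra
  haveI : Algebra.Smooth k Γ(X, U) := hφ
  haveI : IsScalarTower k Γ(X, U) X.functionField := IsScalarTower.of_algebraMap_eq fun c =>
    (TopCat.Presheaf.germ_res_apply X.presheaf _ _ _ _).symm
  haveI : IsFractionRing Γ(X, U) X.functionField := functionField_isFractionRing_of_isAffineOpen X U hU
  set m : Γ(X, U) := X.presheaf.map (homOfLE hUV).op m₀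
  have hm : algebraMap Γ(X, U) X.functionField m = x :=
    (TopCat.Presheaf.germ_res_apply X.presheaf (homOfLE hUV) _ hηU m₀).trans hm₀
  set Q := Ω[Γ(X, U)⁄k] ⧸ Submodule.span Γ(X, U) {KaehlerDifferential.D k Γ(X, U) m}
  have hQ : Module.IsTorsion Γ(X, U) Q := by
    intro q
    obtain ⟨ω, rfl⟩ := Submodule.Quotient.mk_surjective _ q
    set Φ := KaehlerDifferential.map k k Γ(X, U) X.functionField
    have hω : Φ ω ∈ Submodule.span X.functionField {KaehlerDifferential.D k X.functionField x} := by
      have h := (KaehlerDifferential.span_range_derivation k X.functionField).ge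
        (Submodule.mem_top : Φ ω ∈ ⊤)
      refine (Submodule.span_le.2 ?_) h
      rintro _ ⟨z, rfl⟩
      exact D_mem_span hsep z
    obtain ⟨c, hc⟩ := Submodule.mem_span_singleton.1 hω
    obtain ⟨⟨b, s⟩, hbs⟩ := IsLocalization.surj (nonZeroDivisors Γ(X, U)) c
    have hzero : Φ ((s : Γ(X, U)) • ω - b • KaehlerDifferential.D k Γ(X, U) m) = 0 := by
      rw [map_sub, map_smul, map_smul, KaehlerDifferential.map_D, hm, ← hc,
        ← algebraMap_smul X.functionField (s : Γ(X, U)) (c • KaehlerDifferential.D k X.functionField x), smul_smul,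
        ← algebraMap_smul X.functionField b (KaehlerDifferential.D k X.functionField x),
        mul_comm, hbs, sub_self]
    obtain ⟨t, ht⟩ := (IsLocalizedModule.eq_zero_iff (nonZeroDivisors Γ(X, U)) Φ).1 hzero
    refine ⟨t * s, (Submodule.Quotient.mk_eq_zero _).2 ?_⟩
    rw [smul_sub, sub_eq_zero] at ht
    show (((t * s : nonZeroDivisors Γ(X, U)) : Γ(X, U))) • ω ∈ _
    rw [Submonoid.coe_mul, mul_smul]
    simp only [Submonoid.smul_def] at ht
    rw [ht]
    exact Submodule.smul_mem _ _ (Submodule.smul_mem _ _ (Submodule.mem_span_singleton_self _))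
  obtain ⟨a, haQ, ha⟩ := Submodule.annihilator_top_inter_nonZeroDivisors (R := Γ(X, U)) (M := Q) hQ
  refine ⟨X.basicOpen a, ?_, fun y hy hyU c hc => ?_⟩
  · rw [Scheme.mem_basicOpen _ _ _ hηU]
    have hane : algebraMap Γ(X, U) X.functionField a ≠ 0 :=
      IsFractionRing.to_map_ne_zero_of_mem_nonZeroDivisors ha
    exact hane.isUnit
  have hyU' : y ∈ U := X.basicOpen_le a hyU
  let ev : Γ(X, U) →+* X.residueField y := (X.residue y).hom.comp (X.presheaf.germ U y hyU').hom
  letI : Algebra Γ(X, U) (X.residueField y) := ev.toAlgebra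
  haveI : IsScalarTower k Γ(X, U) (X.residueField y) := IsScalarTower.of_algebraMap_eq fun c =>
    congrArg (X.residue y) (TopCat.Presheaf.germ_res_apply X.presheaf (homOfLE (le_top : U ≤ ⊤)) y hyU' _).symm
  have hea : ev a ≠ 0 := fun h => by
    have hu := ((Scheme.mem_basicOpen _ _ _ hyU').1 hyU).map (X.residue y).hom
    exact hu.ne_zero h
  have hem : ev m = algebraMap k (X.residueField y) c := by
    rw [IsScalarTower.algebraMap_apply k Γ(X, U) (X.residueField y)]
    show ev m = ev (algebraMap k Γ(X, U) c)
    rw [← sub_eq_zero, ← map_sub]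
    set w := X.presheaf.germ U y hyU' (m - algebraMap k Γ(X, U) c)
    have hw : algebraMap (X.presheaf.stalk y) X.functionField w = x - algebraMap k X.functionField c := by
      refine (TopCat.Presheaf.germ_stalkSpecializes_apply X.presheaf hyU'
        ((genericPoint_spec X).specializes trivial) _).trans ?_
      show algebraMap Γ(X, U) X.functionField _ = _
      rw [map_sub, hm, ← IsScalarTower.algebraMap_apply]
    show X.residue y w = 0
    refine (IsLocalRing.residue_eq_zero_iff w).2 ((IsLocalRing.mem_maximalIdeal w).2 fun hu => ?_)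
    obtain ⟨b, hb⟩ := hu.exists_right_inv
    have h1 := congrArg (fun z => (placeOf k hdim y hy).1 (algebraMap (X.presheaf.stalk y) X.functionField z)) hb
    simp only [map_mul, map_one, hw] at h1
    have h2 : (placeOf k hdim y hy).1 (algebraMap (X.presheaf.stalk y) X.functionField b) ≤ 1 :=
      (placeOf_le_one_iff hdim hy _).2 ⟨b, rfl⟩
    exact absurd h1 (ne_of_lt (lt_of_le_of_lt (mul_le_of_le_one_right' h2) hc))
  have hDev : ∀ b, KaehlerDifferential.D k (X.residueField y) (ev b) = 0 := by
    intro b
    have h1 : a • Submodule.Quotient.mk (p := Submodule.span Γ(X, U) {KaehlerDifferential.D k Γ(X, U) m})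
        (KaehlerDifferential.D k Γ(X, U) b) = 0 := Submodule.mem_annihilator.1 haQ _ Submodule.mem_top
    rw [← Submodule.Quotient.mk_smul, Submodule.Quotient.mk_eq_zero] at h1
    obtain ⟨r, hr⟩ := Submodule.mem_span_singleton.1 h1
    have h2 := congrArg (KaehlerDifferential.map k k Γ(X, U) (X.residueField y)) hr
    rw [map_smul, map_smul, KaehlerDifferential.map_D, KaehlerDifferential.map_D] at h2
    change r • KaehlerDifferential.D k (X.residueField y) (ev m) =
      a • KaehlerDifferential.D k (X.residueField y) (ev b) at h2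
    rw [hem, Derivation.map_algebraMap, smul_zero, ← algebraMap_smul (X.residueField y) a] at h2
    exact (smul_eq_zero.1 h2.symm).resolve_left hea
  have hΩ : Subsingleton (Ω[X.residueField y⁄k]) := by
    refine subsingleton_of_forall_eq 0 fun z => ?_
    have hz := (KaehlerDifferential.span_range_derivation k (X.residueField y)).ge (Submodule.mem_top : z ∈ ⊤)
    induction hz using Submodule.span_induction with
    | mem w hw =>
      obtain ⟨e, rfl⟩ := hw
      obtain ⟨v, rfl⟩ := X.residue_surjective y e
      letI := TopCat.Presheaf.algebra_section_stalk X.presheaf (⟨y, hyU'⟩ : U)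
      haveI := hU.isLocalization_stalk ⟨y, hyU'⟩
      obtain ⟨⟨b, s⟩, hbs⟩ := IsLocalization.surj (hU.primeIdealOf ⟨y, hyU'⟩).asIdeal.primeCompl v
      have hs : IsUnit (X.presheaf.germ U y hyU' s.1) := IsLocalization.map_units _ s
      have hs0 : ev s.1 ≠ 0 := (hs.map (X.residue y).hom).ne_zero
      have he : X.residue y v = ev b / ev s.1 := by
        rw [eq_div_iff hs0]
        exact (map_mul (X.residue y).hom v _).symm.trans (congrArg (X.residue y) hbs)
      rw [he, Derivation.leibniz_div, hDev, hDev, smul_zero, smul_zero, sub_zero, smul_zero]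
    | zero => rfl
    | add u v _ _ hu hv => rw [hu, hv, add_zero]
    | smul r u _ hu => rw [hu, smul_zero]
  haveI : Algebra.FormallyUnramified k (X.residueField y) := ⟨hΩ⟩
  haveI : Module.Finite k (X.residueField y) := by
    refine Module.finite_of_finrank_pos ?_
    rw [← deg_placeOf hdim hy]
    exact FF.deg_pos (isFunctionField k hdim h0) _
  exact Algebra.FormallyUnramified.isSeparable k (X.residueField y)

end Groth.Agent.CurveFF.SepFibre
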