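import Groth.Agent.CurveFF.Div
import Groth.Agent.NormHomLib.Normal
import Groth.Agent.IntLib.Push
import Groth.Agent.CurveLib.CurveVanish
import Groth.Agent.QCohLib.Push

/-!
# Arithmetic genus along separable finite maps of normal curves

The traces of the products with constants give a generically surjective map of `f_* O_X` onto a free
module, hence a surjection on `H¹`.
-/

set_option autoImplicit false
set_option backward.isDefEq.respectTransparency false
set_option linter.style.haveILetI false
set_option maxHeartbeats 800000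

universe u

open CategoryTheory CategoryTheory.Limits AlgebraicGeometry TopologicalSpace Opposite
open Groth.Agent.PullbackMod

noncomputable section

namespace Groth.Agent.CurveFF

section Fields

variable {k L K : Type u} [Field k] [Field L] [Field K] [Algebra k L] [Algebra k K] [Algebra L K]
  [IsScalarTower k L K] [Algebra.IsSeparable L K]

omit [Algebra.IsSeparable L K] in
/-- Minimal polynomials over an algebraically closed subfield are kept. -/
theorem minpoly_map_of_closed {k₁ : Type u} [Field k₁] [Algebra k₁ L] [Algebra k₁ K] [IsScalarTower k₁ L K]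
    (hcl : ∀ y : L, IsIntegral k₁ y → y ∈ Set.range (algebraMap k₁ L)) {x : K} (hx : IsIntegral k₁ x) :
    minpoly L x = (minpoly k₁ x).map (algebraMap k₁ L) := by
  have hxL : IsIntegral L x := hx.tower_top
  have hd := minpoly.dvd_map_of_isScalarTower k₁ L x
  obtain ⟨g, hg⟩ := Polynomial.mem_lifts _ |>.1
    (integralClosure.mem_lifts_of_monic_of_dvd_map L (minpoly.monic hx) (minpoly.monic hxL) hd)
  have hcoef : ∀ n, (minpoly L x).coeff n ∈ Set.range (algebraMap k₁ L) := fun n => by
    refine hcl _ ?_
    rw [← hg, Polynomial.coeff_map]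
    exact (g.coeff n).2
  obtain ⟨h, hh, hdeg, hmon⟩ := Polynomial.lifts_and_degree_eq_and_monic
    ((Polynomial.lifts_iff_coeff_lifts _).2 hcoef) (minpoly.monic hxL)
  rw [← hh]
  refine congrArg (Polynomial.map (algebraMap k₁ L)) (minpoly.eq_of_irreducible_of_monic ?_ ?_ hmon).symm.symm
  · exact hmon.irreducible_of_irreducible_map (algebraMap k₁ L) h (hh ▸ minpoly.irreducible hxL)
  · have := minpoly.aeval L x
    rwa [← hh, Polynomial.aeval_map_algebraMap] at this

/-- Constants of a separable extension contain a family independent over the smaller field with as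
many elements as the degree of the extension of constants. -/
theorem exists_constants [FiniteDimensional k (algebraicClosure k K)] :
    ∃ (m : ℕ) (c : Fin m → K), 0 < m ∧ (∀ j, IsIntegral k (c j)) ∧ LinearIndependent L c ∧
      Module.finrank k (algebraicClosure k K) = m * Module.finrank k (algebraicClosure k L) := by
  let k₁ := algebraicClosure k L
  have hcl : ∀ y : L, IsIntegral k₁ y → y ∈ Set.range (algebraMap k₁ L) := fun y hy =>
    ⟨⟨y, isIntegral_trans (R := k) (A := k₁) y hy⟩, rfl⟩
  let K₁ := algebraicClosure k₁ K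
  have hmem : ∀ x : K, x ∈ K₁.restrictScalars k ↔ x ∈ algebraicClosure k K := fun x => by
    rw [IntermediateField.mem_restrictScalars, mem_algebraicClosure_iff', mem_algebraicClosure_iff']
    exact ⟨fun h => isIntegral_trans (R := k) (A := k₁) x h, fun h => h.tower_top⟩
  have heq : K₁.restrictScalars k = algebraicClosure k K := IntermediateField.ext hmem
  haveI hfin : FiniteDimensional k (K₁.restrictScalars k) := heq ▸ inferInstance
  haveI : FiniteDimensional k K₁ := hfin
  haveI : FiniteDimensional k₁ K₁ := Module.Finite.of_restrictScalars_finite k k₁ K₁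
  haveI : Algebra.IsSeparable k₁ K₁ := ⟨fun x => by
    have hx : IsIntegral k₁ (x : K) := x.2
    have h := Algebra.IsSeparable.isSeparable L (x : K)
    unfold _root_.IsSeparable at h ⊢
    rw [minpoly_map_of_closed hcl hx, Polynomial.separable_map] at h
    rw [← minpoly.algHom_eq K₁.val K₁.val.injective x]
    exact h⟩
  obtain ⟨α, hα⟩ := Field.exists_primitive_element k₁ K₁
  have hαi : IsIntegral k₁ α := IsIntegral.of_finite k₁ α
  have hαK : IsIntegral k₁ (α : K) := α.2
  refine ⟨(minpoly L (α : K)).natDegree, fun j => (α : K) ^ (j : ℕ), minpoly.natDegree_pos (hαK.tower_top),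
    fun j => ((mem_algebraicClosure_iff').1 ((hmem _).1 α.2)).pow _, linearIndependent_pow (α : K), ?_⟩
  have h1 : (minpoly L (α : K)).natDegree = Module.finrank k₁ K₁ := by
    rw [minpoly_map_of_closed hcl hαK, Polynomial.natDegree_map]
    show (minpoly k₁ (K₁.val α)).natDegree = _
    rw [minpoly.algHom_eq K₁.val K₁.val.injective α, ← IntermediateField.adjoin.finrank hαi, hα,
      IntermediateField.finrank_top']
  rw [h1, ← heq, mul_comm]
  exact (Module.finrank_mul_finrank k k₁ K₁).symm

omit [Algebra k L] [Algebra k K] [IsScalarTower k L K] in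
/-- Traces against an independent family are jointly surjective. -/
theorem surjective_trace_family [FiniteDimensional L K] {m : ℕ} {c : Fin m → K} (hc : LinearIndependent L c) :
    Function.Surjective fun (z : K) (j : Fin m) => Algebra.trace L K (c j * z) := by
  classical
  let T : K →ₗ[L] Fin m → L := LinearMap.pi fun j => (Algebra.trace L K).comp (LinearMap.mulLeft L (c j))
  show Function.Surjective T
  rw [← LinearMap.dualMap_injective_iff, injective_iff_map_eq_zero]
  intro φ hφ
  have hl : ∀ w : Fin m → L, φ w = ∑ j, w j * φ (Pi.single j 1) := fun w => by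
    conv_lhs => rw [pi_eq_sum_univ' w]
    simp [map_sum, map_smul]
  have h0 : ∑ j, φ (Pi.single j 1) • c j = 0 := by
    refine (traceForm_nondegenerate L K).1 _ fun z => ?_
    rw [Algebra.traceForm_apply, Finset.sum_mul, map_sum]
    have := LinearMap.congr_fun hφ z
    rw [LinearMap.dualMap_apply, hl, LinearMap.zero_apply] at this
    refine Eq.trans (Finset.sum_congr rfl fun j _ => ?_) this
    rw [smul_mul_assoc, map_smul, smul_eq_mul, mul_comm]
    rfl
  refine LinearMap.ext fun w => ?_
  rw [hl, LinearMap.zero_apply]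
  exact Finset.sum_eq_zero fun j _ => by rw [Fintype.linearIndependent_iff.1 hc _ h0 j, mul_zero]

end Fields

attribute [local instance] Curv2.stalkAlgebra

variable {k : Type u} [Field k] {X : Scheme.{u}} [X.Over (Spec (CommRingCat.of k))]
  [IsProper (X ↘ Spec (CommRingCat.of k))] [IsIntegral X]

/-- On a normal curve the global functions are the constants of the function field. -/
theorem sectSpace_eq_algebraicClosure (hn : Pi1.IsNormalScheme X) :
    sectSpace k (Coh.structureModule X) (ParaFLib.oneG (genericPoint X)) =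
      (algebraicClosure k X.functionField).toSubalgebra.toSubmodule := by
  haveI : ∀ x : X, IsScalarTower k (X.presheaf.stalk x) X.functionField :=
    fun x => IsScalarTower.of_algebraMap_eq fun c => (algebraMap_stalkMap x c).symm
  haveI := EulerIneqLib.isNoetherian_proper (X := X) k
  haveI hfin : FiniteDimensional k (sectSpace k (Coh.structureModule X) (ParaFLib.oneG (genericPoint X))) := by
    haveI := EulerIneqLib.finite_HH (k := k)
      (CurveLib.isCoh_of_isInvertible (X := X) ParaFLib.isInvertible_structureModule) 0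
    by_contra h
    have h1 := finrank_H0_eq k (ParaFLib.isInvertible_structureModule (X := X)) (ParaFLib.bijective_oneG (genericPoint X))
    rw [Module.finrank_of_not_finite h] at h1
    haveI : Subsingleton (Coh.HH X (Coh.structureModule X) 0) := Module.finrank_zero_iff.1 h1
    have h2 : (1 : Γ(X, ⊤)) = 0 := ((CurveLib.secOf (Coh.structureModule X)).symm).injective (Subsingleton.elim _ _)
    exact one_ne_zero (α := X.presheaf.stalk (genericPoint X))
      (by simpa using congrArg (X.presheaf.germ ⊤ (genericPoint X) trivial) h2)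
  refine le_antisymm (fun f hf => ?_) fun f hf x => ?_
  · let S : Subalgebra k X.functionField :=
      { carrier := {f | ∀ x, InStalk (Coh.structureModule X) (ParaFLib.oneG (genericPoint X)) x f}
        mul_mem' := fun {a b} ha hb x => by
          obtain ⟨a', ha'⟩ := (inStalk_structure_iff x a).1 (ha x)
          obtain ⟨b', hb'⟩ := (inStalk_structure_iff x b).1 (hb x)
          exact (inStalk_structure_iff x _).2 ⟨a' * b', by rw [map_mul, ha', hb']⟩
        add_mem' := fun {a b} ha hb => (sectSpace k _ _).add_mem ha hb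
        algebraMap_mem' := fun c x => (inStalk_structure_iff x _).2 ⟨_, algebraMap_stalkMap x c⟩ }
    show IsIntegral k f
    haveI : FiniteDimensional k S.toSubmodule := hfin
    exact IsIntegral.of_mem_of_fg S (Module.Finite.iff_fg.1 inferInstance) f hf
  · haveI := (hn x).1
    haveI := (hn x).2
    exact (inStalk_structure_iff x f).2
      (IsIntegrallyClosed.isIntegral_iff.1 ((mem_algebraicClosure_iff'.1 hf).tower_top (A := X.presheaf.stalk x)))

theorem h0_eq_finrank_constants (hn : Pi1.IsNormalScheme X) :
    Module.finrank k (Coh.HH X (Coh.structureModule X) 0) = Module.finrank k (algebraicClosure k X.functionField) := by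
  rw [finrank_H0_eq k ParaFLib.isInvertible_structureModule (ParaFLib.bijective_oneG _),
    sectSpace_eq_algebraicClosure hn]
  rfl

theorem finite_constants (hn : Pi1.IsNormalScheme X) : FiniteDimensional k (algebraicClosure k X.functionField) := by
  haveI := EulerIneqLib.isNoetherian_proper (X := X) k
  haveI := EulerIneqLib.finite_HH (k := k)
    (CurveLib.isCoh_of_isInvertible (X := X) ParaFLib.isInvertible_structureModule) 0
  refine Module.finite_of_finrank_pos ?_
  rw [← h0_eq_finrank_constants hn]
  refine Nat.pos_of_ne_zero fun h => ?_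
  haveI : Subsingleton (Coh.HH X (Coh.structureModule X) 0) := Module.finrank_zero_iff.1 h
  have h2 : (1 : Γ(X, ⊤)) = 0 := ((CurveLib.secOf (Coh.structureModule X)).symm).injective (Subsingleton.elim _ _)
  exact one_ne_zero (α := X.presheaf.stalk (genericPoint X))
    (by simpa using congrArg (X.presheaf.germ ⊤ (genericPoint X) trivial) h2)

variable {Y : Scheme.{u}} [Y.Over (Spec (CommRingCat.of k))] [IsProper (Y ↘ Spec (CommRingCat.of k))] [IsIntegral Y]
  (f : X ⟶ Y) [IsFinite f] [Surjective f]

/-- The trace of a product with a constant, as an element of the function field below. -/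
def trEl (c : X.functionField) {U : Y.Opens} (hU : genericPoint Y ∈ U) (a : Γ(X, f ⁻¹ᵁ U)) : Y.functionField :=
  letI := NormHomLib.ffAlg f
  Algebra.trace Y.functionField X.functionField
    (c * X.presheaf.germ (f ⁻¹ᵁ U) _ (NormHomLib.gen_preimage f hU) a)

omit [X.Over (Spec (CommRingCat.of k))] [IsProper (X ↘ Spec (CommRingCat.of k))] [Y.Over (Spec (CommRingCat.of k))]
  [IsProper (Y ↘ Spec (CommRingCat.of k))] in
theorem exists_trace_hom (hY : Pi1.IsNormalScheme Y) {c : X.functionField}
    (hc : ∀ x : X, c ∈ Set.range (algebraMap (X.presheaf.stalk x) X.functionField)) :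
    ∃ T : (Scheme.Modules.pushforward f).obj (Coh.structureModule X) ⟶ Coh.structureModule Y,
      ∀ (U : Y.Opens) (hU : genericPoint Y ∈ U) (a : Γ(X, f ⁻¹ᵁ U)),
        Y.presheaf.germ U _ hU (T.app U a) = trEl f c hU a := by
  classical
  letI := NormHomLib.ffAlg f
  haveI := NormHomLib.finite_functionField f
  have hN : ∀ (U : Y.Opens) (a : Γ(X, f ⁻¹ᵁ U)), ∃ b : Γ(Y, U), ∀ hη : genericPoint Y ∈ U,
      Y.presheaf.germ U _ hη b = trEl f c hη a := by
    intro U a
    by_cases hη : genericPoint Y ∈ U
    · haveI : Nonempty U := ⟨⟨_, hη⟩⟩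
      obtain ⟨s, hs⟩ := NormalSch.exists_section U (trEl f c hη a) fun y hy => by
        obtain ⟨_, ⟨W : Y.Opens, hW, rfl⟩, hyW, hWU⟩ := Y.isBasis_affineOpens.exists_subset_of_mem_open hy U.2
        have hWU' : W ≤ U := hWU
        haveI : Nonempty W := ⟨⟨y, hyW⟩⟩
        have hηW : genericPoint Y ∈ W := NormalSch.genericPoint_mem W
        haveI := functionField_isFractionRing_of_isAffineOpen Y W hW
        haveI : IsIntegrallyClosed Γ(Y, W) := NormalSch.isIntegrallyClosed_section hY W
        haveI : Nonempty (f ⁻¹ᵁ W : X.Opens) := ⟨⟨_, NormHomLib.gen_preimage f hηW⟩⟩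
        haveI := functionField_isFractionRing_of_isAffineOpen X (f ⁻¹ᵁ W) (hW.preimage f)
        letI : Algebra Γ(Y, W) Γ(X, f ⁻¹ᵁ W) := (f.app W).hom.toAlgebra
        haveI : Module.Finite Γ(Y, W) Γ(X, f ⁻¹ᵁ W) := f.finite_app W hW
        letI : Algebra Γ(Y, W) X.functionField :=
          ((algebraMap Γ(X, f ⁻¹ᵁ W) X.functionField).comp (f.app W).hom).toAlgebra
        haveI : IsScalarTower Γ(Y, W) Γ(X, f ⁻¹ᵁ W) X.functionField := .of_algebraMap_eq fun _ => rfl
        haveI : IsScalarTower Γ(Y, W) Y.functionField X.functionField :=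
          .of_algebraMap_eq fun v => (NormHomLib.ffMap_germ f hηW v).symm
        obtain ⟨c', hc'⟩ := NormalSch.exists_section (f ⁻¹ᵁ W) c fun x _ => hc x
        let a' := X.presheaf.map (homOfLE (f.preimage_mono hWU')).op a
        have hint : IsIntegral Γ(Y, W) (algebraMap Γ(X, f ⁻¹ᵁ W) X.functionField (c' * a')) :=
          (IsIntegral.of_finite Γ(Y, W) _).algebraMap
        obtain ⟨b, hb⟩ := IsIntegrallyClosed.isIntegral_iff.1
          (Algebra.isIntegral_trace (L := Y.functionField) hint)
        refine ⟨Y.presheaf.germ W y hyW b, ?_⟩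
        rw [Scheme.algebraMap_germ_eq_germToFunctionField (hx := hyW)]
        refine hb.trans (congrArg (Algebra.trace Y.functionField X.functionField) ?_)
        rw [map_mul]
        refine congrArg₂ (· * ·) hc' ?_
        exact TopCat.Presheaf.germ_res_apply X.presheaf _ _ _ a
      exact ⟨s, fun _ => hs⟩
    · exact ⟨0, fun h => absurd h hη⟩
  choose N hN using hN
  have hext : ∀ (U : Y.Opens) (b b' : Γ(Y, U)),
      (∀ hη : genericPoint Y ∈ U, Y.presheaf.germ U _ hη b = Y.presheaf.germ U _ hη b') → b = b' := by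
    intro U b b' h
    rcases isEmpty_or_nonempty U with he | hne
    · exact TopCat.Presheaf.section_ext Y.sheaf U _ _ fun y hy => (he.false ⟨y, hy⟩).elim
    · exact Y.germToFunctionField_injective U (h (NormalSch.genericPoint_mem U))
  refine ⟨⟨PresheafOfModules.homMk (M₁ := ((Scheme.Modules.pushforward f).obj (Coh.structureModule X)).val)
    (M₂ := (Coh.structureModule Y).val)
    { app := fun U => AddCommGrpCat.ofHom
        { toFun := fun a : Γ(X, f ⁻¹ᵁ U.unop) => (N U.unop a : Γ(Y, U.unop))
          map_zero' := hext _ _ _ fun hη => by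
            rw [hN, trEl, map_zero, map_zero, mul_zero, map_zero]
          map_add' := fun a b => hext _ _ _ fun hη => by
            rw [map_add, hN, hN, hN, trEl, map_add, mul_add, map_add]; rfl }
      naturality := fun {U V} i => by
        ext a
        refine hext _ _ _ fun hη => ?_
        refine (hN _ _ hη).trans (Eq.trans ?_ (TopCat.Presheaf.germ_res_apply Y.presheaf i.unop _ hη (N _ a)).symm)
        rw [hN _ a (i.unop.le hη)]
        show Algebra.trace _ _ _ = Algebra.trace _ _ _
        refine congrArg (fun w => Algebra.trace Y.functionField X.functionField (c * w)) ?_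
        exact TopCat.Presheaf.germ_res_apply X.presheaf _ _ _ a }
    (fun U r a => ?_)⟩, fun U hU a => hN U a hU⟩
  let r' : Γ(Y, U.unop) := r
  let a' : Γ(X, f ⁻¹ᵁ U.unop) := a
  refine hext _ _ _ fun hη => ?_
  show Y.presheaf.germ U.unop _ hη (N U.unop ((f.app U.unop).hom r' * a')) =
    Y.presheaf.germ U.unop _ hη (r' * N U.unop a')
  rw [map_mul, hN, hN, trEl, trEl, (X.presheaf.germ (f ⁻¹ᵁ U.unop) _ (NormHomLib.gen_preimage f hη)).hom.map_mul,
    ← NormHomLib.ffMap_germ f hη r', mul_left_comm]
  refine Eq.trans ?_ (smul_eq_mul (Y.presheaf.germ U.unop _ hη r' : Y.functionField) _)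
  rw [← map_smul, Algebra.smul_def]
  rfl

omit [X.Over (Spec (CommRingCat.of k))] [IsProper (X ↘ Spec (CommRingCat.of k))] in
theorem stalk_total {ι : Type} [Fintype ι] (F : ι → Y.Modules) (y : Y) (z : (⨁ F).presheaf.stalk y) :
    z = ∑ j, stalkLin (biproduct.π F j ≫ biproduct.ι F j) y z := by
  classical
  let Φ : ∀ {A B : Y.Modules}, A.presheaf.stalk y → (A ⟶ B) →+ B.presheaf.stalk y := fun {A B} w =>
    AddMonoidHom.mk' (fun φ : A ⟶ B => stalkLin φ y w) fun φ ψ => by
      obtain ⟨V, hy, s, rfl⟩ := TopCat.Presheaf.exists_germ_eq A.presheaf w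
      rw [stalkLin_germ, stalkLin_germ, stalkLin_germ, ← map_add]
      rfl
  have h1 := congrArg (Φ z) (biproduct.total (f := F))
  rw [map_sum] at h1
  refine Eq.trans ?_ h1.symm
  show z = stalkLin (𝟙 _) y z
  rw [stalkLin_id]; rfl

omit [X.Over (Spec (CommRingCat.of k))] [IsProper (X ↘ Spec (CommRingCat.of k))] in
theorem stalkLin_biproduct {ι : Type} [Fintype ι] {M : Y.Modules} (F : ι → Y.Modules) (t : ∀ j, M ⟶ F j) (y : Y)
    (z : (⨁ F).presheaf.stalk y) (v : M.presheaf.stalk y)
    (h : ∀ j, stalkLin (t j) y v = stalkLin (biproduct.π F j) y z) : stalkLin (biproduct.lift t) y v = z := by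
  classical
  let Φ : ∀ {A B : Y.Modules}, A.presheaf.stalk y → (A ⟶ B) →+ B.presheaf.stalk y := fun {A B} w =>
    AddMonoidHom.mk' (fun φ : A ⟶ B => stalkLin φ y w) fun φ ψ => by
      obtain ⟨V, hy, s, rfl⟩ := TopCat.Presheaf.exists_germ_eq A.presheaf w
      rw [stalkLin_germ, stalkLin_germ, stalkLin_germ, ← map_add]
      rfl
  have hz := stalk_total F y z
  have hv : stalkLin (biproduct.lift t) y v = ∑ j, stalkLin (t j ≫ biproduct.ι F j) y v := by
    rw [biproduct.lift_eq]
    exact map_sum (Φ v) _ _
  rw [hz, hv]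
  refine Finset.sum_congr rfl fun j _ => ?_
  rw [stalkLin_comp, stalkLin_comp, LinearMap.comp_apply, LinearMap.comp_apply, h j]

/-- The first cohomology of the top dominates copies of that of the bottom. -/
theorem mul_h1_le (hdY : topologicalKrullDim Y ≤ 1) (hY : Pi1.IsNormalScheme Y)
    (hf : f ≫ (Y ↘ Spec (CommRingCat.of k)) = X ↘ Spec (CommRingCat.of k))
    {m : ℕ} {c : Fin m → X.functionField}
    (hc : ∀ j (x : X), c j ∈ Set.range (algebraMap (X.presheaf.stalk x) X.functionField))
    (hsurj : letI := NormHomLib.ffAlg f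
      Function.Surjective fun (z : X.functionField) (j : Fin m) =>
        Algebra.trace Y.functionField X.functionField (c j * z)) :
    m * Module.finrank k (Coh.HH Y (Coh.structureModule Y) 1) ≤
      Module.finrank k (Coh.HH X (Coh.structureModule X) 1) := by
  classical
  letI := NormHomLib.ffAlg f
  haveI := NormHomLib.finite_functionField f
  haveI := EulerIneqLib.isNoetherian_proper (X := Y) k
  haveI := EulerIneqLib.isNoetherian_proper (X := X) k
  choose T hT using fun j => exists_trace_hom f hY (hc j)
  let M := (Scheme.Modules.pushforward f).obj (Coh.structureModule X)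
  let F : Fin m → Y.Modules := fun _ => Coh.structureModule Y
  let φ : M ⟶ ⨁ F := biproduct.lift T
  let η := genericPoint Y
  let e := ParaFLib.oneG η
  let V : Submodule Y.functionField (Fin m → Y.functionField) :=
    { carrier := {r | ∃ v : M.presheaf.stalk η, ∀ j, stalkLin (T j) η v = (r j : Y.presheaf.stalk η) • e}
      add_mem' := fun {a b} ⟨v, hv⟩ ⟨w, hw⟩ => ⟨v + w, fun j => by
        rw [map_add, hv, hw, ← add_smul]; rfl⟩
      zero_mem' := ⟨0, fun j => by rw [map_zero]; exact (zero_smul _ _).symm⟩
      smul_mem' := fun s a ⟨v, hv⟩ => ⟨(s : Y.presheaf.stalk η) • v, fun j => by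
        rw [map_smul, hv, smul_smul]; rfl⟩ }
  have hV : ∀ z : X.functionField, (fun j => Algebra.trace Y.functionField X.functionField (c j * z)) ∈ V := by
    obtain ⟨_, ⟨W : Y.Opens, hW, rfl⟩, hηW, -⟩ :=
      Y.isBasis_affineOpens.exists_subset_of_mem_open (Set.mem_univ η) isOpen_univ
    haveI : Nonempty W := ⟨⟨_, hηW⟩⟩
    haveI : Nonempty (f ⁻¹ᵁ W : X.Opens) := ⟨⟨_, NormHomLib.gen_preimage f hηW⟩⟩
    haveI := functionField_isFractionRing_of_isAffineOpen X (f ⁻¹ᵁ W) (hW.preimage f)
    let ι := algebraMap Γ(X, f ⁻¹ᵁ W) X.functionField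
    let Tl : X.functionField →ₗ[Y.functionField] (Fin m → Y.functionField) :=
      LinearMap.pi fun j => (Algebra.trace Y.functionField X.functionField).comp (LinearMap.mulLeft Y.functionField (c j))
    have hle : Submodule.span Y.functionField (Set.range ι) ≤ V.comap Tl := by
      rw [Submodule.span_le]
      rintro _ ⟨a, rfl⟩
      refine ⟨M.presheaf.germ W η hηW a, fun j => ?_⟩
      rw [stalkLin_germ]
      show _ = _ • ParaFLib.oneG η
      rw [ParaFLib.oneG, ← TopCat.Presheaf.germ_res_apply (Coh.structureModule Y).presheaf (homOfLE (le_top : W ≤ ⊤)) η hηW]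
      have h1 : (Tl (ι a) j : Y.presheaf.stalk η) = Y.presheaf.germ W η hηW ((T j).app W a) := (hT j W hηW a).symm
      rw [h1, ← ParaFLib.germ_smul']
      congr 1
      let w : Γ(Y, W) := (T j).app W a
      show _ = w * (Y.presheaf.map (homOfLE (le_top : W ≤ ⊤)).op).hom 1
      rw [map_one, mul_one]
    have htop : Submodule.span Y.functionField (Set.range ι) = ⊤ := by
      let B : Subalgebra Y.functionField X.functionField := Algebra.adjoin Y.functionField (Set.range ι)
      have hB : B.toSubmodule = Submodule.span Y.functionField (Set.range ι) := by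
        rw [Algebra.adjoin_eq_span, show (Submonoid.closure (Set.range ι) : Set X.functionField) = Set.range ι from
          Set.Subset.antisymm (fun z hz => by
            induction hz using Submonoid.closure_induction with
            | mem x hx => exact hx
            | one => exact ⟨1, map_one ι⟩
            | mul x y _ _ hx hy => obtain ⟨a, rfl⟩ := hx; obtain ⟨b, rfl⟩ := hy; exact ⟨a * b, map_mul ι a b⟩)
            Submonoid.subset_closure]
      rw [← hB, eq_top_iff]
      intro z _
      obtain ⟨a, b, -, rfl⟩ := IsFractionRing.div_surjective (A := Γ(X, f ⁻¹ᵁ W)) z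
      have hfield : IsField B := isField_of_isIntegral_of_isField' (Field.toIsField Y.functionField)
      rw [div_eq_mul_inv]
      refine B.mul_mem (Algebra.subset_adjoin ⟨a, rfl⟩) ?_
      exact Subalgebra.inv_mem_of_algebraic (A := B) (x := ⟨ι b, Algebra.subset_adjoin ⟨b, rfl⟩⟩)
        (Algebra.IsAlgebraic.isAlgebraic (R := Y.functionField) (ι b))
    exact fun z => hle (htop ▸ Submodule.mem_top)
  have hgen : Function.Surjective (stalkLin φ η) := fun z => by
    choose r hr using fun j => (ParaFLib.bijective_oneG η).2 (stalkLin (biproduct.π F j) η z)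
    obtain ⟨w, hw⟩ := hsurj r
    obtain ⟨v, hv⟩ := hV w
    refine ⟨v, stalkLin_biproduct F T η z v fun j => ?_⟩
    rw [hv j, ← hr j]
    exact congrArg (fun q : Fin m → Y.functionField => (q j : Y.presheaf.stalk η) • e) hw
  haveI : Coh.IsQCoh (Coh.structureModule X) := (CurveLib.isCoh_of_isInvertible (X := X) ParaFLib.isInvertible_structureModule).1
  have hcohO := CurveLib.isCoh_of_isInvertible (X := Y) ParaFLib.isInvertible_structureModule
  -- surjectivity spreads to a neighbourhood of the generic point
  have hloc : ∀ j, ∃ U : Y.Opens, η ∈ U ∧ ∀ x ∈ U,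
      ∃ v, stalkLin φ x v = stalkLin (biproduct.ι F j) x (ParaFLib.oneG x) := fun j => by
    obtain ⟨v, hv⟩ := hgen (stalkLin (biproduct.ι F j) η (ParaFLib.oneG η))
    obtain ⟨W, hW, s, rfl⟩ := TopCat.Presheaf.exists_germ_eq M.presheaf v
    rw [stalkLin_germ, ParaFLib.oneG, stalkLin_germ] at hv
    obtain ⟨U, hηU, i₁, i₂, hU⟩ := TopCat.Presheaf.germ_eq (⨁ F).presheaf (U := W) (V := ⊤) η hW trivial _ _ hv
    refine ⟨U, hηU, fun x hx => ⟨M.presheaf.germ W x (i₁.le hx) s, ?_⟩⟩
    rw [stalkLin_germ, ParaFLib.oneG, stalkLin_germ]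
    refine (TopCat.Presheaf.germ_res_apply (⨁ F).presheaf i₁ x hx _).symm.trans (Eq.trans ?_
      (TopCat.Presheaf.germ_res_apply (⨁ F).presheaf i₂ x hx _))
    exact congrArg ((⨁ F).presheaf.germ U x hx) hU
  choose U hηU hU using hloc
  let U₀ : Y.Opens := ⟨⋂ j, (U j : Set Y), isOpen_iInter_of_finite fun j => (U j).2⟩
  have hηU₀ : η ∈ U₀ := Set.mem_iInter.2 hηU
  have hC : IsClosed ((U₀ : Set Y)ᶜ) := U₀.2.isClosed_compl
  have hsur : Function.Surjective (CurveLib.hMap (k := k) φ 1) := by
    refine CurveLib.hMap_one_surjective hdY φ hC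
      (CurveLib.dim_le_zero_of_notMem hdY hC (genericPoint_spec Y) fun h => h hηU₀) fun x hx z => ?_
    rw [Set.mem_compl_iff, not_not] at hx
    choose v hv using fun j => hU j x (Set.mem_iInter.1 hx j)
    choose r hr using fun j => (ParaFLib.bijective_oneG x).2 (stalkLin (biproduct.π F j) x z)
    refine ⟨∑ j, r j • v j, ?_⟩
    rw [map_sum]
    have hz : z = ∑ j, stalkLin (biproduct.π F j ≫ biproduct.ι F j) x z := stalk_total F x z
    rw [hz]
    refine Finset.sum_congr rfl fun j _ => ?_
    rw [map_smul, hv j, ← map_smul, stalkLin_comp, LinearMap.comp_apply]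
    exact congrArg _ (hr j)
  have hcohX := CurveLib.isCoh_of_isInvertible (X := X) ParaFLib.isInvertible_structureModule
  have hcohM : Coh.IsCoh M := by
    haveI : Coh.IsQCoh M := QCohLib.isQCoh_pushforward (Coh.structureModule X) f
    refine QCohLib.isCoh_of_finite _ fun W hW => ?_
    haveI := QCohLib.finite_sections_of_isCoh hcohX (hW.preimage f)
    letI : Algebra Γ(Y, W) Γ(X, f ⁻¹ᵁ W) := (f.app W).hom.toAlgebra
    letI : Module Γ(Y, W) Γ(Coh.structureModule X, f ⁻¹ᵁ W) := Module.compHom _ (f.app W).hom
    haveI : IsScalarTower Γ(Y, W) Γ(X, f ⁻¹ᵁ W) Γ(Coh.structureModule X, f ⁻¹ᵁ W) := .of_algebraMap_smul fun _ _ => rfl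
    haveI : Module.Finite Γ(Y, W) Γ(X, f ⁻¹ᵁ W) := IsFinite.finite_app f W hW
    exact (Module.Finite.trans Γ(X, f ⁻¹ᵁ W) Γ(Coh.structureModule X, f ⁻¹ᵁ W) :
      Module.Finite Γ(Y, W) Γ(Coh.structureModule X, f ⁻¹ᵁ W))
  -- the projections are jointly surjective on cohomology
  let Ψ : Coh.HH Y (⨁ F) 1 →ₗ[k] (Fin m → Coh.HH Y (Coh.structureModule Y) 1) :=
    LinearMap.pi fun j => CurveLib.hMap (k := k) (biproduct.π F j) 1
  have hΨ : Function.Surjective Ψ := fun w => by
    refine ⟨∑ i, CurveLib.hMap (k := k) (biproduct.ι F i) 1 (w i), funext fun j => ?_⟩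
    show CurveLib.hMap (k := k) (biproduct.π F j) 1 _ = _
    rw [map_sum]
    rw [Finset.sum_eq_single j (fun i _ hi => ?_) (fun h => absurd (Finset.mem_univ j) h)]
    · exact ((congrArg (fun g => Sheaf.H.map g 1 (w j)) ((QCohLib.toAbF Y).map_comp (biproduct.ι F j) (biproduct.π F j))).trans
        (Sheaf.H.map_comp_apply _ _ (w j))).symm.trans (by
          rw [biproduct.ι_π_self, (QCohLib.toAbF Y).map_id]; exact Sheaf.H.map_id_apply _)
    · refine ((congrArg (fun g => Sheaf.H.map g 1 (w i)) ((QCohLib.toAbF Y).map_comp (biproduct.ι F i) (biproduct.π F j))).trans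
        (Sheaf.H.map_comp_apply _ _ (w i))).symm.trans ?_
      rw [biproduct.ι_π_ne F hi, Functor.map_zero]
      exact add_eq_left.1 ((Sheaf.H.map_add_apply (0 : _ ⟶ (QCohLib.toAbF Y).obj (F j)) 0 (w i)).symm.trans (by rw [add_zero]))
  haveI := EulerIneqLib.finite_HH (k := k) hcohM 1
  haveI := EulerIneqLib.finite_HH (k := k) hcohO 1
  have hle := LinearMap.finrank_le_finrank_of_surjective (f := Ψ.comp (CurveLib.hMap (k := k) φ 1)) (hΨ.comp hsur)
  rw [Module.finrank_pi_fintype, Finset.sum_const, Finset.card_univ, Fintype.card_fin, smul_eq_mul,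
    IntLib.finrank_push k f hf (Coh.structureModule X) 1] at hle
  exact hle

end Groth.Agent.CurveFF
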