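import Groth.Agent.CurveFF.Omega
import Groth.Agent.FF.GenusZero
import Groth.Agent.FF.RatPlaces

/-!
# Functions branched over two values only

Over an algebraically closed field of characteristic zero, a nonconstant function all whose values
other than `c₀` and `∞` are taken with multiplicity one lives on a field of genus zero, and takes
`c₀` and `∞` at one place each.
-/

set_option autoImplicit false
set_option backward.isDefEq.respectTransparency false
set_option linter.style.haveILetI false

universe u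

open FunFld LaurentSeries Polynomial

namespace Groth.Agent.CurveFF

attribute [local instance high] FunFld.Place.algRes

variable {k : Type u} [Field k] [IsAlgClosed k] [CharZero k] {K : Type u} [Field K] [Algebra k K]

theorem genus_zero_of_two_branch (hK : IsFunctionField k K) {t : K} {c₀ : k}
    (hpole : ∃ Q : Place k K, Q.ord t < 0)
    (hsimple : ∀ (Q : Place k K) (c : k), c ≠ c₀ → Q.1 (t - algebraMap k K c) < 1 →
      Q.ord (t - algebraMap k K c) = 1) :
    genus k K = 0 ∧
      (∀ Q Q' : Place k K, Q.ord t < 0 → Q'.ord t < 0 → Q = Q') ∧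
      (∀ Q Q' : Place k K, Q.1 (t - algebraMap k K c₀) < 1 → Q'.1 (t - algebraMap k K c₀) < 1 → Q = Q') := by
  classical
  obtain ⟨φ, hφ⟩ := exists_expansions hK
  have hg := FF.isGeometric_algClosed hK
  haveI : ∀ P : Place k K, FiniteDimensional k (IsLocalRing.ResidueField P.O) := fun P => FF.finite_residue hK P
  obtain ⟨Q₁, hQ₁⟩ := hpole
  have ht0 : t ≠ 0 := fun h => by rw [h, Place.ord, map_zero, WithZero.log_zero] at hQ₁; omega
  set s := t - algebraMap k K c₀ with hs
  have hs0 : s ≠ 0 := fun h => by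
    rw [sub_eq_zero.1 h, FF.ord_algebraMap] at hQ₁; omega
  -- behaviour at poles
  have hpoles : ∀ Q : Place k K, Q.ord t < 0 ↔ Q.ord s < 0 := fun Q => by
    have key : Q.1 t ≤ 1 ↔ Q.1 s ≤ 1 := by
      refine ⟨fun h => Q.1.map_sub_le h (Q.2.1 c₀), fun h => ?_⟩
      have := Q.1.map_add_le h (Q.2.1 c₀)
      rwa [hs, sub_add_cancel] at this
    rw [← not_le, ← not_le, ← FF.v_le_one_iff Q ht0, ← FF.v_le_one_iff Q hs0, key]
  have hchar : ∀ (Q : Place k K) (e : ℕ), e ≠ 0 → (e : IsLocalRing.ResidueField Q.O) ≠ 0 := fun Q e he => by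
    rw [← map_natCast (algebraMap k (IsLocalRing.ResidueField Q.O)), Ne, map_eq_zero]
    exact_mod_cast he
  have hDsub : ∀ (Q : Place k K) (c : k),
      Valued.v (LocRes.D (IsLocalRing.ResidueField Q.O) (φ Q (t - algebraMap k K c))) =
        Valued.v (LocRes.D (IsLocalRing.ResidueField Q.O) (φ Q t)) := fun Q c => by
    have h := FF.Rat.vD_aeval (hφ Q) t (Polynomial.X - Polynomial.C c)
    rw [map_sub, Polynomial.aeval_X, Polynomial.aeval_C, Polynomial.derivative_sub, Polynomial.derivative_X,
      Polynomial.derivative_C, sub_zero, map_one, map_one, one_mul] at h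
    exact h
  have hzeroOrd : ∀ (Q : Place k K) (z : K), z ≠ 0 → 0 < Q.ord z →
      Valued.v (LocRes.D (IsLocalRing.ResidueField Q.O) (φ Q z)) = WithZero.exp (-(Q.ord z - 1)) := fun Q z hz ho => by
    obtain ⟨e, he⟩ := Int.eq_ofNat_of_zero_le ho.le
    rw [he]
    refine (FF.vD_of_order (e := e) ?_).1 (hchar Q e (by omega))
    rw [(hφ Q).1, FF.v_eq_exp Q hz, he]
  have hval : ∀ Q : Place k K, Valued.v (LocRes.D (IsLocalRing.ResidueField Q.O) (φ Q t)) =
      WithZero.exp (-(Q.ord s - if Q.ord s = 0 then 0 else 1)) := fun Q => by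
    rcases lt_trichotomy (Q.ord s) 0 with h | h | h
    · rw [if_neg h.ne, ← hDsub Q c₀, ← hs, FF.Rat.vD_inv (hφ Q), hzeroOrd Q _ (inv_ne_zero hs0)]
      · rw [FF.v_eq_exp Q hs0, ← WithZero.exp_nsmul, ← WithZero.exp_add]
        congr 1
        have : Q.ord s⁻¹ = -Q.ord s := by simp [Place.ord, map_inv₀, WithZero.log_inv]
        rw [this]; simp; ring
      · simp only [Place.ord, map_inv₀, WithZero.log_inv] at h ⊢; omega
    · rw [if_pos h, h, sub_zero, neg_zero, WithZero.exp_zero]
      have hle : Q.1 t ≤ 1 := (FF.v_le_one_iff Q ht0).2 (not_lt.1 fun h' => by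
        have := (hpoles Q).1 h'; omega)
      obtain ⟨c, hc⟩ := FF.exists_const hK Q hle
      have hne : c ≠ c₀ := fun e => by
        subst e
        have := (FF.v_lt_one_iff Q hs0).1 hc; omega
      have hz : t - algebraMap k K c ≠ 0 := fun e => by
        rw [sub_eq_zero.1 e, FF.ord_algebraMap] at hQ₁; omega
      have ho := hsimple Q c hne hc
      rw [← hDsub Q c, hzeroOrd Q _ hz (by omega), ho]
      simp
    · rw [if_neg h.ne', ← hDsub Q c₀, ← hs, hzeroOrd Q s hs0 h]
  have hDt : KaehlerDifferential.D k K t ≠ 0 := fun h0 => by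
    have h1 := hval Q₁
    rw [FF.D_exp_eq (φ Q₁) (c := (0 : K)) (x := t) (y := t) (by rw [zero_smul, h0]), map_zero, zero_mul, map_zero] at h1
    exact WithZero.exp_ne_zero h1.symm
  set W := FF.diffDiv hφ hK hg one_ne_zero hDt
  set D := FunFld.div k s
  have hdeg := (FF.canonical_deg hK (FF.diffDiv_isCanonical hφ hK hg one_ne_zero hDt)).2
  have hW : W = D - ∑ Q ∈ D.support, Finsupp.single Q 1 := by
    ext Q
    rw [FF.diffDiv_apply, LocRes.ordDiff, FF.vDiff_one, hval Q, WithZero.log_exp, neg_neg, Finsupp.sub_apply,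
      Finsupp.finsetSum_apply, FF.div_apply hK]
    congr 1
    simp only [Finsupp.single_apply, Finset.sum_ite_eq']
    have : Q ∈ D.support ↔ Q.ord s ≠ 0 := by rw [Finsupp.mem_support_iff, FF.div_apply hK]
    by_cases h : Q.ord s = 0 <;> simp [h, this]
  have hcard : 2 * (genus k K : ℤ) - 2 = -(D.support.card : ℤ) := by
    rw [← hdeg]
    show Divisor.deg W = _
    rw [hW, FF.deg_sub, FF.deg_div hK, zero_sub]
    congr 1
    rw [← FF.degHom_apply, map_sum]
    simp only [FF.degHom_apply, FF.deg_single_ac hK, Finset.sum_const, nsmul_eq_mul, mul_one]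
  have hmem : ∀ Q : Place k K, Q ∈ D.support ↔ Q.ord s ≠ 0 := fun Q => by
    rw [Finsupp.mem_support_iff, FF.div_apply hK]
  obtain ⟨Q₀, hQ₀⟩ : ∃ Q : Place k K, 0 < Q.ord s := by
    by_contra hno
    push Not at hno
    have h1 : (-D : Divisor k K) = 0 := FF.eq_zero_of_nonneg_of_deg hK (fun Q => by
      have := hno Q
      simp only [Finsupp.coe_zero, Pi.zero_apply, Finsupp.coe_neg, Pi.neg_apply, D, FF.div_apply hK]; omega) (by
      rw [← FF.degHom_apply, map_neg, FF.degHom_apply, FF.deg_div hK, neg_zero])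
    have := DFunLike.congr_fun h1 Q₁
    simp only [Finsupp.coe_zero, Pi.zero_apply, Finsupp.coe_neg, Pi.neg_apply, D, FF.div_apply hK] at this
    have := (hpoles Q₁).1 hQ₁
    omega
  have hsub : ({Q₀, Q₁} : Finset (Place k K)) ⊆ D.support := by
    intro Q hQ
    rcases Finset.mem_insert.1 hQ with rfl | hQ
    · exact (hmem _).2 hQ₀.ne'
    · rw [Finset.mem_singleton.1 hQ]; exact (hmem _).2 ((hpoles Q₁).1 hQ₁).ne
  have hne : Q₀ ≠ Q₁ := fun e => by
    subst e; have := (hpoles Q₀).1 hQ₁; omega
  have h2 : 2 ≤ D.support.card := (Finset.card_pair hne).ge.trans (Finset.card_le_card hsub)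
  have heq : ({Q₀, Q₁} : Finset (Place k K)) = D.support :=
    Finset.eq_of_subset_of_card_le hsub (by rw [Finset.card_pair hne]; omega)
  refine ⟨by omega, fun Q Q' h h' => ?_, fun Q Q' h h' => ?_⟩
  · have key : ∀ R : Place k K, R.ord t < 0 → R = Q₁ := fun R hR => by
      have hm := (hmem R).2 ((hpoles R).1 hR).ne
      rw [← heq, Finset.mem_insert, Finset.mem_singleton] at hm
      rcases hm with rfl | hm
      · have := (hpoles R).1 hR; omega
      · exact hm
    rw [key Q h, key Q' h']
  · have key : ∀ R : Place k K, R.1 s < 1 → R = Q₀ := fun R hR => by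
      have ho := (FF.v_lt_one_iff R hs0).1 hR
      have hm := (hmem R).2 ho.ne'
      rw [← heq, Finset.mem_insert, Finset.mem_singleton] at hm
      rcases hm with hm | rfl
      · exact hm
      · have := (hpoles R).1 hQ₁; omega
    rw [key Q h, key Q' h']

end Groth.Agent.CurveFF
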