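import Groth.Agent.CurveFF.GenusOnePencil
import Groth.Agent.FF.Misc
import Groth.Prelude.Def_LefPen

/-!
# Weierstrass coordinates of a function field of genus one
-/

set_option autoImplicit false
set_option maxHeartbeats 800000
set_option linter.style.haveILetI false

universe u

open scoped WithZero
open MvPolynomial FunFld

noncomputable section

namespace Groth.Agent.CurveFF

attribute [local instance high] FunFld.Place.algRes

namespace Weier

/-- The Weierstrass form. -/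
def form {k : Type u} [Field k] (a₁ a₂ a₃ a₄ a₆ : k) : LefPen.Form 2 k 3 :=
  ⟨X 1 ^ 2 * X 2 + C a₁ * X 0 * X 1 * X 2 + C a₃ * X 1 * X 2 ^ 2 - X 0 ^ 3 - C a₂ * X 0 ^ 2 * X 2 -
      C a₄ * X 0 * X 2 ^ 2 - C a₆ * X 2 ^ 3, by
    have hX : ∀ (i : Fin (2 + 1)) (e : ℕ), (X i ^ e : MvPolynomial (Fin (2 + 1)) k).IsHomogeneous e := fun i e =>
      isHomogeneous_X_pow i e
    have hX1 : ∀ i : Fin (2 + 1), (X i : MvPolynomial (Fin (2 + 1)) k).IsHomogeneous 1 := isHomogeneous_X k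
    refine (mem_homogeneousSubmodule 3 _).2 (IsHomogeneous.sub (IsHomogeneous.sub (IsHomogeneous.sub (IsHomogeneous.sub
      (IsHomogeneous.add (IsHomogeneous.add ?_ ?_) ?_) ?_) ?_) ?_) ?_)
    · exact (hX 1 2).mul (hX1 2)
    · exact (((hX1 0).C_mul a₁).mul (hX1 1)).mul (hX1 2)
    · exact ((hX1 1).C_mul a₃).mul (hX 2 2)
    · exact hX 0 3
    · exact ((hX 0 2).C_mul a₂).mul (hX1 2)
    · exact ((hX1 0).C_mul a₄).mul (hX 2 2)
    · exact (hX 2 3).C_mul a₆⟩

/-- The pole order of the `i`-th monomial. -/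
def ordIdx (i : ℕ) : ℕ := if i = 0 then 0 else i + 1

/-- The exponent of `x` of the `i`-th monomial. -/
def eA (i : ℕ) : ℕ := 2 * ordIdx i % 3

/-- The exponent of `y` of the `i`-th monomial. -/
def eB (i : ℕ) : ℕ := (ordIdx i - 2 * eA i) / 3

theorem exps {n i : ℕ} (hi : i < 3 * n) : 2 * eA i + 3 * eB i = ordIdx i ∧ eA i + eB i ≤ n ∧ ordIdx i ≤ 3 * n := by
  unfold eB eA ordIdx
  split_ifs <;> omega

/-- The monomials of degree `n` of low degree in the first variable. -/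
def good {k : Type u} [Field k] (n : ℕ) (i : Fin (3 * n)) : MvPolynomial (Fin (2 + 1)) k :=
  X 0 ^ eA i.1 * X 1 ^ eB i.1 * X 2 ^ (n - eA i.1 - eB i.1)

theorem good_mem {k : Type u} [Field k] (n : ℕ) (i : Fin (3 * n)) :
    (good n i : MvPolynomial (Fin (2 + 1)) k) ∈ CohB1.polyGrading 2 k n := by
  obtain ⟨-, h, -⟩ := exps i.2
  have h1 := ((isHomogeneous_X_pow (R := k) (0 : Fin (2 + 1)) (eA i.1)).mul (isHomogeneous_X_pow (1 : Fin (2 + 1)) (eB i.1))).mul
    (isHomogeneous_X_pow (2 : Fin (2 + 1)) (n - eA i.1 - eB i.1))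
  rw [show eA i.1 + eB i.1 + (n - eA i.1 - eB i.1) = n by omega] at h1
  exact (mem_homogeneousSubmodule n _).2 h1

variable {k K : Type u} [Field k] [Field K] [Algebra k K]

/-- The multiples of the equation in degree `n`. -/
def multiples (a₁ a₂ a₃ a₄ a₆ : k) (n : ℕ) : Set (MvPolynomial (Fin (2 + 1)) k) :=
  {p | ∃ (e : ℕ) (q : MvPolynomial (Fin (2 + 1)) k),
    e + 3 = n ∧ q ∈ CohB1.polyGrading 2 k e ∧ p = (form a₁ a₂ a₃ a₄ a₆).1 * q}

/-- Monomials reduce modulo the equation. -/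
theorem monomial_reduce (a₁ a₂ a₃ a₄ a₆ : k) (n : ℕ) : ∀ (a b c : ℕ), a + b + c = n → 1 ≤ n →
    (X 0 ^ a * X 1 ^ b * X 2 ^ c : MvPolynomial (Fin (2 + 1)) k) ∈
      Submodule.span k (multiples a₁ a₂ a₃ a₄ a₆ n ∪ Set.range (good n)) := by
  intro a
  induction a using Nat.strong_induction_on with
  | _ a ih =>
    intro b c habc hn
    set S := Submodule.span k (multiples a₁ a₂ a₃ a₄ a₆ n ∪ Set.range (good (k := k) n))
    by_cases ha : a < 3
    · let i : ℕ := if 2 * a + 3 * b = 0 then 0 else 2 * a + 3 * b - 1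
      have hm : ordIdx i = 2 * a + 3 * b := by
        unfold ordIdx; simp only [i]; split_ifs <;> omega
      have hi : i < 3 * n := by simp only [i]; split_ifs <;> omega
      have hA : eA i = a := by unfold eA; rw [hm]; omega
      have hB : eB i = b := by unfold eB; rw [hA, hm]; omega
      refine Submodule.subset_span (Or.inr ⟨⟨i, hi⟩, ?_⟩)
      show X 0 ^ eA i * X 1 ^ eB i * X 2 ^ (n - eA i - eB i) = _
      rw [hA, hB, show n - a - b = c by omega]
    obtain ⟨a', rfl⟩ : ∃ a', a = a' + 3 := ⟨a - 3, by omega⟩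
    have h1 := ih a' (by omega) (b + 2) (c + 1) (by omega) hn
    have h2 := ih (a' + 1) (by omega) (b + 1) (c + 1) (by omega) hn
    have h3 := ih a' (by omega) (b + 1) (c + 2) (by omega) hn
    have h4 := ih (a' + 2) (by omega) b (c + 1) (by omega) hn
    have h5 := ih (a' + 1) (by omega) b (c + 2) (by omega) hn
    have h6 := ih a' (by omega) b (c + 3) (by omega) hn
    have hq : (X 0 ^ a' * X 1 ^ b * X 2 ^ c : MvPolynomial (Fin (2 + 1)) k) ∈ CohB1.polyGrading 2 k (a' + b + c) :=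
      (mem_homogeneousSubmodule _ _).2
        (((isHomogeneous_X_pow 0 a').mul (isHomogeneous_X_pow 1 b)).mul (isHomogeneous_X_pow 2 c))
    have h7 : (form a₁ a₂ a₃ a₄ a₆).1 * (X 0 ^ a' * X 1 ^ b * X 2 ^ c) ∈ S :=
      Submodule.subset_span (Or.inl ⟨a' + b + c, _, by omega, hq, rfl⟩)
    have key := sub_mem (sub_mem (sub_mem (sub_mem (add_mem (add_mem h1 (S.smul_mem a₁ h2)) (S.smul_mem a₃ h3))
      (S.smul_mem a₂ h4)) (S.smul_mem a₄ h5)) (S.smul_mem a₆ h6)) h7
    convert key using 1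
    simp only [form, smul_eq_C_mul]
    ring

/-- Forms reduce modulo the equation. -/
theorem reduce (a₁ a₂ a₃ a₄ a₆ : k) {n : ℕ} (hn : 1 ≤ n) {H : MvPolynomial (Fin (2 + 1)) k}
    (hH : H ∈ CohB1.polyGrading 2 k n) :
    H ∈ Submodule.span k (multiples a₁ a₂ a₃ a₄ a₆ n ∪ Set.range (good n)) := by
  rw [H.as_sum]
  refine Submodule.sum_mem _ fun m hm => ?_
  have hdeg : m 0 + m 1 + m 2 = n := by
    have h := hH (mem_support_iff.mp hm)
    rw [Finsupp.weight_apply, Finsupp.sum_fintype _ _ (by simp)] at h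
    simpa [Fin.sum_univ_three] using h
  rw [monomial_eq, Finsupp.prod_fintype _ _ (by simp), Fin.prod_univ_three, ← smul_eq_C_mul]
  exact Submodule.smul_mem _ _ (monomial_reduce a₁ a₂ a₃ a₄ a₆ n _ _ _ hdeg hn)

theorem aeval_good (x y : K) (n : ℕ) (i : Fin (3 * n)) :
    aeval ![x, y, 1] (good (k := k) n i) = x ^ eA i.1 * y ^ eB i.1 := by
  simp [good]

variable (hK : IsFunctionField k K) (hg : genus k K = 1) {P : Place k K} (hP : P.deg = 1) {x y : K}
  (hx : x ∈ L (Finsupp.single P 2)) (hy : y ∈ L (Finsupp.single P 3)) (hxo : P.ord x = -2) (hyo : P.ord y = -3)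

include hxo hyo in
theorem li_good (n : ℕ) : LinearIndependent k fun i : Fin (3 * n) => x ^ eA i.1 * y ^ eB i.1 := by
  have hx0 : x ≠ 0 := fun h => by rw [h, FF.ord_zero] at hxo; norm_num at hxo
  have hy0 : y ≠ 0 := fun h => by rw [h, FF.ord_zero] at hyo; norm_num at hyo
  refine FF.linearIndependent_of_ord P _ (fun i => mul_ne_zero (pow_ne_zero _ hx0) (pow_ne_zero _ hy0)) ?_
  have ho : ∀ i : Fin (3 * n), P.ord (x ^ eA i.1 * y ^ eB i.1) = -(ordIdx i.1 : ℤ) := fun i => by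
    rw [FF.ord_mul P (pow_ne_zero _ hx0) (pow_ne_zero _ hy0), FF.ord_pow, FF.ord_pow, hxo, hyo, ← (exps i.2).1]
    push_cast; ring
  intro i j h
  simp only [ho, neg_inj, Nat.cast_inj] at h
  refine Fin.ext ?_
  unfold ordIdx at h
  split_ifs at h <;> omega

include hx hy hxo hyo in
theorem mem_L_monomial (a b : ℕ) : x ^ a * y ^ b ∈ L (Finsupp.single P ((2 * a + 3 * b : ℕ) : ℤ)) := by
  classical
  have hx0 : x ≠ 0 := fun h => by rw [h, FF.ord_zero] at hxo; norm_num at hxo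
  have hy0 : y ≠ 0 := fun h => by rw [h, FF.ord_zero] at hyo; norm_num at hyo
  refine (FF.mem_L_iff_ord (mul_ne_zero (pow_ne_zero _ hx0) (pow_ne_zero _ hy0))).2 fun Q => ?_
  rw [FF.ord_mul Q (pow_ne_zero _ hx0) (pow_ne_zero _ hy0), FF.ord_pow, FF.ord_pow]
  rcases eq_or_ne Q P with rfl | hQ
  · rw [Finsupp.single_eq_same, hxo, hyo]; push_cast; omega
  · have h1 := (FF.mem_L_iff_ord hx0).1 hx Q
    have h2 := (FF.mem_L_iff_ord hy0).1 hy Q
    rw [Finsupp.single_eq_of_ne hQ] at h1 h2 ⊢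
    rw [add_zero] at h1 h2 ⊢
    positivity

include hK hg hP hx hy hxo hyo in
theorem L_eq_span_good (n : ℕ) (hn : 1 ≤ n) :
    L (Finsupp.single P ((3 * n : ℕ) : ℤ)) = Submodule.span k (Set.range fun i : Fin (3 * n) => x ^ eA i.1 * y ^ eB i.1) := by
  haveI := FF.finite_L hK (Finsupp.single P ((3 * n : ℕ) : ℤ))
  refine (Submodule.eq_of_le_of_finrank_le (Submodule.span_le.2 ?_) ?_).symm
  · rintro _ ⟨i, rfl⟩
    obtain ⟨h1, -, h3⟩ := exps i.2
    exact FF.L_mono (Finsupp.single_mono (by omega)) (mem_L_monomial hx hy hxo hyo _ _)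
  · have h := FF.ell_of_deg_large hK (D := Finsupp.single P ((3 * n : ℕ) : ℤ))
      (by rw [FF.deg_single, hP, hg]; push_cast; omega)
    rw [FF.deg_single, hP, hg] at h
    rw [finrank_span_eq_card (li_good hxo hyo n), Fintype.card_fin]
    simp only [ell] at h
    omega

include hK hg hP hx hy hxo hyo in
/-- The functions with bounded poles are forms in the coordinates. -/
theorem exists_form_of_mem_L {n : ℕ} (hn : 1 ≤ n) {z : K} (hz : z ∈ L (Finsupp.single P ((3 * n : ℕ) : ℤ))) :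
    ∃ H ∈ CohB1.polyGrading 2 k n, aeval ![x, y, 1] H = z := by
  rw [L_eq_span_good hK hg hP hx hy hxo hyo n hn, Submodule.mem_span_range_iff_exists_fun] at hz
  obtain ⟨c, rfl⟩ := hz
  refine ⟨∑ i, c i • good n i, Submodule.sum_mem _ fun i _ => Submodule.smul_mem _ _ (good_mem n i), ?_⟩
  simp only [map_sum, map_smul, aeval_good]

include hxo hyo in
/-- The relations are the multiples of the equation. -/
theorem mem_multiples {a₁ a₂ a₃ a₄ a₆ : k} (hW : aeval ![x, y, 1] (form a₁ a₂ a₃ a₄ a₆).1 = 0) {n : ℕ}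
    {H : MvPolynomial (Fin (2 + 1)) k} (hH : H ∈ CohB1.polyGrading 2 k n) (h0 : aeval ![x, y, 1] H = 0) :
    H ∈ Submodule.span k (multiples a₁ a₂ a₃ a₄ a₆ n) := by
  rcases Nat.eq_zero_or_pos n with rfl | hn
  · have h1 : H.IsHomogeneous 0 := hH
    rw [MvPolynomial.totalDegree_eq_zero_iff_eq_C.1 (Nat.le_zero.1 h1.totalDegree_le), aeval_C,
      map_eq_zero_iff _ (algebraMap k K).injective] at h0
    rw [MvPolynomial.totalDegree_eq_zero_iff_eq_C.1 (Nat.le_zero.1 h1.totalDegree_le), h0, map_zero]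
    exact zero_mem _
  have h := reduce a₁ a₂ a₃ a₄ a₆ hn hH
  rw [Submodule.span_union, Submodule.mem_sup] at h
  obtain ⟨w, hw, r, hr, rfl⟩ := h
  have hw0 : aeval ![x, y, 1] w = 0 := by
    clear hH h0
    induction hw using Submodule.span_induction with
    | mem p hp => obtain ⟨e, q, -, -, rfl⟩ := hp; rw [map_mul, hW, zero_mul]
    | zero => exact map_zero _
    | add p q _ _ hp hq => rw [map_add, hp, hq, add_zero]
    | smul c p _ hp => rw [map_smul, hp, smul_zero]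
  rw [map_add, hw0, zero_add] at h0
  rw [Submodule.mem_span_range_iff_exists_fun] at hr
  obtain ⟨c, rfl⟩ := hr
  simp only [map_sum, map_smul, aeval_good] at h0
  have hc := Fintype.linearIndependent_iff.1 (li_good hxo hyo n) c h0
  simp only [hc, zero_smul, Finset.sum_const_zero, add_zero]
  exact hw

include hK hg hP in
/-- Coordinates satisfying a Weierstrass equation. -/
theorem exists_coords :
    ∃ (x y : K) (a₁ a₂ a₃ a₄ a₆ : k), x ∈ L (Finsupp.single P 2) ∧ y ∈ L (Finsupp.single P 3) ∧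
      P.ord x = -2 ∧ P.ord y = -3 ∧ aeval ![x, y, 1] (form a₁ a₂ a₃ a₄ a₆).1 = 0 := by
  classical
  have hl : ∀ n : ℕ, 1 ≤ n → ell (Finsupp.single P (n : ℤ)) = n := fun n hn => by
    have := FF.ell_of_deg_large hK (D := Finsupp.single P (n : ℤ)) (by rw [FF.deg_single, hP, hg]; push_cast; omega)
    rw [FF.deg_single, hP, hg] at this
    omega
  have hex : ∀ n : ℕ, 1 ≤ n → ∃ z : K, z ∈ L (Finsupp.single P ((n + 1 : ℕ) : ℤ)) ∧ P.ord z = -((n + 1 : ℕ) : ℤ) := by
    intro n hn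
    haveI := FF.finite_L hK (Finsupp.single P (n : ℤ))
    obtain ⟨z, hz, hz'⟩ : ∃ z ∈ L (Finsupp.single P ((n + 1 : ℕ) : ℤ)), z ∉ L (Finsupp.single P (n : ℤ)) := by
      by_contra h
      push Not at h
      have h1 := Submodule.finrank_mono (show L (Finsupp.single P ((n + 1 : ℕ) : ℤ)) ≤ L (Finsupp.single P (n : ℤ)) from h)
      have h2 := hl n hn
      have h3 := hl (n + 1) (by omega)
      simp only [ell] at h2 h3
      omega
    have hz0 : z ≠ 0 := fun h => hz' (h ▸ zero_mem _)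
    refine ⟨z, hz, ?_⟩
    have h1 := (FF.mem_L_iff_ord hz0).1 hz P
    rw [Finsupp.single_eq_same] at h1
    by_contra h2
    refine hz' ((FF.mem_L_iff_ord hz0).2 fun Q => ?_)
    rcases eq_or_ne Q P with rfl | hQ
    · rw [Finsupp.single_eq_same]; push_cast at h1 h2; omega
    · have h3 := (FF.mem_L_iff_ord hz0).1 hz Q
      rw [Finsupp.single_eq_of_ne hQ] at h3 ⊢
      exact h3
  obtain ⟨x, hxL, hxo⟩ := hex 1 le_rfl
  obtain ⟨y, hyL, hyo⟩ := hex 2 (by norm_num)
  norm_num at hxL hxo hyL hyo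
  have hx3 : x ^ 3 ∈ L (Finsupp.single P ((3 * 2 : ℕ) : ℤ)) := by
    simpa using mem_L_monomial hxL hyL hxo hyo 3 0
  rw [L_eq_span_good hK hg hP hxL hyL hxo hyo 2 (by norm_num), Submodule.mem_span_range_iff_exists_fun] at hx3
  obtain ⟨c, hc⟩ := hx3
  have hc' : c 0 • (1 : K) + c 1 • x + c 2 • y + c 3 • x ^ 2 + c 4 • (x * y) + c 5 • y ^ 2 = x ^ 3 := by
    rw [← hc, Fin.sum_univ_six]
    simp [eA, eB, ordIdx]
  have h5 : c 5 ≠ 0 := by
    intro h5
    have hx0 : x ≠ 0 := fun h => by rw [h, FF.ord_zero] at hxo; norm_num at hxo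
    have hmem : ∀ a b : ℕ, 2 * a + 3 * b ≤ 5 → x ^ a * y ^ b ∈ L (Finsupp.single P (5 : ℤ)) := fun a b hab =>
      FF.L_mono (Finsupp.single_mono (by omega)) (mem_L_monomial hxL hyL hxo hyo a b)
    have h : x ^ 3 ∈ L (Finsupp.single P (5 : ℤ)) := by
      rw [← hc', h5, zero_smul, add_zero]
      refine add_mem (add_mem (add_mem (add_mem (Submodule.smul_mem _ _ ?_) (Submodule.smul_mem _ _ ?_))
        (Submodule.smul_mem _ _ ?_)) (Submodule.smul_mem _ _ ?_)) (Submodule.smul_mem _ _ ?_)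
      · simpa using hmem 0 0 (by norm_num)
      · simpa using hmem 1 0 (by norm_num)
      · simpa using hmem 0 1 (by norm_num)
      · simpa using hmem 2 0 (by norm_num)
      · simpa using hmem 1 1 (by norm_num)
    have := (FF.mem_L_iff_ord (pow_ne_zero _ hx0)).1 h P
    rw [Finsupp.single_eq_same, FF.ord_pow, hxo] at this
    norm_num at this
  refine ⟨c 5 • x, (c 5 ^ 2) • y, c 4, -(c 5 * c 3), c 5 * c 2, -(c 5 ^ 2 * c 1), -(c 5 ^ 3 * c 0),
    Submodule.smul_mem _ _ hxL, Submodule.smul_mem _ _ hyL, ?_, ?_, ?_⟩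
  · rw [Algebra.smul_def, FF.ord_mul P ((_root_.map_ne_zero _).2 h5) (fun h => by rw [h, FF.ord_zero] at hxo; norm_num at hxo),
      FF.ord_algebraMap, hxo, zero_add]
  · rw [Algebra.smul_def, FF.ord_mul P ((_root_.map_ne_zero _).2 (pow_ne_zero 2 h5))
      (fun h => by rw [h, FF.ord_zero] at hyo; norm_num at hyo), FF.ord_algebraMap, hyo, zero_add]
  · simp only [Algebra.smul_def, mul_one] at hc'
    simp [form, Algebra.smul_def]
    linear_combination (algebraMap k K (c 5) ^ 3) * hc'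

end Weier

end Groth.Agent.CurveFF
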