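import Groth.Agent.CurveFF.Weier
import Groth.Agent.CurveFF.Morph
import Groth.Agent.CurveFF.DoubleG12
import Groth.Agent.PicProjLib.Chart
import Groth.Agent.ProjMap.Basic
import Groth.Agent.S0219

/-!
# A curve of genus one is a Weierstrass cubic
-/

set_option autoImplicit false
set_option backward.isDefEq.respectTransparency false
set_option maxHeartbeats 2000000
set_option linter.style.haveILetI false

universe u

open CategoryTheory Limits AlgebraicGeometry TopologicalSpace MvPolynomial
open scoped WithZero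

noncomputable section

namespace Groth.Agent.CurveFF

namespace Weier

attribute [local instance] Curv2.stalkAlgebra
attribute [local instance high] FunFld.Place.algRes

open HomogeneousLocalization in
theorem dehom_mul_mem {k : Type u} [Field k] {a₁ a₂ a₃ a₄ a₆ : k} (j : Fin (2 + 1)) {n : ℕ}
    {H : MvPolynomial (Fin (2 + 1)) k} (hH : H ∈ Submodule.span k (multiples a₁ a₂ a₃ a₄ a₆ n))
    (hn : H ∈ CohB1.polyGrading 2 k (n • 1)) :
    (Proj.awayToSection (CohB1.polyGrading 2 k) (X j)).hom
        (Away.mk (CohB1.polyGrading 2 k) (ProjMap.X_mem j) n H hn) ∈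
      Ideal.span {LefPen.dehom (form a₁ a₂ a₃ a₄ a₆) j} := by
  classical
  set S := Ideal.span {LefPen.dehom (form a₁ a₂ a₃ a₄ a₆) j}
  suffices h : ∀ hn : H ∈ CohB1.polyGrading 2 k (n • 1),
      (Proj.awayToSection (CohB1.polyGrading 2 k) (X j)).hom
        (Away.mk (CohB1.polyGrading 2 k) (ProjMap.X_mem j) n H hn) ∈ S from h hn
  clear hn
  have hgr : ∀ {p : MvPolynomial (Fin (2 + 1)) k}, p ∈ Submodule.span k (multiples a₁ a₂ a₃ a₄ a₆ n) →
      p ∈ CohB1.polyGrading 2 k (n • 1) := by
    intro p hp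
    refine (Submodule.span_le.2 ?_) hp
    rintro _ ⟨e, q, he, hq, rfl⟩
    rw [smul_eq_mul, mul_one, ← he, add_comm e 3]
    exact SetLike.mul_mem_graded (form a₁ a₂ a₃ a₄ a₆).2 hq
  induction hH using Submodule.span_induction with
  | mem p hp =>
    intro hn
    obtain ⟨e, q, he, hq, rfl⟩ := hp
    have : Away.mk (CohB1.polyGrading 2 k) (ProjMap.X_mem j) n ((form a₁ a₂ a₃ a₄ a₆).1 * q) hn =
        Away.mk (CohB1.polyGrading 2 k) (LefPen.X_mem 2 k j) 3 (form a₁ a₂ a₃ a₄ a₆).1
          (by rw [smul_eq_mul, mul_one]; exact (form a₁ a₂ a₃ a₄ a₆).2) *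
        Away.mk (CohB1.polyGrading 2 k) (ProjMap.X_mem j) e q (by rw [smul_eq_mul, mul_one]; exact hq) := by
      refine val_injective _ ?_
      rw [HomogeneousLocalization.val_mul, Away.val_mk, Away.val_mk, Away.val_mk, Localization.mk_mul,
        Localization.mk_eq_mk_iff, Localization.r_iff_exists]
      refine ⟨1, ?_⟩
      simp only [OneMemClass.coe_one, one_mul, Submonoid.coe_mul]
      rw [← he]
      ring
    rw [this, map_mul]
    exact Ideal.mul_mem_right _ _ (Ideal.subset_span rfl)
  | zero =>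
    intro hn
    have : Away.mk (CohB1.polyGrading 2 k) (ProjMap.X_mem j) n (0 : MvPolynomial (Fin (2 + 1)) k) hn = 0 := by
      refine val_injective _ ?_
      rw [Away.val_mk, HomogeneousLocalization.val_zero, Localization.mk_zero]
    rw [this, map_zero]
    exact zero_mem _
  | add p q hp hq ihp ihq =>
    intro hn
    have : Away.mk (CohB1.polyGrading 2 k) (ProjMap.X_mem j) n (p + q) hn =
        Away.mk (CohB1.polyGrading 2 k) (ProjMap.X_mem j) n p (hgr hp) +
          Away.mk (CohB1.polyGrading 2 k) (ProjMap.X_mem j) n q (hgr hq) := by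
      refine val_injective _ ?_
      rw [HomogeneousLocalization.val_add, Away.val_mk, Away.val_mk, Away.val_mk, Localization.add_mk_self]
    rw [this, map_add]
    exact add_mem (ihp _) (ihq _)
  | smul c p hp ih =>
    intro hn
    have : Away.mk (CohB1.polyGrading 2 k) (ProjMap.X_mem j) n (c • p) hn =
        PicProjLib.constAway 2 k j c * Away.mk (CohB1.polyGrading 2 k) (ProjMap.X_mem j) n p (hgr hp) := by
      refine val_injective _ ?_
      rw [HomogeneousLocalization.val_mul, Away.val_mk, Away.val_mk]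
      have hc : val (PicProjLib.constAway 2 k j c) = Localization.mk (C c : MvPolynomial (Fin (2 + 1)) k) 1 :=
        val_mk _
      rw [hc, Localization.mk_mul, one_mul, smul_eq_C_mul]
    rw [this, map_mul]
    exact Ideal.mul_mem_left _ _ (ih _)

/-- A curve of genus one with Weierstrass coordinates is the cubic they satisfy. -/
theorem exists_iso {k : Type u} [Field k] {E : Scheme.{u}} [E.Over (Spec (CommRingCat.of k))]
    [IsProper (E ↘ Spec (CommRingCat.of k))] [IsIntegral E] [VBLib.IsRegCurve E]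
    (hdim : topologicalKrullDim E = 1) (h0 : Module.finrank k (Coh.HH E (Coh.structureModule E) 0) = 1)
    (hg : FunFld.genus k E.functionField = 1) {o : E} (ho : IsClosed ({o} : Set E))
    (hP : (placeOf k hdim o ho).deg = 1) {x y : E.functionField}
    (hx : x ∈ FunFld.L (Finsupp.single (placeOf k hdim o ho) 2))
    (hy : y ∈ FunFld.L (Finsupp.single (placeOf k hdim o ho) 3))
    (hxo : (placeOf k hdim o ho).ord x = -2) (hyo : (placeOf k hdim o ho).ord y = -3)
    (a₁ a₂ a₃ a₄ a₆ : k) (hW : aeval ![x, y, 1] (form a₁ a₂ a₃ a₄ a₆).1 = 0) :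
    ∃ e : E ≅ (LefPen.hypIdeal (form a₁ a₂ a₃ a₄ a₆)).subscheme,
      e.hom ≫ (LefPen.hypIdeal (form a₁ a₂ a₃ a₄ a₆)).subschemeι ≫ CohB1.ProjSpace.toSpec 2 k =
        E ↘ Spec (CommRingCat.of k) := by
  classical
  set W := form a₁ a₂ a₃ a₄ a₆ with hWdef
  haveI := EulerIneqLib.isNoetherian_proper (X := E) k
  haveI : IsProper (CohB1.ProjSpace.toSpec 2 k) := inferInstance
  have hK := isFunctionField k hdim h0
  set η := genericPoint E
  set P := placeOf k hdim o ho with hPdef
  let F : Fin (2 + 1) → E.functionField := ![x, y, 1]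
  have hx0 : x ≠ 0 := fun h => by rw [h, FF.ord_zero] at hxo; norm_num at hxo
  have hy0 : y ≠ 0 := fun h => by rw [h, FF.ord_zero] at hyo; norm_num at hyo
  have h3 : ∀ j : Fin (2 + 1), j = 0 ∨ j = 1 ∨ j = 2 := by decide
  have hF0 : ∀ j, F j ≠ 0 := fun j => by
    rcases h3 j with rfl | rfl | rfl
    · exact hx0
    · exact hy0
    · exact one_ne_zero
  -- the bound
  set D : FunFld.Divisor k E.functionField := Finsupp.single P 3 with hD
  have hFD : ∀ j R, 0 ≤ R.ord (F j) + D R := by
    intro j R
    have h : F j ∈ FunFld.L D := by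
      rcases h3 j with rfl | rfl | rfl
      · exact FF.L_mono (Finsupp.single_mono (by norm_num)) hx
      · exact hy
      · exact FF.one_mem_L (Finsupp.single_nonneg.2 (by norm_num))
    exact (FF.mem_L_iff_ord (hF0 j)).1 h R
  have hmax : ∀ R, ∃ j, R.ord (F j) + D R = 0 := by
    intro R
    rcases eq_or_ne R P with rfl | hR
    · exact ⟨1, by show P.ord y + _ = 0; rw [hD, Finsupp.single_eq_same, hyo]; norm_num⟩
    · exact ⟨2, by show R.ord 1 + _ = 0; rw [hD, Finsupp.single_eq_of_ne hR, FF.ord_one, add_zero]⟩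
  -- the morphism
  have hu : ∀ j, IsUnit (F j) := fun j => (hF0 j).isUnit
  let φ : Spec E.functionField ⟶ CohB1.ProjSpace 2 k := ProjMap.point (R := k) (A := (E.functionField : Type u)) F 2 (hu 2)
  have hφj : ∀ j, φ = ProjMap.point (R := k) F j (hu j) := fun j => ProjMap.point_chart F 2 j _ _
  have hφ : φ ≫ CohB1.ProjSpace.toSpec 2 k = E.fromSpecStalk η ≫ (E ↘ Spec (CommRingCat.of k)) := by
    rw [fromSpecStalk_over]
    exact ProjMap.point_toSpec F 2 (hu 2)
  obtain ⟨i, ⟨hig, hi⟩, -⟩ := existsUnique_hom_of_generic hdim (CohB1.ProjSpace.toSpec 2 k) φ hφ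
  -- the chart containing a point
  have hmemC : ∀ (z : E) (hz : IsClosed ({z} : Set E)) (j : Fin (2 + 1)),
      i z ∈ LefPen.chart 2 k j ↔ (placeOf k hdim z hz).ord (F j) + D (placeOf k hdim z hz) = 0 := by
    intro z hz j
    set R := placeOf k hdim z hz
    haveI := isDVR k hdim hz
    obtain ⟨m, hm⟩ := hmax R
    let w : Fin (2 + 1) → E.functionField := fun l => (F m)⁻¹ * F l
    have hw0 : ∀ l, w l ≠ 0 := fun l => mul_ne_zero (inv_ne_zero (hF0 m)) (hF0 l)
    have hwo : ∀ l, R.ord (w l) = R.ord (F l) - R.ord (F m) := fun l => by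
      rw [FF.ord_mul R (inv_ne_zero (hF0 m)) (hF0 l), FF.ord_inv]; ring
    have hlift : ∀ l, ∃ v : E.presheaf.stalk z, algebraMap _ E.functionField v = w l := fun l =>
      (placeOf_le_one_iff (k := k) hdim hz _).1 ((FF.v_le_one_iff R (hw0 l)).2 (by
        have := hFD l R; rw [hwo]; omega))
    choose v hv using hlift
    have hvu : ∀ l, IsUnit (v l) ↔ R.ord (F l) + D R = 0 := by
      intro l
      constructor
      · intro h
        obtain ⟨b, hb⟩ := h.exists_right_inv
        have h1 := congrArg (algebraMap _ E.functionField) hb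
        rw [map_mul, map_one, hv] at h1
        have hb1 : R.1 (algebraMap _ E.functionField b) ≤ 1 := (placeOf_le_one_iff (k := k) hdim hz _).2 ⟨b, rfl⟩
        have hb0 : algebraMap (E.presheaf.stalk z) E.functionField b ≠ 0 := fun h0 => by
          rw [h0, mul_zero] at h1; exact zero_ne_one h1
        have h2 := congrArg R.ord h1
        rw [FF.ord_mul R (hw0 l) hb0, FF.ord_one, hwo] at h2
        have h4 := (FF.v_le_one_iff R hb0).1 hb1
        have := hFD l R
        omega
      · intro h
        obtain ⟨b, hb⟩ := (placeOf_le_one_iff (k := k) hdim hz (w l)⁻¹).1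
          ((FF.v_le_one_iff R (inv_ne_zero (hw0 l))).2 (by rw [FF.ord_inv, hwo]; omega))
        refine IsUnit.of_mul_eq_one b (IsFractionRing.injective (E.presheaf.stalk z) E.functionField ?_)
        rw [map_mul, hv, hb, mul_inv_cancel₀ (hw0 l), map_one]
    have hvm : IsUnit (v m) := (hvu m).2 hm
    let ψ : Spec (E.presheaf.stalk z) ⟶ CohB1.ProjSpace 2 k :=
      ProjMap.point (R := k) (A := (E.presheaf.stalk z : Type u)) v m hvm
    have hsp : E.fromSpecStalk z ≫ i = ψ := by
      let f : E.presheaf.stalk z →+* E.functionField := algebraMap _ _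
      haveI : IsDominant (Spec.map (CommRingCat.ofHom f)) := by
        refine ⟨(PrimeSpectrum.denseRange_comap_iff_ker_le_nilRadical f).2 ?_⟩
        rw [(RingHom.injective_iff_ker_eq_bot f).1 (IsFractionRing.injective _ _)]
        exact bot_le
      refine ext_of_isDominant_of_isSeparated (CohB1.ProjSpace.toSpec 2 k) ?_ (Spec.map (CommRingCat.ofHom f)) ?_
      · rw [Category.assoc, hi, fromSpecStalk_over]
        exact (ProjMap.point_toSpec v m hvm).symm
      · have h1 : Spec.map (CommRingCat.ofHom f) ≫ E.fromSpecStalk z = E.fromSpecStalk η :=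
          Scheme.SpecMap_stalkSpecializes_fromSpecStalk (X := E) ((genericPoint_spec E).specializes trivial)
        rw [← Category.assoc, h1, hig]
        refine Eq.trans ?_ (ProjMap.specMap_point f (fun c => algebraMap_stalkMap z c) v m hvm).symm
        rw [hφj m]
        refine ((ProjMap.point_smul F (fun l => f (v l)) (F m)⁻¹ (fun l => hv l) m (hu m) (hvm.map f))).symm
    have hiz : i z = ψ (IsLocalRing.closedPoint _) := by
      rw [← hsp, Scheme.Hom.comp_apply, Scheme.fromSpecStalk_closedPoint]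
    rw [← hvu, hiz, ← Scheme.Hom.mem_preimage, ProjMap.point_preimage_basicOpen v m hvm one_pos (LefPen.X_mem 2 k j),
      aeval_X]
    show v j ∉ IsLocalRing.maximalIdeal (E.presheaf.stalk z) ↔ _
    rw [IsLocalRing.mem_maximalIdeal, mem_nonunits_iff, not_not]
  have hηC : ∀ j, i η ∈ LefPen.chart 2 k j := by
    intro j
    have h1 : i η = φ (IsLocalRing.closedPoint _) := by
      rw [← hig, Scheme.Hom.comp_apply, Scheme.fromSpecStalk_closedPoint]
    rw [h1, hφj j, ← Scheme.Hom.mem_preimage, ProjMap.point_preimage_basicOpen F j (hu j) one_pos (LefPen.X_mem 2 k j),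
      aeval_X]
    show F j ∉ IsLocalRing.maximalIdeal E.functionField
    rw [IsLocalRing.mem_maximalIdeal, mem_nonunits_iff, not_not]
    exact hu j
  -- finiteness
  have hncl : ¬ IsClosed ({i η} : Set (CohB1.ProjSpace 2 k)) := by
    intro hcl
    have hr : ∀ z, i z = i η := fun z => by
      have h : i η ⤳ i z := ((genericPoint_spec E).specializes (y := z) trivial).map i.continuous
      exact hcl.closure_eq.le h.mem_closure
    have h := (hmemC o ho 0).1 (hr o ▸ hηC 0)
    change P.ord x + D P = 0 at h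
    rw [hD, Finsupp.single_eq_same, hxo] at h
    norm_num at h
  haveI : IsFinite i := by
    refine Groth.Agent.S0219.result k E (CohB1.ProjSpace 2 k) (E ↘ Spec (CommRingCat.of k)) (CohB1.ProjSpace.toSpec 2 k) i hi hdim.le fun Z hZ _ => ?_
    obtain rfl : Z = Set.univ := by
      rw [irreducibleComponents_eq_singleton] at hZ
      exact hZ
    refine Set.nontrivial_of_mem_mem_ne ⟨o, trivial, rfl⟩ ⟨η, trivial, rfl⟩ fun h => hncl ?_
    haveI : IsProper (i ≫ CohB1.ProjSpace.toSpec 2 k) := by rw [hi]; infer_instance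
    haveI : IsProper i := IsProper.of_comp i (CohB1.ProjSpace.toSpec 2 k)
    rw [← h, ← Set.image_singleton]
    exact i.isClosedMap _ ho
  -- the chart rings
  let U : Fin (2 + 1) → E.Opens := fun j => i ⁻¹ᵁ LefPen.chart 2 k j
  have hV : ∀ j, IsAffineOpen (LefPen.chart 2 k j) := fun j =>
    Proj.isAffineOpen_basicOpen (CohB1.polyGrading 2 k) (X j) (LefPen.X_mem 2 k j) one_pos
  have hU : ∀ j, IsAffineOpen (U j) := fun j => (hV j).preimage i
  have hEj : ∀ j, (E.presheaf.germ (U j) η (hηC j)).hom.comp ((i.app (LefPen.chart 2 k j)).hom.comp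
      (Proj.awayToSection (CohB1.polyGrading 2 k) (X j)).hom) =
      ProjMap.evalAway (R := k) F (X j) (by rw [aeval_X]; exact hu j) := by
    intro j
    have hch : Spec.map (Proj.awayToSection (CohB1.polyGrading 2 k) (X j)) ≫ ProjMap.chart (R := k) j =
        (hV j).fromSpec := by
      rw [← cancel_epi (hV j).isoSpec.hom, IsAffineOpen.isoSpec_hom_fromSpec, IsAffineOpen.isoSpec_hom,
        ← Category.assoc]
      show ((Proj.basicOpenIsoSpec (CohB1.polyGrading 2 k) (X j) (ProjMap.X_mem j) one_pos).hom) ≫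
        (Proj.basicOpenIsoSpec (CohB1.polyGrading 2 k) (X j) (ProjMap.X_mem j) one_pos).inv ≫ _ = _
      rw [Iso.hom_inv_id_assoc]
    refine congrArg CommRingCat.Hom.hom (show Proj.awayToSection (CohB1.polyGrading 2 k) (X j) ≫
      i.app (LefPen.chart 2 k j) ≫ E.presheaf.germ (U j) η (hηC j) = CommRingCat.ofHom
        (ProjMap.evalAway (R := k) F (X j) (by rw [aeval_X]; exact hu j)) from Spec.map_injective ?_)
    rw [← cancel_mono (ProjMap.chart (R := k) j), Spec.map_comp, Spec.map_comp, Category.assoc, Category.assoc, hch,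
      Scheme.Hom.app_eq_appLE, (hV j).SpecMap_appLE_fromSpec i (hU j) le_rfl, ← Category.assoc]
    refine Eq.trans (congrArg (· ≫ i) ((hU j).fromSpecStalk_eq_fromSpecStalk (hηC j))) ?_
    exact hig.trans (hφj j)
  have hEv : ∀ j n (H : MvPolynomial (Fin (2 + 1)) k) (hH : H ∈ CohB1.polyGrading 2 k (n • 1)),
      E.presheaf.germ (U j) η (hηC j) (i.app (LefPen.chart 2 k j) ((Proj.awayToSection (CohB1.polyGrading 2 k) (X j))
        (HomogeneousLocalization.Away.mk (CohB1.polyGrading 2 k) (ProjMap.X_mem j) n H hH))) * F j ^ n =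
      aeval F H := by
    intro j n H hH
    have h := RingHom.congr_fun (hEj j) (HomogeneousLocalization.Away.mk (CohB1.polyGrading 2 k) (ProjMap.X_mem j) n H hH)
    have h2 := ProjMap.evalAway_mk (R := k) (v := F) (ProjMap.X_mem j) (by rw [aeval_X]; exact hu j) n H hH
    simp only [aeval_X] at h2
    rw [← h2, ← h]
    rfl
  haveI : ∀ j, Nonempty (U j) := fun j => ⟨⟨η, hηC j⟩⟩
  have hker : ∀ j, RingHom.ker (i.app (LefPen.chart 2 k j)).hom = Ideal.span {LefPen.dehom W j} := by
    intro j
    refine le_antisymm (fun a ha => ?_) ?_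
    · obtain ⟨b, rfl⟩ := (Proj.basicOpenIsoAway (CohB1.polyGrading 2 k) (X j) (ProjMap.X_mem j)
        one_pos).commRingCatIsoToRingEquiv.surjective a
      obtain ⟨n, H, hH, rfl⟩ := HomogeneousLocalization.Away.mk_surjective (CohB1.polyGrading 2 k) (ProjMap.X_mem j) b
      have h := hEv j n H hH
      rw [RingHom.mem_ker] at ha
      change i.app (LefPen.chart 2 k j) ((Proj.awayToSection (CohB1.polyGrading 2 k) (X j))
        (HomogeneousLocalization.Away.mk (CohB1.polyGrading 2 k) (ProjMap.X_mem j) n H hH)) = 0 at ha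
      rw [ha, map_zero, zero_mul] at h
      exact dehom_mul_mem j (mem_multiples hxo hyo hW (by rwa [smul_eq_mul, mul_one] at hH) h.symm) hH
    · rw [Ideal.span_singleton_le_iff_mem, RingHom.mem_ker]
      refine E.germToFunctionField_injective (U j) ?_
      rw [map_zero]
      have h := hEv j 3 W.1 (by rw [smul_eq_mul, mul_one]; exact W.2)
      rw [show aeval F W.1 = 0 from hW, mul_eq_zero] at h
      exact h.resolve_right (pow_ne_zero _ (hF0 j))
  have hsurj : ∀ j, Function.Surjective (i.app (LefPen.chart 2 k j)) := by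
    intro j a
    set f := E.presheaf.germ (U j) η (hηC j) a with hf
    rcases eq_or_ne f 0 with hf0 | hf0
    · exact ⟨0, E.germToFunctionField_injective (U j) (by rw [map_zero, map_zero]; exact hf0.symm)⟩
    obtain ⟨n, hn1, hn⟩ : ∃ n : ℕ, 1 ≤ n ∧ ∀ R : FunFld.Place k E.functionField, -(n : ℤ) ≤ R.ord f := by
      refine ⟨(∑ R ∈ (FunFld.div k f).support, (R.ord f).natAbs) + 1, by omega, fun R => ?_⟩
      rcases eq_or_ne (R.ord f) 0 with h | h
      · rw [h]; omega
      · have hs : R ∈ (FunFld.div k f).support := by rw [Finsupp.mem_support_iff, FF.div_apply hK]; exact h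
        have h7 : (R.ord f).natAbs ≤ ∑ R ∈ (FunFld.div k f).support, (R.ord f).natAbs :=
          Finset.single_le_sum (f := fun R : FunFld.Place k E.functionField => (R.ord f).natAbs)
            (fun _ _ => Nat.zero_le _) hs
        omega
    have hmem : f * F j ^ n ∈ FunFld.L (Finsupp.single P ((3 * n : ℕ) : ℤ)) := by
      refine (FF.mem_L_iff_ord (mul_ne_zero hf0 (pow_ne_zero _ (hF0 j)))).2 fun R => ?_
      obtain ⟨z, hz, rfl⟩ := placeOf_surjective hdim R
      set R := placeOf k hdim z hz
      have hDR : (Finsupp.single P ((3 * n : ℕ) : ℤ) : FunFld.Divisor k E.functionField) R = n * D R := by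
        rw [hD]
        rcases eq_or_ne R P with h | h
        · rw [h, Finsupp.single_eq_same, Finsupp.single_eq_same]; push_cast; ring
        · rw [Finsupp.single_eq_of_ne h, Finsupp.single_eq_of_ne h, mul_zero]
      rw [hDR, FF.ord_mul R hf0 (pow_ne_zero _ (hF0 j)), FF.ord_pow, add_assoc, ← mul_add]
      by_cases hzU : z ∈ U j
      · have h1 := (hmemC z hz j).1 hzU
        have h2 : 0 ≤ R.ord f := (FF.v_le_one_iff R hf0).1 ((placeOf_le_one_iff (k := k) hdim hz f).2
          ⟨E.presheaf.germ (U j) z hzU a,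
            TopCat.Presheaf.germ_stalkSpecializes_apply E.presheaf hzU ((genericPoint_spec E).specializes trivial) a⟩)
        rw [h1, mul_zero, add_zero]
        exact h2
      · have h1 : 1 ≤ R.ord (F j) + D R := by
          have := hFD j R
          have h2 : R.ord (F j) + D R ≠ 0 := fun h => hzU ((hmemC z hz j).2 h)
          omega
        have h2 := hn R
        have h5 : (n : ℤ) * 1 ≤ n * (R.ord (F j) + D R) := mul_le_mul_of_nonneg_left h1 (Int.natCast_nonneg n)
        omega
    obtain ⟨H, hH, hHf⟩ := exists_form_of_mem_L hK hg hP hx hy hxo hyo hn1 hmem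
    refine ⟨(Proj.awayToSection (CohB1.polyGrading 2 k) (X j))
      (HomogeneousLocalization.Away.mk (CohB1.polyGrading 2 k) (ProjMap.X_mem j) n H
        (by rw [smul_eq_mul, mul_one]; exact hH)), E.germToFunctionField_injective (U j) ?_⟩
    exact mul_right_cancel₀ (pow_ne_zero n (hF0 j)) ((hEv j n H _).trans hHf)
  have hcov : ⨆ j, (⟨LefPen.chart 2 k j, hV j⟩ : (CohB1.ProjSpace 2 k).affineOpens).1 = ⊤ :=
    AmpleEmb.iSup_stdOpen 2 k
  haveI : IsClosedImmersion i := by
    refine (HasAffineProperty.iff_of_iSup_eq_top (P := @IsClosedImmersion) (fun j => ⟨_, hV j⟩) hcov).2 fun j =>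
      ⟨hU j, ?_⟩
    show Function.Surjective (i ∣_ LefPen.chart 2 k j).appTop
    rw [morphismRestrict_appTop]
    have gen : ∀ V : (CohB1.ProjSpace 2 k).Opens, V = LefPen.chart 2 k j → Function.Surjective (i.app V) :=
      fun V hVe => hVe ▸ hsurj j
    intro b
    obtain ⟨c, rfl⟩ := (ConcreteCategory.bijective_of_isIso
      (E.presheaf.map (eqToHom (image_morphismRestrict_preimage i (LefPen.chart 2 k j) ⊤)).op)).2 b
    obtain ⟨d, rfl⟩ := gen _ (Scheme.Opens.ι_image_top _) c
    exact ⟨d, rfl⟩
  -- the ideal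
  have hideal : ∀ j, i.ker.ideal ⟨LefPen.chart 2 k j, hV j⟩ = Ideal.span {LefPen.dehom W j} := fun j => by
    rw [Scheme.Hom.ker_apply, hker]
  haveI : (CohB1.ProjSpace 2 k).IsSeparated := ⟨by
    rw [← terminal.comp_from (CohB1.ProjSpace.toSpec 2 k)]; infer_instance⟩
  have heq : i.ker = LefPen.hypIdeal W := by
    refine le_antisymm (Scheme.IdealSheafData.le_ofIdeals_iff.2 fun V => ?_)
      (Scheme.IdealSheafData.le_of_iSup_eq_top (fun j => ⟨_, hV j⟩) hcov fun j => ?_)
    · refine le_iInf fun j => ?_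
      rw [← Ideal.map_le_iff_le_comap]
      have hVj : IsAffineOpen (V.1 ⊓ LefPen.chart 2 k j) := V.2.inf (hV j)
      have e1 := i.ker.map_ideal' (U := ⟨_, hVj⟩) (V := V) (homOfLE (inf_le_left : V.1 ⊓ LefPen.chart 2 k j ≤ V.1)).op
      have e2 := i.ker.map_ideal' (U := ⟨_, hVj⟩) (V := ⟨_, hV j⟩)
        (homOfLE (inf_le_right : V.1 ⊓ LefPen.chart 2 k j ≤ LefPen.chart 2 k j)).op
      rw [hideal, Ideal.map_span, Set.image_singleton] at e2
      exact (e1.trans e2.symm).le
    · rw [hideal]
      refine ((Scheme.IdealSheafData.ideal_ofIdeals_le _ _).trans (iInf_le _ j)).trans fun a ha => ?_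
      rw [Ideal.mem_comap, Ideal.mem_span_singleton] at ha
      have hid : ∀ (V : (CohB1.ProjSpace 2 k).Opens) (hV : V = LefPen.chart 2 k j) (h : V ≤ LefPen.chart 2 k j)
          (a b : Γ(CohB1.ProjSpace 2 k, LefPen.chart 2 k j)),
          (CohB1.ProjSpace 2 k).presheaf.map (homOfLE h).op b ∣ (CohB1.ProjSpace 2 k).presheaf.map (homOfLE h).op a →
            b ∣ a := by
        rintro V rfl h a b hd
        simpa using hd
      exact Ideal.mem_span_singleton.2 (hid _ (inf_idem _) inf_le_right a _ ha)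
  rw [← heq]
  refine ⟨asIso i.toImage, ?_⟩
  show i.toImage ≫ i.imageι ≫ _ = _
  rw [← Category.assoc, Scheme.Hom.toImage_imageι, hi]

end Weier

end Groth.Agent.CurveFF
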